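import Cfsg.Agent.TwoTransAFive.CaseDirect

/-!
# The case of the symmetric group of degree five
-/

set_option autoImplicit false

namespace CfsgLib.TwoTransAFive

open MulAction CfsgLib.Perm.SharplyTwo

variable {G : Type*} [Group G] {Ω : Type*} [MulAction G Ω] [Finite G] [Finite Ω] {a b : Ω}

section

variable (S : Hyp (G := G) (a := a) (b := b)) {e : ↥(stabilizer G a ⊓ stabilizer G b) ≃* AFive}
  (D : CaseSym e)
include S D

theorem CaseSym.ten : es e = 10 := by
  classical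
  obtain ⟨-, hrel⟩ := S.count e
  have hflt := S.f_lt e
  have hodd : ∀ x : ↥(pairGrp (G := G) a b), Equiv.Perm.sign (pairPerm e x) = -1 →
      (x : G) • a = b := fun x hx => by
    rcases x.2 with ⟨h1, h2⟩ | ⟨h1, -⟩
    · rw [pairPerm_sign_stab e h1 h2] at hx
      exact absurd hx (by decide)
    · exact h1
  -- some involutive swapper is in the class, hence all of them
  obtain ⟨x₀, hx₀, hx₀a⟩ : {x ∈ eI e | x • a = b}.Nonempty := by
    rw [Set.nonempty_iff_ne_empty]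
    intro h0
    rw [es, h0, Set.ncard_empty, zero_mul] at hrel
    omega
  set X₀ : ↥(pairGrp (G := G) a b) := ⟨x₀, Or.inr ⟨hx₀a, swap_of_eI e hx₀ hx₀a⟩⟩ with hX₀
  have hall : ∀ x : ↥(pairGrp (G := G) a b), Equiv.Perm.sign (pairPerm e x) = -1 →
      pairPerm e x * pairPerm e x = 1 → (x : G) ∈ eI e := by
    intro x hx hx2
    obtain ⟨h, hh, hhe⟩ := conj_odd _ hx hx2
    obtain ⟨h₀, hh₀, hh₀e⟩ := conj_odd (pairPerm e X₀) (D.sign_swap X₀ hx₀a) (by
      rw [← map_mul, ← map_one (pairPerm e)]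
      exact congrArg _ (Subtype.ext (eI_sq e hx₀)))
    obtain ⟨k, hk⟩ := D.surj (h * h₀⁻¹)
    have hxk : x = k * X₀ * k⁻¹ := D.inj (by rw [map_mul, map_mul, map_inv, hk, ← hh₀e, ← hhe]; group)
    rw [hxk]
    exact conj_mem_eI e (k : G) _ hx₀
  rw [← card_invol_odd, es, ← Set.ncard_coe_finset]
  refine Set.ncard_congr (fun x hx => pairPerm e ⟨x, Or.inr ⟨hx.2, swap_of_eI e hx.1 hx.2⟩⟩)
    (fun x hx => Finset.mem_coe.2 (Finset.mem_filter.2 ⟨Finset.mem_univ _, D.sign_swap _ hx.2, ?_⟩))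
    (fun x y hx hy h => congrArg Subtype.val (D.inj h)) fun σ hσ => ?_
  · rw [← map_mul, ← map_one (pairPerm e)]
    exact congrArg _ (Subtype.ext (eI_sq e hx.1))
  · obtain ⟨-, hsign, hsq⟩ := Finset.mem_filter.1 hσ
    obtain ⟨x, rfl⟩ := D.surj σ
    exact ⟨x, ⟨hall x hsign hsq, hodd x hsign⟩, rfl⟩

theorem CaseSym.no_both {u : G} (hua : u • a = b) (hub : u • b = a) (hui : u * ei e = ei e * u)
    (hu : u * u = 1) : u * ej e * (u * ej e) ≠ 1 := by
  intro h
  set U : ↥(pairGrp (G := G) a b) := ⟨u, Or.inr ⟨hua, hub⟩⟩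
  set I' : ↥(pairGrp (G := G) a b) := ⟨ei e, Or.inl (ei_fix e)⟩
  set J' : ↥(pairGrp (G := G) a b) := ⟨ej e, Or.inl (ej_fix e)⟩
  have hI : pairPerm e I' = si := by
    refine (pairPerm_stab e (e.symm ai).2).trans ?_
    show ((e (e.symm ai) : AFive) : SFive) = si
    rw [e.apply_symm_apply]; rfl
  have hJ : pairPerm e J' = sj := by
    refine (pairPerm_stab e (e.symm aj).2).trans ?_
    show ((e (e.symm aj) : AFive) : SFive) = sj
    rw [e.apply_symm_apply]; rfl
  refine odd_swapper (pairPerm e U) (D.sign_swap U hua) ?_ ?_ ?_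
  · rw [← hI, ← map_mul, ← map_mul]
    exact congrArg _ (Subtype.ext hui)
  · rw [← map_mul, ← map_one (pairPerm e)]
    exact congrArg _ (Subtype.ext hu)
  · rw [← hJ, ← map_mul, ← map_mul, ← map_one (pairPerm e)]
    exact congrArg _ (Subtype.ext h)

/-- The preimage of the transposition `(0 1)`. -/
theorem CaseSym.exists_transp : ∃ w : G, w ∈ Subgroup.centralizer ({ei e} : Set G) ∧ w • a = b ∧ w • b = a ∧
    w * w = 1 ∧ w * ej e * w⁻¹ = ei e * ej e := by
  obtain ⟨W, hW⟩ := D.surj (Equiv.swap 0 1)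
  have hI : pairPerm e ⟨ei e, Or.inl (ei_fix e)⟩ = si := by
    refine (pairPerm_stab e (e.symm ai).2).trans ?_
    show ((e (e.symm ai) : AFive) : SFive) = si
    rw [e.apply_symm_apply]; rfl
  have hJ : pairPerm e ⟨ej e, Or.inl (ej_fix e)⟩ = sj := by
    refine (pairPerm_stab e (e.symm aj).2).trans ?_
    show ((e (e.symm aj) : AFive) : SFive) = sj
    rw [e.apply_symm_apply]; rfl
  have hswap : (W : G) • a = b ∧ (W : G) • b = a := by
    rcases W.2 with ⟨h1, h2⟩ | h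
    · have := pairPerm_sign_stab e h1 h2
      rw [hW, swap_facts.1] at this
      exact absurd this (by decide)
    · exact h
  refine ⟨W, Subgroup.mem_centralizer_singleton_iff.2 ?_, hswap.1, hswap.2, ?_, ?_⟩
  · exact congrArg Subtype.val (D.inj (a₁ := W * ⟨ei e, Or.inl (ei_fix e)⟩)
      (a₂ := ⟨ei e, Or.inl (ei_fix e)⟩ * W) (by rw [map_mul, map_mul, hW, hI]; exact swap_facts.2.1))
  · exact congrArg Subtype.val (D.inj (a₁ := W * W) (a₂ := 1) (by
      rw [map_mul, map_one, hW]; exact Equiv.swap_mul_self 0 1))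
  · exact congrArg Subtype.val (D.inj (a₁ := W * ⟨ej e, Or.inl (ej_fix e)⟩ * W⁻¹)
      (a₂ := ⟨ei e, Or.inl (ei_fix e)⟩ * ⟨ej e, Or.inl (ej_fix e)⟩) (by
        rw [map_mul, map_mul, map_mul, map_inv, hW, hI, hJ]; exact swap_facts.2.2))

/-- When `g` is even the four-group fixes two points. -/
theorem CaseSym.eg_le_two (hev : Even (eg e)) : eg e ≤ 2 := by
  classical
  by_contra hcon
  obtain ⟨w, hwC, hwa, hwb, hwsq, hwj⟩ := D.exists_transp S
  set R := Subgroup.centralizer ({ei e} : Set G) ⊓ Subgroup.normalizer (eV e : Set G) with hR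
  set F := fixedBy Ω (ei e) ∩ fixedBy Ω (ej e) with hF
  have PR := S.pair_R e
  set φ := actOn R F PR.maps with hφ
  have haF : a ∈ F := ⟨(ei_fix e).1, (ej_fix e).1⟩
  have hbF : b ∈ F := ⟨(ei_fix e).2, (ej_fix e).2⟩
  haveI : Nontrivial ↥F := ⟨⟨⟨a, haF⟩, ⟨b, hbF⟩, fun h => S.hab (congrArg Subtype.val h)⟩⟩
  have h2 := PR.two
  have hfixV : ∀ k ∈ R, k • a = a → k • b = b → k ∈ eV e := fun k hk hka hkb =>
    (S.C_pair_stab e).le (Subgroup.mem_inf.2 ⟨Subgroup.mem_inf.2 ⟨(Subgroup.mem_inf.1 hk).1, hka⟩, hkb⟩)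
  have hs := PR.sharp haF hbF S.hab fun k hk hka hkb x hx => fix_of_mem_eV e (hfixV k hk hka hkb) hx
  have hiV := ei_mem_eV e
  have hjV := ej_mem_eV e
  -- conjugation of `ej` by `R`
  have hconj : ∀ k ∈ R, k * ej e * k⁻¹ = ej e ∨ k * ej e * k⁻¹ = ei e * ej e := fun k hk => by
    obtain ⟨hkC, hkN⟩ := Subgroup.mem_inf.1 hk
    have hki := Subgroup.mem_centralizer_singleton_iff.1 hkC
    rcases mem_four.1 ((Subgroup.mem_normalizer_iff.1 hkN _).1 hjV) with h | h | h | h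
    · exact absurd (conj_eq_one_iff.1 h) (ej_ne_one e)
    · exact absurd (by
        calc ei e = k⁻¹ * (k * ei e) := by group
          _ = k⁻¹ * (ei e * k) := by rw [hki]
          _ = k⁻¹ * (k * ej e * k⁻¹ * k) := by rw [h]
          _ = ej e := by group) (ei_ne_ej e)
    · exact Or.inl h
    · exact Or.inr h
  set X' := ((R ⊓ Subgroup.centralizer ({ej e} : Set G)).subgroupOf R).map φ.rangeRestrict with hX'
  have hsq : ∀ k : ↥φ.range, k * k ∈ X' := by
    intro k
    obtain ⟨c, rfl⟩ := φ.rangeRestrict_surjective k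
    refine ⟨c * c, Subgroup.mem_inf.2 ⟨(c * c).2, Subgroup.mem_centralizer_singleton_iff.2
      (mul_inv_eq_iff_eq_mul.1 ?_)⟩, map_mul _ c c⟩
    show (c : G) * c * ej e * ((c : G) * c)⁻¹ = ej e
    rw [show (c : G) * c * ej e * ((c : G) * c)⁻¹ = c * (c * ej e * (c : G)⁻¹) * (c : G)⁻¹ by group]
    rcases hconj c c.2 with h | h
    · rw [h, h]
    · have hci := Subgroup.mem_centralizer_singleton_iff.1 (Subgroup.mem_inf.1 c.2).1
      rw [h, show (c : G) * (ei e * ej e) * (c : G)⁻¹ =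
        (c : G) * ei e * (c : G)⁻¹ * (c * ej e * (c : G)⁻¹) by group, hci, mul_inv_cancel_right, h,
        ← mul_assoc, ei_sq, one_mul]
  -- the image of `w` is a translation
  have hwN : w ∈ Subgroup.normalizer (eV e : Set G) := by
    have hmap : (eV e).map (MulAut.conj w).toMonoidHom = eV e :=
      Subgroup.eq_of_le_of_card_ge (Subgroup.map_le_iff_le_comap.2 (four_le _ _ _
        (show w * ei e * w⁻¹ ∈ eV e by
          rw [Subgroup.mem_centralizer_singleton_iff.1 hwC, mul_inv_cancel_right]; exact hiV)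
        (show w * ej e * w⁻¹ ∈ eV e by rw [hwj]; exact mul_mem hiV hjV)))
        (le_of_eq (Subgroup.card_map_of_injective (MulAut.conj w).injective).symm)
    refine Subgroup.mem_normalizer_iff.2 fun x => ⟨fun hx => hmap ▸ ⟨x, hx, rfl⟩, fun hx => ?_⟩
    obtain ⟨y, hy, hye⟩ := hmap.symm ▸ hx
    exact (mul_left_cancel (mul_right_cancel hye) : y = x) ▸ hy
  have hwR : w ∈ R := Subgroup.mem_inf.2 ⟨hwC, hwN⟩
  set τ := φ.rangeRestrict ⟨w, hwR⟩ with hτ
  have hτsq : τ * τ = 1 := by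
    rw [hτ, ← map_mul, ← map_one φ.rangeRestrict]
    exact congrArg _ (Subtype.ext hwsq)
  have hτ1 : τ ≠ 1 := fun h => by
    have h' : φ ⟨w, hwR⟩ = 1 := congrArg Subtype.val h
    have := (mem_ker_actOn PR.maps).1 (MonoidHom.mem_ker.2 h') a haF
    exact S.hab (this.symm.trans hwa)
  have hcardF : Nat.card ↥F = eg e := Nat.card_coe_set_eq F
  have hτk : τ ∈ kernel h2 hs := Or.inr fun c hc => by
    have hsub : ∀ d ∈ fixedBy ↥F τ, d = c := fun d hd => by
      by_contra hne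
      exact hτ1 (hs τ d c hne hd hc)
    have h := modEq_fixedBy (α := ↥F) hτsq
    rw [show fixedBy ↥F τ = {c} from Set.eq_singleton_iff_unique_mem.2 ⟨hc, hsub⟩,
      Set.ncard_singleton, hcardF] at h
    obtain ⟨i, hi⟩ := hev
    have h' : eg e % 2 = 1 % 2 := h
    omega
  -- a nontrivial element of odd order fixing `a`
  haveI := finite_group h2 hs
  set a' : ↥F := ⟨a, haF⟩
  have hst : Nat.card ↥(stabilizer ↥φ.range a') + 1 = eg e :=
    (card_stabilizer_add_one h2 hs a').trans hcardF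
  obtain ⟨⟨h, hh⟩, hh1⟩ : ∃ h : ↥(stabilizer ↥φ.range a'), h ≠ 1 := by
    haveI : Nontrivial ↥(stabilizer ↥φ.range a') := Finite.one_lt_card_iff_nontrivial.1 (by omega)
    exact exists_ne 1
  have hhsq : ∀ y : ↥φ.range, y * h * y⁻¹ ∈ X' := by
    intro y
    have ho : Odd (orderOf h) := by
      refine Odd.of_dvd_nat (n := Nat.card ↥(stabilizer ↥φ.range a')) (Nat.odd_iff.2 ?_) ?_
      · have := Nat.even_iff.1 hev; omega
      · rw [← Subgroup.orderOf_mk h hh]; exact orderOf_dvd_natCard _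
    obtain ⟨j, hj⟩ := ho
    rw [show y * h * y⁻¹ = (y * h ^ (j + 1) * y⁻¹) * (y * h ^ (j + 1) * y⁻¹) by
      rw [show y * h ^ (j + 1) * y⁻¹ * (y * h ^ (j + 1) * y⁻¹) = y * (h ^ (j + 1) * h ^ (j + 1)) * y⁻¹ by
        group, ← pow_add, show j + 1 + (j + 1) = orderOf h + 1 by omega, pow_succ, pow_orderOf_eq_one,
        one_mul]]
    exact hsq _
  -- translations are commutators, hence in the image of the centraliser of `ej`
  have hkX : ∀ y ∈ kernel h2 hs, y ∈ X' := by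
    haveI hKn := kernel_normal h2 hs
    let ψ : ↥(kernel h2 hs) → ↥(kernel h2 hs) := fun y =>
      ⟨(y : ↥φ.range) * h * (y : ↥φ.range)⁻¹ * h⁻¹, by
        rw [show (y : ↥φ.range) * h * (y : ↥φ.range)⁻¹ * h⁻¹ =
          (y : ↥φ.range) * (h * (y : ↥φ.range)⁻¹ * h⁻¹) by group]
        exact mul_mem y.2 (hKn.conj_mem _ (inv_mem y.2) h)⟩
    have hψ : Function.Injective ψ := by
      rintro ⟨y, hy⟩ ⟨y', hy'⟩ he
      have he' : y * h * y⁻¹ * h⁻¹ = y' * h * y'⁻¹ * h⁻¹ := congrArg Subtype.val he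
      have h1 : y'⁻¹ * y * h = h * (y'⁻¹ * y) := by
        calc y'⁻¹ * y * h = y'⁻¹ * (y * h * y⁻¹ * h⁻¹) * h * y := by group
          _ = y'⁻¹ * (y' * h * y'⁻¹ * h⁻¹) * h * y := by rw [he']
          _ = h * (y'⁻¹ * y) := by group
      by_contra hne
      have hd : y'⁻¹ * y ≠ 1 := fun e' => hne (Subtype.ext (inv_mul_eq_one.1 e').symm)
      have hfree := (mul_mem (inv_mem hy') hy : y'⁻¹ * y ∈ kernel h2 hs).resolve_left hd
      refine hh1 (Subtype.ext (kernel_free h2 hs (centralizer_subset h2 hs hfree h1.symm) (a := a') hh))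
    intro y hy
    obtain ⟨x, hx⟩ := (Finite.injective_iff_surjective.1 hψ) ⟨y, hy⟩
    have hx' : (x : ↥φ.range) * h * (x : ↥φ.range)⁻¹ * h⁻¹ = y := congrArg Subtype.val hx
    rw [← hx']
    exact mul_mem (hhsq x) (inv_mem (by simpa using hhsq 1))
  obtain ⟨c, hc, hce⟩ := hkX τ hτk
  obtain ⟨hcR, hcj⟩ := Subgroup.mem_inf.1 (hc : (c : G) ∈ R ⊓ Subgroup.centralizer ({ej e} : Set G))
  have hker : φ (c⁻¹ * ⟨w, hwR⟩) = 1 := by
    have : φ.rangeRestrict (c⁻¹ * ⟨w, hwR⟩) = 1 := by rw [map_mul, map_inv, hce, ← hτ, inv_mul_cancel]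
    exact congrArg Subtype.val this
  have hfix := (mem_ker_actOn PR.maps).1 (MonoidHom.mem_ker.2 hker)
  have hV : (c : G)⁻¹ * w ∈ eV e :=
    hfixV _ (mul_mem (inv_mem c.2) hwR) (hfix a haF) (hfix b hbF)
  have hjcomm : (c : G)⁻¹ * w ∈ Subgroup.centralizer ({ej e} : Set G) :=
    four_le _ _ _ (Subgroup.mem_centralizer_singleton_iff.2 (ei_ej e).eq)
      (Subgroup.mem_centralizer_singleton_iff.2 rfl) hV
  have hwjc : w ∈ Subgroup.centralizer ({ej e} : Set G) := by simpa using mul_mem hcj hjcomm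
  have h1 := Subgroup.mem_centralizer_singleton_iff.1 hwjc
  rw [h1, mul_inv_cancel_right] at hwj
  exact ei_ne_one e (mul_eq_right.1 hwj.symm)

end

/-- **The classification.** -/
theorem Hyp.conclusion (S : Hyp (G := G) (a := a) (b := b))
    (e : ↥(stabilizer G a ⊓ stabilizer G b) ≃* AFive) :
    (Nat.card Ω = 7 ∧ Nonempty (G ≃* ↥(alternatingGroup (Fin 7)))) ∨
      (Nat.card Ω = 12 ∧ IsSimpleGroup G ∧ Nat.card G = 7920) := by
  rcases case_split S.two S.hab e with D | ⟨t, D⟩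
  swap
  · exact (D.false_all S e).elim
  obtain ⟨-, hrel⟩ := S.count e
  rw [D.ten S] at hrel
  have hflt := S.f_lt e
  have hf2 := S.two_le_f e
  rcases (eg_le_ef e).lt_or_eq with hlt | he
  · obtain ⟨u, hui, hua, hub, huI, huiI, hcase⟩ := S.small_cases e hlt
    rcases hcase with ⟨hsq, hodd⟩ | ⟨-, hjI, -, -, -⟩
    · obtain ⟨q, k, hq, hk, hg⟩ := S.fix_prime_pow e
      rcases Nat.even_or_odd (eg e) with hev | ho
      · have h2 : eg e = 2 := by
          have := D.eg_le_two S hev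
          have : 2 ≤ eg e := hg ▸ hq.two_le.trans (le_self_pow₀ hq.one_le (by omega))
          omega
        rw [hsq, h2] at hrel hflt
        norm_num at hrel
        have hn : Nat.card Ω = 12 := by omega
        exact Or.inr ⟨hn, S.mathieu_twelve e hn⟩
      · obtain ⟨p, P, R⟩ := hodd ho
        obtain ⟨w, hw, -, -, -, hwj⟩ := D.exists_transp S
        exact (S.false_of_square_odd e (Or.inl rfl) hrel hsq hlt R fun _ => ⟨w, hw, hwj⟩).elim
    · exact absurd (eI_sq e hjI) (D.no_both S hua hub hui (eI_sq e huI))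
  · obtain ⟨p, m, hp, -, hfp⟩ := S.prime_pow_of_eq e he
    have hn := (eq_arith hp hfp hflt.le hf2 (Or.inr (Or.inl rfl)) hrel (he ▸ S.dvd_point e)
      (he ▸ S.dvd_all e)).2
    exact Or.inl ⟨hn, S.alt_seven e hn⟩

end CfsgLib.TwoTransAFive
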