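import Cfsg.Agent.AutAlt.Basic

/-!
# Finite facts about the alternating and symmetric groups of degree five
-/

set_option autoImplicit false

namespace CfsgLib.TwoTransAFive

open Equiv

/-- The symmetric group of degree five. -/
abbrev SFive : Type := Perm (Fin 5)

/-- The alternating group of degree five. -/
abbrev AFive : Type := ↥(alternatingGroup (Fin 5))

/-- The involution `(0 1)(2 3)`. -/
def si : SFive := swap 0 1 * swap 2 3

/-- The involution `(0 2)(1 3)`. -/
def sj : SFive := swap 0 2 * swap 1 3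

/-- The four-group containing them. -/
def sV : Finset SFive := {1, si, sj, si * sj}

theorem conj_si : ∀ x : SFive, Perm.sign x = 1 → x * x = 1 → x ≠ 1 →
    ∃ h : SFive, Perm.sign h = 1 ∧ h * si * h⁻¹ = x := by decide +kernel

theorem cent_si : ∀ x : SFive, Perm.sign x = 1 → x * si = si * x → x ∈ sV := by decide +kernel

theorem card_norm_sV :
    (Finset.univ.filter fun h : SFive => Perm.sign h = 1 ∧ ∀ v ∈ sV, h * v * h⁻¹ ∈ sV).card = 12 := by
  decide +kernel

theorem card_invol_even :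
    (Finset.univ.filter fun x : SFive => Perm.sign x = 1 ∧ x * x = 1 ∧ x ≠ 1).card = 15 := by
  decide +kernel

theorem card_invol_odd :
    (Finset.univ.filter fun x : SFive => Perm.sign x = -1 ∧ x * x = 1).card = 10 := by
  decide +kernel

theorem odd_swapper : ∀ x : SFive, Perm.sign x = -1 → x * si = si * x → x * x = 1 →
    (x * sj) * (x * sj) ≠ 1 := by decide +kernel

theorem conj_odd : ∀ x : SFive, Perm.sign x = -1 → x * x = 1 →
    ∃ h : SFive, Perm.sign h = 1 ∧ h * swap 0 1 * h⁻¹ = x := by decide +kernel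

theorem si_facts : Perm.sign si = 1 ∧ Perm.sign sj = 1 ∧ si * si = 1 ∧ sj * sj = 1 ∧ si * sj = sj * si ∧
    si ≠ 1 ∧ sj ≠ 1 ∧ si ≠ sj := by decide +kernel

theorem swap_facts : Perm.sign (swap (0 : Fin 5) 1) = -1 ∧ swap (0 : Fin 5) 1 * si = si * swap 0 1 ∧
    swap (0 : Fin 5) 1 * sj * (swap 0 1)⁻¹ = si * sj := by decide +kernel

/-- `si` in the alternating group. -/
def ai : AFive := ⟨si, Perm.mem_alternatingGroup.2 si_facts.1⟩

/-- `sj` in the alternating group. -/
def aj : AFive := ⟨sj, Perm.mem_alternatingGroup.2 si_facts.2.1⟩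

theorem ai_facts : ai * ai = 1 ∧ aj * aj = 1 ∧ ai * aj = aj * ai ∧ ai ≠ 1 ∧ aj ≠ 1 ∧ ai ≠ aj :=
  ⟨Subtype.ext si_facts.2.2.1, Subtype.ext si_facts.2.2.2.1, Subtype.ext si_facts.2.2.2.2.1,
    fun h => si_facts.2.2.2.2.2.1 (congrArg Subtype.val h),
    fun h => si_facts.2.2.2.2.2.2.1 (congrArg Subtype.val h),
    fun h => si_facts.2.2.2.2.2.2.2 (congrArg Subtype.val h)⟩

/-- The four-group of `AFive`. -/
def aV : Finset AFive := {1, ai, aj, ai * aj}

theorem mem_aV {x : AFive} : x ∈ aV ↔ (x : SFive) ∈ sV := by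
  simp only [aV, sV, Finset.mem_insert, Finset.mem_singleton, Subtype.ext_iff, Subgroup.coe_one,
    Subgroup.coe_mul, ai, aj]

theorem conj_ai (x : AFive) (hx : x * x = 1) (hx1 : x ≠ 1) : ∃ h : AFive, h * ai * h⁻¹ = x := by
  obtain ⟨h, hh, he⟩ := conj_si x (Perm.mem_alternatingGroup.1 x.2) (congrArg Subtype.val hx)
    (fun e => hx1 (Subtype.ext e))
  exact ⟨⟨h, Perm.mem_alternatingGroup.2 hh⟩, Subtype.ext he⟩

theorem cent_ai (x : AFive) (hx : x * ai = ai * x) : x = 1 ∨ x = ai ∨ x = aj ∨ x = ai * aj := by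
  have h := mem_aV.2 (cent_si x (Perm.mem_alternatingGroup.1 x.2) (congrArg Subtype.val hx))
  simpa [aV] using h

theorem card_norm_aV :
    Nat.card {h : AFive // ∀ v ∈ aV, h * v * h⁻¹ ∈ aV} = 12 := by
  rw [← card_norm_sV, ← Nat.card_eq_finsetCard]
  refine Nat.card_congr
    { toFun := fun h => ⟨h.1, Finset.mem_filter.2 ⟨Finset.mem_univ _, Perm.mem_alternatingGroup.1 h.1.2,
        fun v hv => ?_⟩⟩
      invFun := fun h => ⟨⟨h.1, Perm.mem_alternatingGroup.2 (Finset.mem_filter.1 h.2).2.1⟩, fun v hv =>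
        mem_aV.2 ((Finset.mem_filter.1 h.2).2.2 v (mem_aV.1 hv))⟩
      left_inv := fun h => rfl
      right_inv := fun h => rfl }
  have hvA : v ∈ alternatingGroup (Fin 5) := by
    have : ∀ u ∈ sV, Perm.sign u = 1 := by decide +kernel
    exact Perm.mem_alternatingGroup.2 (this v hv)
  exact mem_aV.1 (h.2 ⟨v, hvA⟩ (mem_aV.2 hv))

theorem card_invol_aFive : {x : AFive | x * x = 1 ∧ x ≠ 1}.ncard = 15 := by
  rw [← card_invol_even, ← Nat.card_coe_set_eq, ← Nat.card_eq_finsetCard]
  exact Nat.card_congr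
    { toFun := fun x => ⟨x.1, Finset.mem_filter.2 ⟨Finset.mem_univ _, Perm.mem_alternatingGroup.1 x.1.2,
        congrArg Subtype.val x.2.1, fun e => x.2.2 (Subtype.ext e)⟩⟩
      invFun := fun x => ⟨⟨x.1, Perm.mem_alternatingGroup.2 (Finset.mem_filter.1 x.2).2.1⟩,
        Subtype.ext (Finset.mem_filter.1 x.2).2.2.1,
        fun e => (Finset.mem_filter.1 x.2).2.2.2 (congrArg Subtype.val e)⟩
      left_inv := fun x => rfl
      right_inv := fun x => rfl }

/-- Automorphisms of `AFive` are the permutations of the five points. -/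
noncomputable def autEquiv : SFive ≃* MulAut AFive :=
  MulEquiv.ofBijective MulAut.conjNormal
    (CfsgLib.AutAlt.conjNormal_bijective (by simp) (by simp))

theorem autEquiv_apply (σ : SFive) (x : AFive) : ((autEquiv σ x : AFive) : SFive) = σ * x * σ⁻¹ :=
  MulAut.conjNormal_apply σ x

/-- A permutation inducing an inner automorphism is that element. -/
theorem autEquiv_symm_conj (h : AFive) : autEquiv.symm (MulAut.conj h) = (h : SFive) := by
  rw [MulEquiv.symm_apply_eq]
  ext1 x
  exact Subtype.ext (by rw [autEquiv_apply]; rfl)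

end CfsgLib.TwoTransAFive
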