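import Mathlib.Tactic
import Mathlib.Data.Nat.Prime.Pow
import Mathlib.Data.Nat.ModEq

/-!
# The arithmetic of the counting relations
-/

set_option autoImplicit false

namespace CfsgLib.TwoTransAFive

/-- The relation `15 (n - f) = s f (f - 1)` in product form. -/
theorem rel_forms {n f s : ℕ} (hfn : f ≤ n) (hf : 2 ≤ f) (h : 15 * (n - f) = s * (f * (f - 1))) :
    15 * n = f * (15 + s * (f - 1)) ∧ 15 * (n - 1) = (f - 1) * (15 + s * f) := by
  obtain ⟨f', rfl⟩ : ∃ f', f = f' + 1 := ⟨f - 1, by omega⟩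
  obtain ⟨n', rfl⟩ : ∃ n', n = n' + 1 := ⟨n - 1, by omega⟩
  rw [Nat.add_sub_cancel] at h ⊢
  rw [show n' + 1 - (f' + 1) = n' - f' by omega] at h
  rw [Nat.add_sub_cancel]
  zify [show f' ≤ n' by omega] at h ⊢
  exact ⟨by linear_combination h, by linear_combination h⟩

/-- The four-group fixes all fixed points of its involutions: then `f = 3`. -/
theorem eq_arith {n f s p m : ℕ} (hp : p.Prime) (hfp : f = p ^ m) (hfn : f ≤ n) (hf : 2 ≤ f)
    (hs : s = 1 ∨ s = 10 ∨ s = 16) (h : 15 * (n - f) = s * (f * (f - 1)))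
    (hd1 : (f - 1) * 12 ∣ (n - 1) * 60) (hd2 : f * ((f - 1) * 12) ∣ n * ((n - 1) * 60)) :
    s = 10 ∧ n = 7 := by
  obtain ⟨hA, hB⟩ := rel_forms hfn hf h
  have hs3 : Nat.Coprime 3 s := by rcases hs with rfl | rfl | rfl <;> norm_num
  have h1 : 3 ∣ 15 + s * f := by
    have h60 : (n - 1) * 60 = (f - 1) * (4 * (15 + s * f)) := by linear_combination 4 * hB
    rw [h60] at hd1
    have h2 := Nat.dvd_of_mul_dvd_mul_left (by omega) hd1
    exact (show Nat.Coprime 3 4 by norm_num).dvd_of_dvd_mul_left (Dvd.dvd.trans (by norm_num) h2)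
  have h3f : 3 ∣ f := hs3.dvd_of_dvd_mul_left ((Nat.dvd_add_right (by norm_num)).1 h1)
  obtain rfl : p = 3 := ((Nat.prime_dvd_prime_iff_eq Nat.prime_three hp).1
    (Nat.prime_three.dvd_of_dvd_pow (hfp ▸ h3f))).symm
  have h9 : 9 ∣ 15 + s * f := by
    have h225 : 225 * (n * ((n - 1) * 60)) =
        f * (f - 1) * (60 * ((15 + s * (f - 1)) * (15 + s * f))) := by
      linear_combination (60 : ℕ) * 15 * (n - 1) * hA + 60 * (f * (15 + s * (f - 1))) * hB
    have h2 := Nat.mul_dvd_mul_left 225 hd2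
    rw [h225, show 225 * (f * ((f - 1) * 12)) = f * (f - 1) * (60 * 45) by ring] at h2
    have h4 := Nat.dvd_of_mul_dvd_mul_left (by norm_num) (Nat.dvd_of_mul_dvd_mul_left
      (Nat.mul_pos (by omega) (by omega)) h2)
    refine Nat.Coprime.dvd_of_dvd_mul_left ?_ ((show 9 ∣ 45 by norm_num).trans h4)
    refine (show Nat.Coprime (3 ^ 2) _ from Nat.Coprime.pow_left 2 ?_)
    rw [Nat.Prime.coprime_iff_not_dvd Nat.prime_three, Nat.dvd_add_right (by norm_num)]
    intro hh
    have h5 := hs3.dvd_of_dvd_mul_left hh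
    omega
  obtain rfl : f = 3 := by
    rcases Nat.lt_or_ge m 2 with hm | hm
    · interval_cases m <;> omega
    · exfalso
      have h5 : 9 ∣ s * f := (hfp ▸ (pow_dvd_pow 3 hm : 3 ^ 2 ∣ 3 ^ m) : 9 ∣ f).mul_left s
      have h6 := (Nat.dvd_add_left h5).1 h9
      norm_num at h6
  rcases hs with rfl | rfl | rfl <;> omega

/-- `s = 16`, `f = g ^ 2`, `g` even: impossible. -/
theorem even_arith {n f g k : ℕ} (hg : g = 2 ^ k) (hk : 1 ≤ k) (hf : f = g ^ 2) (hfn : f ≤ n)
    (h : 15 * (n - f) = 16 * (f * (f - 1))) (hd : (g - 1) * 12 ∣ (n - 1) * 60) : False := by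
  have hg2 : 2 ≤ g := hg ▸ le_self_pow₀ (by norm_num) (by omega)
  have hf2 : 4 ≤ f := hf ▸ Nat.pow_le_pow_left hg2 2
  obtain ⟨-, hB⟩ := rel_forms hfn (by omega) h
  have hfac : f - 1 = (g - 1) * (g + 1) := by
    rw [hf]
    obtain ⟨g', rfl⟩ : ∃ g', g = g' + 1 := ⟨g - 1, by omega⟩
    rw [Nat.add_sub_cancel, show (g' + 1) ^ 2 = g' * (g' + 1 + 1) + 1 by ring, Nat.add_sub_cancel]
  have h60 : (n - 1) * 60 = (g - 1) * (4 * ((g + 1) * (15 + 16 * f))) := by
    rw [hfac] at hB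
    linear_combination 4 * hB
  rw [h60] at hd
  have h1 : 3 ∣ (g + 1) * (15 + 16 * f) := (show Nat.Coprime 3 4 by norm_num).dvd_of_dvd_mul_left
    (Dvd.dvd.trans (by norm_num) (Nat.dvd_of_mul_dvd_mul_left (by omega) hd))
  have h5 : 5 ∣ f * (f - 1) := (show Nat.Coprime 5 16 by norm_num).dvd_of_dvd_mul_left
    (h ▸ (show 5 ∣ 15 by norm_num).mul_right _)
  have hf5 : 5 ∣ f - 1 := ((Nat.Prime.dvd_mul (by norm_num : Nat.Prime 5)).1 h5).resolve_left fun h5f => by
    rw [hf, hg, ← pow_mul] at h5f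
    have := (Nat.prime_dvd_prime_iff_eq (by norm_num) Nat.prime_two).1
      ((by norm_num : Nat.Prime 5).dvd_of_dvd_pow h5f)
    norm_num at this
  rcases Nat.even_or_odd' k with ⟨j, rfl | rfl⟩
  · have hg3 : g % 3 = 1 := by rw [hg, pow_mul, Nat.pow_mod]; norm_num
    have hf3 : f % 3 = 1 := by rw [hf, Nat.pow_mod, hg3]
    rcases (Nat.Prime.dvd_mul Nat.prime_three).1 h1 with h' | h' <;> omega
  · have hf4 : f % 5 = 4 := by
      rw [hf, hg, ← pow_mul, show (2 * j + 1) * 2 = 4 * j + 2 by ring, pow_add, Nat.mul_mod, pow_mul,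
        Nat.pow_mod]
      norm_num
    omega

/-- Odd `g`: Sylow's congruence fails, or `p = 5`. -/
theorem odd_arith {n f s p m N X : ℕ} (hp : p.Prime) (hp2 : p ≠ 2) (hm : 2 ≤ m) (hfp : f = p ^ m)
    (hfn : f ≤ n) (hs : s = 10 ∨ s = 16) (h : 15 * (n - f) = s * (f * (f - 1)))
    (hN : N = n * ((n - 1) * 60)) (hX : X * (f * (f - 1)) = 15 * (n * (n - 1))) :
    ((∀ j, p ^ j ∣ N → p ^ j ∣ f) ∧ ¬ X ≡ 1 [MOD p]) ∨
      (s = 10 ∧ p = 5 ∧ (∀ j, p ^ j ∣ N → p ^ j ∣ f * p) ∧ f * p ∣ N) := by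
  have hf : 2 ≤ f := hfp ▸ hp.two_le.trans (le_self_pow₀ hp.one_le (by omega))
  have hppos := hp.two_le
  obtain ⟨hA, hB⟩ := rel_forms hfn hf h
  have h15N : 15 * N = f * (4 * (f - 1) * ((15 + s * (f - 1)) * (15 + s * f))) := by
    rw [hN]
    linear_combination (60 : ℕ) * (n - 1) * hA + 4 * (f * (15 + s * (f - 1))) * hB
  have h15X : 15 * X = (15 + s * (f - 1)) * (15 + s * f) := by
    refine Nat.eq_of_mul_eq_mul_right (Nat.mul_pos (by omega : 0 < f) (by omega : 0 < f - 1)) ?_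
    linear_combination (15 : ℕ) * hX + 15 * (n - 1) * hA + f * (15 + s * (f - 1)) * hB
  have hpf : p ∣ f := hfp ▸ dvd_pow_self p (by omega)
  have hpp : p * p ∣ f := by rw [hfp, ← pow_two]; exact pow_dvd_pow p hm
  have hcop : ∀ c, ¬ p ∣ c → ∀ j, Nat.Coprime (p ^ j) c := fun c hc j =>
    Nat.Coprime.pow_left j (hp.coprime_iff_not_dvd.2 hc)
  have hp4 : ¬ p ∣ 4 := fun h4 => hp2 ((Nat.prime_dvd_prime_iff_eq hp Nat.prime_two).1
    (hp.dvd_of_dvd_pow (show p ∣ 2 ^ 2 from h4)))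
  have hpf1 : ¬ p ∣ f - 1 := fun h1 => by
    have h2 := Nat.dvd_sub hpf h1
    rw [show f - (f - 1) = 1 by omega, Nat.dvd_one] at h2
    omega
  have hzero : ∀ {x : ℕ}, p ∣ x → (x : ZMod p) = 0 := fun hx => (ZMod.natCast_eq_zero_iff _ p).2 hx
  have hf0 : (f : ZMod p) = 0 := hzero hpf
  have hA' : ((15 + s * (f - 1) : ℕ) : ZMod p) = 15 - s := by
    rw [Nat.cast_add, Nat.cast_mul, Nat.cast_sub (by omega), hf0]
    push_cast; ring
  have hB' : ((15 + s * f : ℕ) : ZMod p) = 15 := by push_cast; rw [hf0]; ring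
  have hsmall : ∀ c : ℕ, c < 32 → (c : ZMod p) = 0 → p ∣ c ∧ p ≤ 31 ∨ c = 0 := fun c hc hc0 => by
    have := (ZMod.natCast_eq_zero_iff _ p).1 hc0
    rcases Nat.eq_zero_or_pos c with h0 | h0
    · exact Or.inr h0
    · exact Or.inl ⟨this, by have := Nat.le_of_dvd h0 this; omega⟩
  by_cases hp7 : 7 ≤ p
  · left
    have hp15 : ¬ p ∣ 15 := fun h' => by
      rcases (Nat.Prime.dvd_mul hp).1 (show p ∣ 3 * 5 from h') with h3 | h5
      · have := Nat.le_of_dvd (by norm_num) h3; omega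
      · have := Nat.le_of_dvd (by norm_num) h5; omega
    refine ⟨fun j hj => ?_, fun hmod => ?_⟩
    · refine (hcop _ ?_ j).dvd_of_dvd_mul_right (h15N ▸ hj.mul_left 15)
      intro hd
      rcases (Nat.Prime.dvd_mul hp).1 hd with h' | h'
      · exact ((Nat.Prime.dvd_mul hp).1 h').elim hp4 hpf1
      rcases (Nat.Prime.dvd_mul hp).1 h' with h' | h'
      · have h0 := hzero h'
        rw [hA'] at h0
        rcases hs with rfl | rfl
        · have : ((5 : ℕ) : ZMod p) = 0 := by push_cast at h0 ⊢; linear_combination h0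
          have := Nat.le_of_dvd (by norm_num) ((ZMod.natCast_eq_zero_iff _ p).1 this)
          omega
        · have : ((1 : ℕ) : ZMod p) = 0 := by push_cast at h0 ⊢; linear_combination -h0
          have := Nat.le_of_dvd (by norm_num) ((ZMod.natCast_eq_zero_iff _ p).1 this)
          omega
      · exact hp15 ((Nat.dvd_add_left (hpf.mul_left s)).1 h')
    · have h1 : (X : ZMod p) = 1 := by
        have := (ZMod.natCast_eq_natCast_iff X 1 p).2 hmod
        simpa using this
      have h2 := congrArg (fun x : ℕ => (x : ZMod p)) h15X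
      simp only [Nat.cast_mul] at h2
      rw [hA', hB', h1] at h2
      rcases hs with rfl | rfl
      · have h3 : ((15 * 4 : ℕ) : ZMod p) = 0 := by push_cast at h2 ⊢; linear_combination -h2
        have h4 := (ZMod.natCast_eq_zero_iff _ p).1 h3
        exact ((Nat.Prime.dvd_mul hp).1 h4).elim hp15 hp4
      · have h3 : ((15 * 2 : ℕ) : ZMod p) = 0 := by push_cast at h2 ⊢; linear_combination h2
        have h4 := (ZMod.natCast_eq_zero_iff _ p).1 h3
        exact ((Nat.Prime.dvd_mul hp).1 h4).elim hp15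
          fun h5 => hp2 ((Nat.prime_dvd_prime_iff_eq hp Nat.prime_two).1 h5)
  obtain rfl | rfl : p = 3 ∨ p = 5 := by
    interval_cases p <;> first
      | exact Or.inl rfl
      | exact Or.inr rfl
      | exact absurd rfl hp2
      | exact absurd hp (by norm_num)
  · -- `p = 3`
    left
    obtain ⟨B, hBe, hB3⟩ : ∃ B, 15 + s * f = 3 * B ∧ B % 3 = 2 := by
      obtain ⟨c, rfl⟩ := hpp
      refine ⟨5 + s * (3 * c), by ring, ?_⟩
      rw [show s * (3 * c) = 3 * (s * c) by ring, Nat.add_mul_mod_self_left]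
    set A := 15 + s * (f - 1) with hAdef
    have hA3 : A % 3 = (15 + 2 * s) % 3 := by
      rw [hAdef]
      rcases hs with rfl | rfl <;> omega
    have h5N : 5 * N = f * (4 * (f - 1) * (A * B)) := by
      rw [hBe] at h15N
      linarith [h15N, show 3 * (f * (4 * (f - 1) * (A * B))) = f * (4 * (f - 1) * (A * (3 * B))) by ring]
    have h5X : 5 * X = A * B := by
      rw [hBe] at h15X
      linarith [h15X, show 3 * (A * B) = A * (3 * B) by ring]
    refine ⟨fun j hj => ?_, fun hmod => ?_⟩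
    · refine (hcop _ ?_ j).dvd_of_dvd_mul_right (h5N ▸ hj.mul_left 5)
      intro hd
      rcases (Nat.Prime.dvd_mul hp).1 hd with h' | h'
      · exact ((Nat.Prime.dvd_mul hp).1 h').elim hp4 hpf1
      rcases (Nat.Prime.dvd_mul hp).1 h' with h' | h' <;> rcases hs with rfl | rfl <;> omega
    · have h1 : X % 3 = 1 := hmod
      have h2 : 5 * X % 3 = A * B % 3 := by rw [h5X]
      rw [Nat.mul_mod, Nat.mul_mod A B, hA3, hB3, h1] at h2
      rcases hs with rfl | rfl <;> norm_num at h2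
  · -- `p = 5`
    rcases hs with rfl | rfl
    · right
      obtain ⟨c, hc⟩ := hpf
      set A := 1 + 2 * f with hAdef
      set B := 3 + 2 * f with hBdef
      have hAe : 15 + 10 * (f - 1) = 5 * A := by omega
      have hBe : 15 + 10 * f = 5 * B := by omega
      rw [hAe, hBe] at h15N
      have h3N : 3 * N = f * 5 * (4 * (f - 1) * (A * B)) := by
        linarith [h15N, show 5 * (f * 5 * (4 * (f - 1) * (A * B))) =
          f * (4 * (f - 1) * (5 * A * (5 * B))) by ring]
      refine ⟨rfl, rfl, fun j hj => ?_, ?_⟩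
      · refine (hcop _ ?_ j).dvd_of_dvd_mul_right (h3N ▸ hj.mul_left 3)
        intro hd
        rcases (Nat.Prime.dvd_mul hp).1 hd with h' | h'
        · exact ((Nat.Prime.dvd_mul hp).1 h').elim hp4 hpf1
        rcases (Nat.Prime.dvd_mul hp).1 h' with h' | h' <;> omega
      · refine Nat.Coprime.dvd_of_dvd_mul_left ?_ (Dvd.intro _ h3N.symm)
        rw [hfp, ← pow_succ]
        exact Nat.Coprime.pow_left _ (by norm_num)
    · left
      obtain ⟨B, hBe, hB5⟩ : ∃ B, 15 + 16 * f = 5 * B ∧ B % 5 = 3 := by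
        obtain ⟨c, rfl⟩ := hpp
        refine ⟨3 + 5 * (16 * c), by ring, ?_⟩
        rw [Nat.add_mul_mod_self_left]
      set A := 15 + 16 * (f - 1) with hAdef
      have hA5 : A % 5 = 4 := by omega
      have h3N : 3 * N = f * (4 * (f - 1) * (A * B)) := by
        rw [hBe] at h15N
        linarith [h15N, show 5 * (f * (4 * (f - 1) * (A * B))) = f * (4 * (f - 1) * (A * (5 * B))) by ring]
      have h3X : 3 * X = A * B := by
        rw [hBe] at h15X
        linarith [h15X, show 5 * (A * B) = A * (5 * B) by ring]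
      refine ⟨fun j hj => ?_, fun hmod => ?_⟩
      · refine (hcop _ ?_ j).dvd_of_dvd_mul_right (h3N ▸ hj.mul_left 3)
        intro hd
        rcases (Nat.Prime.dvd_mul hp).1 hd with h' | h'
        · exact ((Nat.Prime.dvd_mul hp).1 h').elim hp4 hpf1
        rcases (Nat.Prime.dvd_mul hp).1 h' with h' | h' <;> omega
      · have h1 : X % 5 = 1 := hmod
        have h2 : 3 * X % 5 = A * B % 5 := by rw [h3X]
        rw [Nat.mul_mod, Nat.mul_mod A B, hA5, hB5, h1] at h2
        norm_num at h2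

end CfsgLib.TwoTransAFive
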