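import Cfsg.Agent.TwoTransAFive.Setting
import Cfsg.Agent.MElevenUnique.Main

/-!
# Degrees seven, twelve and thirty-eight
-/

set_option autoImplicit false

namespace CfsgLib.TwoTransAFive

open MulAction

variable {G : Type*} [Group G] [Finite G] {Ω : Type*} [MulAction G Ω] [Finite Ω] {a b : Ω}

/-- Degree seven: the alternating group. -/
theorem Hyp.alt_seven (S : Hyp (G := G) (a := a) (b := b))
    (e : ↥(stabilizer G a ⊓ stabilizer G b) ≃* AFive) (h : Nat.card Ω = 7) :
    Nonempty (G ≃* ↥(alternatingGroup (Fin 7))) := by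
  obtain ⟨eΩ⟩ : Nonempty (Ω ≃ Fin 7) := ⟨(Finite.equivFin Ω).trans (finCongr h)⟩
  set φ : G →* Equiv.Perm (Fin 7) := eΩ.permCongrHom.toMonoidHom.comp (MulAction.toPermHom G Ω) with hφ
  have hinj : Function.Injective φ := (injective_iff_map_eq_one φ).2 fun c hc => S.faith c fun x => by
    have h1 := Equiv.congr_fun hc (eΩ x)
    simpa [hφ] using h1
  have hcard : Nat.card ↥φ.range = 2520 := by
    rw [← Nat.card_congr (MonoidHom.ofInjective hinj).toEquiv, S.card_G e, h]
  have hidx : φ.range.index = 2 := by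
    have h1 := φ.range.card_mul_index
    rw [hcard, Nat.card_perm, Nat.card_eq_fintype_card, Fintype.card_fin,
      show Nat.factorial 7 = 2520 * 2 from rfl] at h1
    exact Nat.eq_of_mul_eq_mul_left (by norm_num) h1
  exact ⟨(MonoidHom.ofInjective hinj).trans
    (MulEquiv.subgroupCongr (Equiv.Perm.eq_alternatingGroup_of_index_eq_two hidx))⟩

/-- Degree twelve: a simple group of order 7920. -/
theorem Hyp.mathieu_twelve (S : Hyp (G := G) (a := a) (b := b))
    (e : ↥(stabilizer G a ⊓ stabilizer G b) ≃* AFive) (h : Nat.card Ω = 12) :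
    IsSimpleGroup G ∧ Nat.card G = 7920 := by
  have hG : Nat.card G = 7920 := by rw [S.card_G e, h]
  haveI : Nontrivial G := Finite.one_lt_card_iff_nontrivial.1 (by omega)
  haveI := S.two
  haveI : IsPretransitive G Ω := isPretransitive_of_is_two_pretransitive
  refine ⟨⟨fun N hN => ?_⟩, hG⟩
  by_contra hcon
  obtain ⟨hNbot, hNtop⟩ := not_or.1 hcon
  haveI := pretransitive_of_normal S.faith S.two hN hNbot
  have hconj : ∀ (g : G), ∀ x ∈ N, g * x * g⁻¹ ∈ N := fun g x hx => hN.conj_mem x hx g
  set Na := N ⊓ stabilizer G a with hNa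
  set L := Na ⊔ (stabilizer G a ⊓ stabilizer G b) with hL
  have hnorm : stabilizer G a ⊓ stabilizer G b ≤ Subgroup.normalizer (Na : Set G) := fun g hg => by
    have hga : g ∈ stabilizer G a := (Subgroup.mem_inf.1 hg).1
    refine Subgroup.mem_normalizer_iff.2 fun x => ⟨fun hx => ?_, fun hx => ?_⟩
    · exact Subgroup.mem_inf.2 ⟨hconj g x (Subgroup.mem_inf.1 hx).1,
        mul_mem (mul_mem hga (Subgroup.mem_inf.1 hx).2) (inv_mem hga)⟩
    · have := Subgroup.mem_inf.2 ⟨hconj g⁻¹ _ (Subgroup.mem_inf.1 hx).1,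
        mul_mem (mul_mem (inv_mem hga) (Subgroup.mem_inf.1 hx).2) (inv_mem (inv_mem hga))⟩
      rwa [show g⁻¹ * (g * x * g⁻¹) * g⁻¹⁻¹ = x by group] at this
  set O := (fun k => k • b) '' (Na : Set G) with hO
  have horb : (fun k => k • b) '' (L : Set G) = O := by
    rw [hL, Subgroup.coe_mul_of_right_le_normalizer_left Na _ hnorm]
    ext y
    constructor
    · rintro ⟨_, ⟨k, hk, l, hl, rfl⟩, rfl⟩
      refine ⟨k, hk, ?_⟩
      show k • b = (k * l) • b
      rw [mul_smul, mem_stabilizer_iff.1 (Subgroup.mem_inf.1 hl).2]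
    · rintro ⟨k, hk, rfl⟩
      exact ⟨k, ⟨k, hk, 1, one_mem _, mul_one k⟩, rfl⟩
  have hLa : L ≤ stabilizer G a := sup_le inf_le_right inf_le_left
  have hLb : L ⊓ stabilizer G b = stabilizer G a ⊓ stabilizer G b :=
    le_antisymm (inf_le_inf_right _ hLa) (le_inf le_sup_right inf_le_right)
  have hdvd : O.ncard ∣ 11 := by
    have h1 := card_eq_ncard_orbit_mul L b
    rw [horb, hLb, Nat.card_congr e.toEquiv, nat_card_alternatingGroup, Nat.card_eq_fintype_card (α := Fin 5),
      Fintype.card_fin] at h1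
    have h2 := Subgroup.card_dvd_of_le hLa
    rw [S.card_stab e, h, h1, show Nat.factorial 5 / 2 = 60 from rfl] at h2
    exact Nat.dvd_of_mul_dvd_mul_right (by norm_num) h2
  obtain hO1 | hO11 := (Nat.dvd_prime (by norm_num)).1 hdvd
  · -- `N` is regular
    have hfixb : ∀ m ∈ Na, m • b = b := fun m hm => by
      have hbO : b ∈ O := ⟨1, one_mem _, one_smul G b⟩
      exact (Set.ncard_le_one (Set.toFinite _)).1 hO1.le _ ⟨m, hm, rfl⟩ b hbO
    have hNa1 : ∀ m ∈ N, m • a = a → m = 1 := fun m hm hma => by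
      refine S.faith m fun x => ?_
      by_cases hxa : x = a
      · rw [hxa, hma]
      obtain ⟨g, hg1, hg2⟩ := is_two_pretransitive_iff.1 S.two S.hab (Ne.symm hxa)
      have hm' := hfixb (g⁻¹ * m * g) (Subgroup.mem_inf.2 ⟨by simpa using hconj g⁻¹ m hm,
        mem_stabilizer_iff.2 (by rw [mul_smul, mul_smul, hg1, hma, inv_smul_eq_iff, hg1])⟩)
      rwa [mul_smul, mul_smul, hg2, inv_smul_eq_iff, hg2] at hm'
    refine S.nr N hN inferInstance fun x => (Subgroup.eq_bot_iff_forall _).2 fun ⟨m, hm⟩ hmx => Subtype.ext ?_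
    obtain ⟨g, rfl⟩ := exists_smul_eq G a x
    have hmx' : m • g • a = g • a := hmx
    have := hNa1 (g⁻¹ * m * g) (by simpa using hconj g⁻¹ m hm)
      (by rw [mul_smul, mul_smul, hmx', inv_smul_smul])
    calc m = g * (g⁻¹ * m * g) * g⁻¹ := by group
      _ = 1 := by rw [this]; group
  · -- `N` is doubly transitive
    have hpair : ∀ c : Ω, c ≠ a → ∃ k ∈ Na, k • b = c := fun c hc => by
      have heq : O = {y | y ≠ a} := by
        refine Set.eq_of_subset_of_ncard_le ?_ ?_ (Set.toFinite _)
        · rintro _ ⟨k, hk, rfl⟩ hka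
          exact S.hab (MulAction.injective k
            (show k • a = k • b from (mem_stabilizer_iff.1 (Subgroup.mem_inf.1 hk).2).trans hka.symm))
        · rw [hO11, show {y : Ω | y ≠ a} = ({a} : Set Ω)ᶜ from rfl, Set.ncard_compl, Set.ncard_singleton, h]
      have : c ∈ O := heq ▸ hc
      exact this
    have hP : PairTrans N (Set.univ : Set Ω) := by
      refine ⟨fun _ _ _ _ => Set.mem_univ _, fun {c d c' d'} _ _ _ _ hcd hcd' => ?_⟩
      have flag : ∀ c d : Ω, c ≠ d → ∃ k ∈ N, k • a = c ∧ k • b = d := fun c d hcd => by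
        obtain ⟨⟨n₁, hn₁⟩, rfl⟩ := exists_smul_eq ↥N a c
        obtain ⟨k, hk, hkb⟩ := hpair (n₁⁻¹ • d) fun h' => hcd (by rw [← smul_inv_smul n₁ d, h']; rfl)
        exact ⟨n₁ * k, mul_mem hn₁ (Subgroup.mem_inf.1 hk).1,
          by rw [mul_smul, mem_stabilizer_iff.1 (Subgroup.mem_inf.1 hk).2]; rfl,
          by rw [mul_smul, hkb, smul_inv_smul]⟩
      obtain ⟨k, hk, h1, h2⟩ := flag c d hcd
      obtain ⟨l, hl, h3, h4⟩ := flag c' d' hcd'
      exact ⟨l * k⁻¹, mul_mem hl (inv_mem hk), by rw [← h1, mul_smul, inv_smul_smul, h3],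
        by rw [← h2, mul_smul, inv_smul_smul, h4]⟩
    set H := stabilizer G a ⊓ stabilizer G b with hH
    have hNH : (N.subgroupOf H).Normal := hN.comap _
    haveI : IsSimpleGroup ↥H := by
      haveI : IsSimpleGroup AFive := alternatingGroup.isSimpleGroup (by simp)
      haveI : Nontrivial ↥H := e.toEquiv.nontrivial
      exact IsSimpleGroup.isSimpleGroup_of_surjective e.symm.toMonoidHom e.symm.surjective
    rcases IsSimpleGroup.eq_bot_or_eq_top_of_normal _ hNH with hbot | htop
    · obtain ⟨q, m, hq, hm, he⟩ := hP.exists_prime_pow (Set.mem_univ a) (Set.mem_univ b) S.hab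
        fun k hk hka hkb x _ => by
          have : (⟨k, Subgroup.mem_inf.2 ⟨hka, hkb⟩⟩ : ↥H) ∈ N.subgroupOf H := hk
          rw [hbot, Subgroup.mem_bot] at this
          rw [show k = 1 from congrArg Subtype.val this, one_smul]
      rw [Set.ncard_univ, h] at he
      have h2 : 2 = q := (Nat.prime_dvd_prime_iff_eq Nat.prime_two hq).1
        (Nat.prime_two.dvd_of_dvd_pow (he ▸ (by norm_num : 2 ∣ 12)))
      have h3 : 3 = q := (Nat.prime_dvd_prime_iff_eq Nat.prime_three hq).1
        (Nat.prime_three.dvd_of_dvd_pow (he ▸ (by norm_num : 3 ∣ 12)))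
      omega
    · refine hNtop ((Subgroup.eq_top_iff' N).2 fun g => ?_)
      by_cases hgab : g • a = g • b
      · exact absurd (MulAction.injective g hgab) S.hab
      obtain ⟨k, hk, h1, h2⟩ := hP.pairs (Set.mem_univ a) (Set.mem_univ b) (Set.mem_univ (g • a))
        (Set.mem_univ (g • b)) S.hab hgab
      have hmem : k⁻¹ * g ∈ H := Subgroup.mem_inf.2
        ⟨mem_stabilizer_iff.2 (by rw [mul_smul, ← h1, inv_smul_smul]),
          mem_stabilizer_iff.2 (by rw [mul_smul, ← h2, inv_smul_smul])⟩
      have hN' : (⟨k⁻¹ * g, hmem⟩ : ↥H) ∈ N.subgroupOf H := htop ▸ Subgroup.mem_top _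
      have := mul_mem hk (show k⁻¹ * g ∈ N from hN')
      rwa [mul_inv_cancel_left] at this

/-- Degree thirty-eight is impossible. -/
theorem Hyp.false_thirty_eight (S : Hyp (G := G) (a := a) (b := b))
    (e : ↥(stabilizer G a ⊓ stabilizer G b) ≃* AFive) (h : Nat.card Ω = 38) : False := by
  haveI : Fact (Nat.Prime 37) := ⟨by norm_num⟩
  set A := stabilizer G a with hA
  have hcard : Nat.card ↥A = 37 * 60 := by rw [hA, S.card_stab e, h]
  obtain ⟨P⟩ : Nonempty (Sylow 37 ↥A) := inferInstance
  have hPcard : Nat.card ↥(P : Subgroup ↥A) = 37 := by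
    rw [P.card_eq_multiplicity, hcard, Nat.factorization_mul (by norm_num) (by norm_num), Finsupp.add_apply,
      Nat.Prime.factorization_self (by norm_num), Nat.factorization_eq_zero_of_not_dvd (by norm_num)]
    norm_num
  have hidx : (P : Subgroup ↥A).index = 60 := by
    have h1 := (P : Subgroup ↥A).card_mul_index
    rw [hPcard, hcard] at h1
    exact Nat.eq_of_mul_eq_mul_left (by norm_num) h1
  have hPn : (P : Subgroup ↥A).Normal := by
    rw [← Subgroup.normalizer_eq_top_iff]
    refine Subgroup.index_eq_one.1 ?_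
    have h1 := card_sylow_modEq_one 37 ↥A
    have h2 := P.card_dvd_index
    rw [hidx] at h2
    rw [show ((P : Subgroup ↥A) : Set ↥A) = (P : Set ↥A) from rfl, ← Sylow.card_eq_index_normalizer P]
    have h3 : Nat.card (Sylow 37 ↥A) ≤ 60 := Nat.le_of_dvd (by norm_num) h2
    have h4 : Nat.card (Sylow 37 ↥A) % 37 = 1 := h1
    rcases Nat.lt_or_ge (Nat.card (Sylow 37 ↥A)) 38 with h5 | h5
    · omega
    · interval_cases hh : Nat.card (Sylow 37 ↥A) <;> first | omega | norm_num at h2
  haveI := hPn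
  set ψ : ↥(stabilizer G a ⊓ stabilizer G b) →* MulAut ↥(P : Subgroup ↥A) :=
    MulAut.conjNormal.comp (Subgroup.inclusion inf_le_left) with hψ
  haveI : IsCyclic ↥(P : Subgroup ↥A) := isCyclic_of_prime_card hPcard
  haveI : IsSimpleGroup ↥(stabilizer G a ⊓ stabilizer G b) := by
    haveI : IsSimpleGroup AFive := alternatingGroup.isSimpleGroup (by simp)
    haveI : Nontrivial ↥(stabilizer G a ⊓ stabilizer G b) := e.toEquiv.nontrivial
    exact IsSimpleGroup.isSimpleGroup_of_surjective e.symm.toMonoidHom e.symm.surjective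
  have hcent : ∀ k : ↥(stabilizer G a ⊓ stabilizer G b), ψ k = 1 := by
    rcases IsSimpleGroup.eq_bot_or_eq_top_of_normal ψ.ker inferInstance with hk | hk
    · exfalso
      have hinj : Function.Injective ψ := (MonoidHom.ker_eq_bot_iff ψ).1 hk
      have h0 := congrArg (fun x : AFive => e.symm x) ai_facts.1
      have hcomm : ∀ σ τ : MulAut ↥(P : Subgroup ↥A), σ * τ = τ * σ := fun σ τ => by
        ext x
        obtain ⟨r, hr⟩ := IsCyclic.exists_generator (α := ↥(P : Subgroup ↥A))
        obtain ⟨i, rfl⟩ := Subgroup.mem_zpowers_iff.1 (hr x)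
        obtain ⟨m, hm⟩ := Subgroup.mem_zpowers_iff.1 (hr (σ r))
        obtain ⟨l, hl⟩ := Subgroup.mem_zpowers_iff.1 (hr (τ r))
        have key : σ (τ r) = τ (σ r) := by
          rw [← hl, map_zpow, ← hm, map_zpow, ← hl, ← zpow_mul, ← zpow_mul, mul_comm]
        simp only [MulAut.mul_apply, map_zpow, key]
      obtain ⟨x, hx⟩ := conj_ai aj ai_facts.2.1 ai_facts.2.2.2.2.1
      have h1 : ψ (e.symm aj) = ψ (e.symm ai) := by
        rw [← hx, map_mul e.symm, map_mul e.symm, map_mul ψ, map_mul ψ, hcomm (ψ (e.symm x)), mul_assoc,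
          ← map_mul ψ, ← map_mul e.symm, mul_inv_cancel, map_one, map_one, mul_one]
      exact ai_facts.2.2.2.2.2 (e.symm.injective (hinj h1)).symm
    · exact fun k => MonoidHom.mem_ker.1 (hk ▸ Subgroup.mem_top k)
  obtain ⟨y, hy⟩ : ∃ y : ↥(P : Subgroup ↥A), y ≠ 1 := by
    haveI : Nontrivial ↥(P : Subgroup ↥A) := Finite.one_lt_card_iff_nontrivial.1 (by rw [hPcard]; norm_num)
    exact exists_ne 1
  have hy37 : y ^ 37 = 1 := orderOf_dvd_iff_pow_eq_one.1 ((orderOf_dvd_natCard y).trans (dvd_of_eq hPcard))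
  set y' : G := ((y : ↥A) : G) with hy'
  have hya : y' • a = a := (y : ↥A).2
  have hcomm : ∀ k ∈ stabilizer G a ⊓ stabilizer G b, k * y' = y' * k := fun k hk => by
    have h1 := congrArg (fun x : ↥(P : Subgroup ↥A) => ((x : ↥A) : G))
      (MulEquiv.congr_fun (hcent ⟨k, hk⟩) y)
    simp only [hψ, MonoidHom.comp_apply, MulAut.conjNormal_apply, MulAut.one_apply, Subgroup.coe_mul,
      Subgroup.coe_inv, Subgroup.coe_inclusion] at h1
    exact mul_inv_eq_iff_eq_mul.1 h1
  by_cases hyb : y' • b = b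
  · have hmem : y' ∈ stabilizer G a ⊓ stabilizer G b := Subgroup.mem_inf.2 ⟨hya, hyb⟩
    have h1 : orderOf (e ⟨y', hmem⟩) = 37 := by
      rw [MulEquiv.orderOf_eq e, Subgroup.orderOf_mk, hy', Subgroup.orderOf_coe,
        Subgroup.orderOf_coe]
      exact orderOf_eq_prime hy37 hy
    have h2 := orderOf_dvd_natCard (e ⟨y', hmem⟩)
    rw [h1, nat_card_alternatingGroup, Nat.card_eq_fintype_card (α := Fin 5), Fintype.card_fin] at h2
    exact absurd h2 (by decide)
  · -- `ei` would fix the orbit of `y`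
    have hn : (fixedBy Ω (ei e)).ncard = 38 := by
      have hz : ∀ i : ℕ, y' ^ i • b ∈ fixedBy Ω (ei e) := fun i => by
        have hc : Commute (y' ^ i) (ei e) := (Commute.pow_right (hcomm _ (e.symm ai).2) i).symm
        exact smul_mem_fixedBy_of_commute hc (ei_fix e).2
      have hper : Function.Injective fun i : Fin 37 => y' ^ (i : ℕ) • b := by
        intro i j hij
        by_contra hne
        have key : ∀ u v : ℕ, u < v → v < 37 → y' ^ u • b = y' ^ v • b → False := fun u v huv hv huv' => by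
          have h1 : y' ^ (v - u) • b = b := by
            refine smul_left_cancel (y' ^ u) ?_
            rw [← mul_smul, ← pow_add, Nat.add_sub_cancel' huv.le, huv']
          have ho : orderOf y' = 37 := by
            rw [hy', Subgroup.orderOf_coe, Subgroup.orderOf_coe]
            exact orderOf_eq_prime hy37 hy
          obtain ⟨w, hw⟩ := exists_pow_eq_self_of_coprime (x := y') (n := v - u) (by
            rw [ho]
            exact ((show Nat.Prime 37 by norm_num).coprime_iff_not_dvd.2 fun hd => by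
              have := Nat.le_of_dvd (by omega) hd
              omega).symm)
          apply hyb
          rw [← hw]
          clear hw
          induction w with
          | zero => rw [pow_zero, one_smul]
          | succ w ih => rw [pow_succ', mul_smul, ih, h1]
        rcases lt_or_gt_of_ne (fun h' => hne (Fin.ext h')) with h' | h'
        · exact key i j h' j.2 hij
        · exact key j i h' i.2 hij.symm
      have hsub : insert a (Set.range fun i : Fin 37 => y' ^ (i : ℕ) • b) ⊆ fixedBy Ω (ei e) := by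
        rintro x (rfl | ⟨i, rfl⟩)
        exacts [(ei_fix e).1, hz i]
      have hnot : a ∉ Set.range fun i : Fin 37 => y' ^ (i : ℕ) • b := by
        rintro ⟨i, hi⟩
        have h1 : y' ^ (i : ℕ) ∈ stabilizer G a := pow_mem (show y' ∈ stabilizer G a from hya) _
        exact S.hab (MulAction.injective (y' ^ (i : ℕ))
          ((show y' ^ (i : ℕ) • a = a from h1).trans hi.symm))
      have h1 := Set.ncard_le_ncard hsub (Set.toFinite _)
      rw [Set.ncard_insert_of_notMem hnot (Set.toFinite _), Set.ncard_range_of_injective hper, Nat.card_fin] at h1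
      have h2 : (fixedBy Ω (ei e)).ncard ≤ 38 := h ▸ Set.ncard_le_card _
      omega
    have := S.f_lt e
    rw [h] at this
    exact absurd hn (by unfold ef at this; omega)

end CfsgLib.TwoTransAFive
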