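import Cfsg.Agent.TwoTransAFive.Small
import Cfsg.Agent.Small.BaerSuzuki
import Cfsg.Agent.Coprime.Action

/-!
# The regular subgroup of odd order is nearly a Sylow subgroup: its normaliser

The centraliser of the regular subgroup `P` is `P` times `ei`; so the normaliser centralises `ei`.
-/

set_option autoImplicit false

namespace CfsgLib.TwoTransAFive

open MulAction

variable {G : Type*} [Group G] {Ω : Type*} [MulAction G Ω] [Finite G] [Finite Ω] {a b : Ω}
  {e : ↥(stabilizer G a ⊓ stabilizer G b) ≃* AFive} {p : ℕ} {P : Subgroup G}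

theorem odd_unique_two {x : G} (ho : Odd (orderOf x)) {i : ℕ} (hi : orderOf x ∣ 2 ^ i) : x = 1 :=
  orderOf_eq_one_iff.1 (Nat.eq_one_of_dvd_coprimes
    (Nat.Coprime.pow_right i (Nat.coprime_two_right.2 ho)) dvd_rfl hi)

section

variable (S : Hyp (G := G) (a := a) (b := b)) (R : RegOdd e p P)
include S R

theorem RegOdd.odd_of_mem {x : G} (hx : x ∈ P) : Odd (orderOf x) := by
  refine R.odd.of_dvd_nat ?_
  rw [← Subgroup.orderOf_mk x hx]
  exact orderOf_dvd_natCard _

/-- An element of the centraliser of `ei` commuting with a moving element of `P`. -/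
theorem RegOdd.split {y τ : G} (hy : y ∈ Subgroup.centralizer ({ei e} : Set G)) (hτ : τ ∈ P)
    (hτ1 : τ ≠ 1) (hc : Commute y τ) :
    ∃ q ∈ P, (q⁻¹ * y) • a = a ∧ q⁻¹ * y * (q⁻¹ * y) = 1 := by
  obtain ⟨q, hq, hqa⟩ := R.trans a (ei_fix e).1 (y • a) ((S.pair_C e).maps y hy a (ei_fix e).1)
  have hva : (q⁻¹ * y) • a = a := by rw [mul_smul, inv_smul_eq_iff]; exact hqa.symm
  refine ⟨q, hq, hva, ?_⟩
  set v := q⁻¹ * y with hv
  have hvC : v ∈ Subgroup.centralizer ({ei e} : Set G) := mul_mem (inv_mem (R.le hq)) hy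
  have hvτ : Commute v τ := (Commute.inv_left (R.comm q hq τ hτ)).mul_left hc
  have hne : a ≠ τ • a := fun h => hτ1 (R.free a (ei_fix e).1 τ hτ h.symm)
  have hτa : τ • a ∈ fixedBy Ω (ei e) := (S.pair_C e).maps τ (R.le hτ) a (ei_fix e).1
  have hv2 : v • τ • a = τ • a := by rw [← mul_smul, hvτ.eq, mul_smul, hva]
  obtain ⟨k, hk, h1, h2⟩ := (S.pair_C e).pairs (ei_fix e).1 (ei_fix e).2 (ei_fix e).1 hτa S.hab hne
  have hmem : k⁻¹ * v * k ∈ eV e :=
    (S.C_pair_stab e).le (Subgroup.mem_inf.2 ⟨Subgroup.mem_inf.2 ⟨mul_mem (mul_mem (inv_mem hk) hvC) hk,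
      mem_stabilizer_iff.2 (by rw [mul_smul, mul_smul, h1, hva, inv_smul_eq_iff, h1])⟩,
      mem_stabilizer_iff.2 (by rw [mul_smul, mul_smul, h2, hv2, inv_smul_eq_iff, h2])⟩)
  have hsq : k⁻¹ * v * k * (k⁻¹ * v * k) = 1 := by
    rcases mem_four.1 hmem with h | h | h | h <;> rw [h]
    exacts [one_mul 1, ei_sq e, ej_sq e, ek_sq e]
  calc v * v = k * (k⁻¹ * v * k * (k⁻¹ * v * k)) * k⁻¹ := by group
    _ = 1 := by rw [hsq]; group

theorem RegOdd.mem_of_odd {y τ : G} (hy : y ∈ Subgroup.centralizer ({ei e} : Set G)) (hτ : τ ∈ P)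
    (hτ1 : τ ≠ 1) (hc : Commute y τ) (ho : Odd (orderOf y)) : y ∈ P := by
  obtain ⟨q, hq, -, hsq⟩ := R.split S hy hτ hτ1 hc
  set v := q⁻¹ * y with hv
  have hyv : y = q * v := by rw [hv, mul_inv_cancel_left]
  have hv' : v⁻¹ = v := inv_eq_of_mul_eq_one_right hsq
  have h2 : y ^ 2 ∈ P := by
    rw [pow_two, hyv, show q * v * (q * v) = q * (v * q * v⁻¹) * (v * v) by group, hsq, mul_one]
    exact mul_mem hq (R.conj v (mul_mem (inv_mem (R.le hq)) hy) q hq)
  obtain ⟨j, hj⟩ := ho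
  rw [show y = (y ^ 2) ^ (j + 1) by
    rw [← pow_mul, show 2 * (j + 1) = orderOf y + 1 by omega, pow_succ, pow_orderOf_eq_one, one_mul]]
  exact pow_mem h2 _

/-- Elements of prime power order `p` of the centraliser of `ei` lie in `P`. -/
theorem RegOdd.mem_of_pow {y : G} (hy : y ∈ Subgroup.centralizer ({ei e} : Set G)) {m : ℕ}
    (ho : orderOf y ∣ p ^ m) : y ∈ P := by
  haveI := Fact.mk R.prime
  obtain ⟨j, -, hj⟩ := (Nat.dvd_prime_pow R.prime).1 ho
  have hQp : IsPGroup p ↥(Subgroup.zpowers y) := IsPGroup.of_card (n := j) (by rw [Nat.card_zpowers, hj])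
  have hQn : Subgroup.zpowers y ≤ Subgroup.normalizer (P : Set G) :=
    Subgroup.zpowers_le.2 (Subgroup.mem_normalizer_iff.2 fun x => ⟨R.conj y hy x, fun hx => by
      have := R.conj y⁻¹ (inv_mem hy) _ hx
      rwa [show y⁻¹ * (y * x * y⁻¹) * y⁻¹⁻¹ = x by group] at this⟩)
  have hsup : IsPGroup p ↥(Subgroup.zpowers y ⊔ P) := hQp.to_sup_of_normal_right' R.pgroup hQn
  have hle : Subgroup.zpowers y ⊔ P ≤ Subgroup.centralizer ({ei e} : Set G) :=
    sup_le (Subgroup.zpowers_le.2 hy) R.le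
  obtain ⟨s, hs⟩ := IsPGroup.iff_card.1 hsup
  have hdvd := Subgroup.card_dvd_of_le hle
  obtain ⟨k, hk⟩ := IsPGroup.iff_card.1 R.pgroup
  rw [R.card] at hk
  have hf2 := S.two_le_f e
  rw [hs, S.card_C e] at hdvd
  have hcop : p.Coprime ((ef e - 1) * 4) := by
    refine Nat.Coprime.mul_right ((R.prime.coprime_iff_not_dvd).2 fun hd => ?_)
      (show p.Coprime (2 ^ 2) from ((Nat.coprime_primes R.prime Nat.prime_two).2 R.ne_two).pow_right 2)
    have hk0 : k ≠ 0 := by rintro rfl; rw [pow_zero] at hk; omega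
    have h1 : p ∣ ef e := hk ▸ dvd_pow_self p hk0
    have := Nat.dvd_sub h1 hd
    rw [show ef e - (ef e - 1) = 1 by omega] at this
    exact R.prime.one_lt.ne' (Nat.dvd_one.1 this)
  have heq : P = Subgroup.zpowers y ⊔ P := Subgroup.eq_of_le_of_card_ge le_sup_right (by
    rw [hs, R.card]
    exact Nat.le_of_dvd (by omega) ((Nat.Coprime.pow_left s hcop).dvd_of_dvd_mul_right hdvd))
  rw [heq]
  exact Subgroup.mem_sup_left (Subgroup.mem_zpowers y)

/-- **The normaliser of `P` centralises `ei`.** -/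
theorem RegOdd.normalizer_le (hlt : eg e < ef e) {d : ℕ}
    (hval : ∀ Q : Subgroup G, IsPGroup p ↥Q → Nat.card ↥Q ∣ ef e * d)
    (hd : d = 1 ∨ d = p ∧ ∃ w ∈ Subgroup.centralizer ({ei e} : Set G), w * ej e * w⁻¹ = ei e * ej e) :
    Subgroup.normalizer (P : Set G) ≤ Subgroup.centralizer ({ei e} : Set G) := by
  classical
  haveI := Fact.mk R.prime
  haveI := Fact.mk Nat.prime_two
  set C := Subgroup.centralizer ({ei e} : Set G) with hCdef
  have hiC : ei e ∈ C := Subgroup.mem_centralizer_singleton_iff.2 rfl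
  have hjC : ej e ∈ C := Subgroup.mem_centralizer_singleton_iff.2 (ei_ej e).eq.symm
  have hkC : ei e * ej e ∈ C := mul_mem hiC hjC
  have hf2 := S.two_le_f e
  obtain ⟨τ, hτ, hτa⟩ := R.trans a (ei_fix e).1 b (ei_fix e).2
  have hτ1 : τ ≠ 1 := fun h => S.hab (by rw [h, one_smul] at hτa; exact hτa)
  have hτv : ∀ v ∈ eV e, Commute v τ := fun v hv => by
    have hva : v • a = a ∧ v • b = b :=
      ⟨fix_of_mem_eV e hv ⟨(ei_fix e).1, (ej_fix e).1⟩, fix_of_mem_eV e hv ⟨(ei_fix e).2, (ej_fix e).2⟩⟩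
    have hvC : v ∈ C := four_le _ _ _ hiC hjC hv
    have hmem := R.conj v hvC τ hτ
    have h := R.free a (ei_fix e).1 (τ⁻¹ * (v * τ * v⁻¹)) (mul_mem (inv_mem hτ) hmem) (by
      rw [mul_smul, mul_smul, mul_smul, inv_smul_eq_iff.2 hva.1.symm, hτa, hva.2, inv_smul_eq_iff, hτa])
    exact mul_inv_eq_iff_eq_mul.1 (inv_mul_eq_one.1 h).symm
  -- the centraliser of `P`
  set K := Subgroup.centralizer (P : Set G) with hKdef
  have hiK : ei e ∈ K := Subgroup.mem_centralizer_iff.2 fun x hx =>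
    (Subgroup.mem_centralizer_singleton_iff.1 (R.le hx))
  have hKC : ∀ y ∈ K, y ∈ C → y ∈ P ∨ y * ei e ∈ P := by
    intro y hyK hyC
    obtain ⟨q, hq, hva, -⟩ := R.split S hyC hτ hτ1 ((Subgroup.mem_centralizer_iff.1 hyK τ hτ).symm)
    set v := q⁻¹ * y with hv
    have hvC : v ∈ C := mul_mem (inv_mem (R.le hq)) hyC
    have hfix : ∀ x ∈ fixedBy Ω (ei e), v • x = x := fun x hx => by
      obtain ⟨r, hr, rfl⟩ := R.trans a (ei_fix e).1 x hx
      have hvr : v * r = r * v := ((Commute.inv_left (R.comm q hq r hr)).mul_left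
        (Subgroup.mem_centralizer_iff.1 hyK r hr).symm).eq
      rw [← mul_smul, hvr, mul_smul, hva]
    have hmem : v ∈ eV e :=
      (S.C_pair_stab e).le ⟨⟨hvC, hva⟩, hfix b (ei_fix e).2⟩
    have hjne : ¬ ∀ x ∈ fixedBy Ω (ei e), ej e • x = x := fun h => by
      refine hlt.ne ?_
      unfold eg ef
      congr 1
      exact Set.inter_eq_left.2 h
    have hqy : y = q * v := by rw [hv, mul_inv_cancel_left]
    rcases mem_four.1 hmem with h | h | h | h
    · exact Or.inl (by rw [hqy, h, mul_one]; exact hq)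
    · refine Or.inr ?_
      rw [hqy, h, mul_assoc, ei_sq, mul_one]; exact hq
    · exact absurd (fun x hx => h ▸ hfix x hx) hjne
    · refine absurd (fun x hx => ?_) hjne
      have h1 := hfix x hx
      rw [h, mul_smul] at h1
      exact smul_left_cancel (ei e) (h1.trans (hx : ei e • x = x).symm)
  have hio : orderOf (ei e) = 2 := orderOf_eq_prime (by rw [pow_two, ei_sq]) (ei_ne_one e)
  obtain ⟨P₂, hP₂⟩ := IsPGroup.exists_le_sylow (p := 2) (G := ↥K)
    (P := Subgroup.zpowers ⟨ei e, hiK⟩) (IsPGroup.of_card (n := 1) (by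
      rw [Nat.card_zpowers, Subgroup.orderOf_mk, hio, pow_one]))
  have hP₂eq : (P₂ : Subgroup ↥K) = Subgroup.zpowers ⟨ei e, hiK⟩ := by
    by_contra hne
    have hlt : Subgroup.zpowers (⟨ei e, hiK⟩ : ↥K) < P₂ := lt_of_le_of_ne hP₂ (Ne.symm hne)
    obtain ⟨y, hy, hyn⟩ := SetLike.exists_of_lt
      (CfsgLib.Small.lt_inf_normalizer_of_pGroup (p := 2) P₂.2 hlt)
    obtain ⟨hy2, hyN⟩ := Subgroup.mem_inf.1 hy
    have hyC : (y : G) ∈ C := by
      have h1 := (Subgroup.mem_normalizer_iff.1 hyN (⟨ei e, hiK⟩ : ↥K)).1 (Subgroup.mem_zpowers _)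
      obtain ⟨i, hi⟩ := Subgroup.mem_zpowers_iff.1 h1
      have hi' : ei e ^ i = (y : G) * ei e * (y : G)⁻¹ := by simpa using congrArg Subtype.val hi
      rcases Int.even_or_odd' i with ⟨j, rfl | rfl⟩
      · rw [zpow_mul, zpow_two, ei_sq, one_zpow] at hi'
        exact absurd (conj_eq_one_iff.1 hi'.symm) (ei_ne_one e)
      · rw [zpow_add, zpow_mul, zpow_two, ei_sq, one_zpow, one_mul, zpow_one] at hi'
        exact Subgroup.mem_centralizer_singleton_iff.2 (mul_inv_eq_iff_eq_mul.1 hi'.symm)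
    obtain ⟨i, hi⟩ := IsPGroup.iff_orderOf.1 P₂.2 ⟨y, hy2⟩
    rw [Subgroup.orderOf_mk, ← Subgroup.orderOf_coe] at hi
    rcases hKC _ y.2 hyC with hP | hP
    · have h1 : (y : G) = 1 := odd_unique_two (R.odd_of_mem S hP) (dvd_of_eq hi)
      exact hyn ((Subtype.ext h1 : y = 1) ▸ one_mem _)
    · have hc : Commute (y : G) (ei e) := Subgroup.mem_centralizer_singleton_iff.1 hyC
      have h1 : (y : G) * ei e = 1 := odd_unique_two (R.odd_of_mem S hP) (i := i + 1)
        (orderOf_dvd_of_pow_eq_one (by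
          rw [hc.mul_pow, pow_succ 2 i, pow_mul, pow_mul, ← hi, pow_orderOf_eq_one, one_pow, one_mul,
            ← pow_mul, mul_comm, pow_mul, pow_two, ei_sq, one_pow]))
      have h2 : (y : G) = ei e := by
        rw [← inv_eq_of_mul_eq_one_left h1, inv_eq_of_mul_eq_one_right (ei_sq e)]
      exact hyn ((Subtype.ext h2 : y = ⟨ei e, hiK⟩) ▸ Subgroup.mem_zpowers _)
  have hK2 : 2 ∣ Nat.card ↥K := by rw [← hio, ← Subgroup.orderOf_mk (ei e) hiK]; exact orderOf_dvd_natCard _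
  have hcyc : IsCyclic ↥(P₂ : Subgroup ↥K) := by rw [hP₂eq]; infer_instance
  have hNC := hcyc.normalizer_le_centralizer ((Nat.minFac_eq_two_iff _).2 hK2)
  have hcomp := MonoidHom.ker_transferSylow_isComplement' P₂ hNC
  set K0 := (MonoidHom.transferSylow P₂ hNC).ker with hK0def
  have hK0idx : K0.index = 2 := by
    rw [hcomp.symm.index_eq_card, hP₂eq, Nat.card_zpowers, Subgroup.orderOf_mk, hio]
  have hK0odd : Odd (Nat.card ↥K0) := by
    rw [Nat.odd_iff, ← Nat.two_dvd_ne_zero]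
    exact MonoidHom.not_dvd_card_ker_transferSylow P₂ hNC
  set O := K0.map K.subtype with hOdef
  have hOiff : ∀ x : G, x ∈ O ↔ x ∈ K ∧ Odd (orderOf x) := by
    intro x
    constructor
    · rintro ⟨y, hy, rfl⟩
      refine ⟨y.2, hK0odd.of_dvd_nat ?_⟩
      show orderOf (y : G) ∣ _
      rw [Subgroup.orderOf_coe, ← Subgroup.orderOf_mk y hy]
      exact orderOf_dvd_natCard _
    · rintro ⟨hxK, j, hj⟩
      refine ⟨⟨x, hxK⟩, ?_, rfl⟩
      have h2 : (⟨x, hxK⟩ : ↥K) = ((⟨x, hxK⟩ : ↥K) ^ 2) ^ (j + 1) := Subtype.ext (by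
        show x = (x ^ 2) ^ (j + 1)
        rw [← pow_mul, show 2 * (j + 1) = orderOf x + 1 by omega, pow_succ, pow_orderOf_eq_one, one_mul])
      rw [h2]
      exact pow_mem (Subgroup.sq_mem_of_index_two hK0idx _) _
  have hOodd : Odd (Nat.card ↥O) := by
    rw [hOdef, Subgroup.card_map_of_injective K.subtype_injective]; exact hK0odd
  have hPO : P ≤ O := fun x hx => (hOiff x).2
    ⟨Subgroup.mem_centralizer_iff.2 fun y hy => R.comm y hy x hx, R.odd_of_mem S hx⟩
  have hnormK : ∀ n ∈ Subgroup.normalizer (P : Set G), ∀ x ∈ K, n * x * n⁻¹ ∈ K := fun n hn x hx =>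
    Subgroup.mem_centralizer_iff.2 fun y hy => by
      have h := Subgroup.mem_centralizer_iff.1 hx _ ((Subgroup.mem_normalizer_iff''.1 hn y).1 hy)
      calc y * (n * x * n⁻¹) = n * (n⁻¹ * y * n * x) * n⁻¹ := by group
        _ = n * (x * (n⁻¹ * y * n)) * n⁻¹ := by rw [h]
        _ = n * x * n⁻¹ * y := by group
  have hCP : C ≤ Subgroup.normalizer (P : Set G) := fun c hc =>
    Subgroup.mem_normalizer_iff.2 fun x => ⟨R.conj c hc x, fun hx => by
      have := R.conj c⁻¹ (inv_mem hc) _ hx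
      rwa [show c⁻¹ * (c * x * c⁻¹) * c⁻¹⁻¹ = x by group] at this⟩
  have hCO : ∀ c ∈ C, ∀ x ∈ O, c * x * c⁻¹ ∈ O := fun c hc x hx => by
    obtain ⟨hxK, hxo⟩ := (hOiff x).1 hx
    refine (hOiff _).2 ⟨hnormK c (hCP hc) x hxK, ?_⟩
    rwa [← orderOf_injective (MulAut.conj c).toMonoidHom (MulAut.conj c).injective x] at hxo
  have hCOn : C ≤ Subgroup.normalizer (O : Set G) := fun c hc =>
    Subgroup.mem_normalizer_iff.2 fun x => ⟨hCO c hc x, fun hx => by
      have := hCO c⁻¹ (inv_mem hc) _ hx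
      rwa [show c⁻¹ * (c * x * c⁻¹) * c⁻¹⁻¹ = x by group] at this⟩
  have hA1 : O ⊓ C ≤ P := fun y hy => R.mem_of_odd S hy.2 hτ hτ1
    (Subgroup.mem_centralizer_iff.1 ((hOiff y).1 hy.1).1 τ hτ).symm ((hOiff y).1 hy.1).2
  -- the centralisers of the other involutions
  have hother : ∀ v ∈ eV e, v ∈ eI e → ∀ y ∈ O, y * v = v * y → ∃ m, orderOf y ∣ p ^ m := by
    intro v hv hvI y hy hyv
    obtain ⟨l, rfl⟩ := isConj_iff.1 hvI
    have hyC : l⁻¹ * y * l ∈ C := Subgroup.mem_centralizer_singleton_iff.2 (by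
      calc l⁻¹ * y * l * ei e = l⁻¹ * (y * (l * ei e * l⁻¹)) * l := by group
        _ = l⁻¹ * (l * ei e * l⁻¹ * y) * l := by rw [hyv]
        _ = ei e * (l⁻¹ * y * l) := by group)
    have hcv := (hτv _ hv).eq
    have hτC : l⁻¹ * τ * l ∈ C := Subgroup.mem_centralizer_singleton_iff.2 (by
      calc l⁻¹ * τ * l * ei e = l⁻¹ * (τ * (l * ei e * l⁻¹)) * l := by group
        _ = l⁻¹ * (l * ei e * l⁻¹ * τ) * l := by rw [hcv]
        _ = ei e * (l⁻¹ * τ * l) := by group)
    have hord : ∀ x : G, orderOf (l⁻¹ * x * l) = orderOf x := fun x => by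
      have h := orderOf_injective (MulAut.conj l⁻¹).toMonoidHom (MulAut.conj l⁻¹).injective x
      simpa using h
    obtain ⟨m, hm⟩ := IsPGroup.iff_orderOf.1 R.pgroup ⟨τ, hτ⟩
    rw [Subgroup.orderOf_mk] at hm
    have hτP : l⁻¹ * τ * l ∈ P := R.mem_of_pow S hτC (m := m) (by rw [hord, hm])
    have hτ'1 : l⁻¹ * τ * l ≠ 1 := fun h => hτ1 (by
      calc τ = l * (l⁻¹ * τ * l) * l⁻¹ := by group
        _ = 1 := by rw [h]; group)
    have hyτ := (Subgroup.mem_centralizer_iff.1 ((hOiff y).1 hy).1 τ hτ)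
    have hyP : l⁻¹ * y * l ∈ P := R.mem_of_odd S hyC hτP hτ'1 (by
      show l⁻¹ * y * l * (l⁻¹ * τ * l) = l⁻¹ * τ * l * (l⁻¹ * y * l)
      calc l⁻¹ * y * l * (l⁻¹ * τ * l) = l⁻¹ * (y * τ) * l := by group
        _ = l⁻¹ * (τ * y) * l := by rw [hyτ]
        _ = l⁻¹ * τ * l * (l⁻¹ * y * l) := by group) (by rw [hord]; exact ((hOiff y).1 hy).2)
    obtain ⟨s, hs⟩ := IsPGroup.iff_orderOf.1 R.pgroup ⟨_, hyP⟩
    rw [Subgroup.orderOf_mk, hord] at hs
    exact ⟨s, hs ▸ dvd_rfl⟩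
  have hcases : ∀ y ∈ O, y * ei e = ei e * y ∨ y * ej e = ej e * y ∨
      y * (ei e * ej e) = ei e * ej e * y → ∃ m, orderOf y ∣ p ^ m := by
    rintro y hy (h | h | h)
    · obtain ⟨s, hs⟩ := IsPGroup.iff_orderOf.1 R.pgroup
        ⟨y, hA1 ⟨hy, Subgroup.mem_centralizer_singleton_iff.2 h⟩⟩
      rw [Subgroup.orderOf_mk] at hs
      exact ⟨s, hs ▸ dvd_rfl⟩
    · exact hother _ (ej_mem_eV e) (ej_mem_eI e) y hy h
    · exact hother _ (mul_mem (ei_mem_eV e) (ej_mem_eV e)) (ek_mem_eI e) y hy h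
  -- `O` is a `p`-group
  have hOp : IsPGroup p ↥O := by
    refine IsPGroup.of_card (n := (Nat.card ↥O).primeFactorsList.length)
      (Nat.eq_prime_pow_of_unique_prime_dvd Nat.card_pos.ne' fun {r} hr hrd => ?_)
    by_contra hne
    haveI := Fact.mk hr
    have hAn : eV e ≤ Subgroup.normalizer (O : Set G) := four_le _ _ _ (hCOn hiC) (hCOn hjC)
    have hAcomm : ∀ x y : ↥(eV e), x * y = y * x := fun x y => Subtype.ext (by
      have h1 : ∀ z ∈ eV e, z * ei e = ei e * z := fun z hz => by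
        rcases mem_four.1 hz with h | h | h | h <;> rw [h]
        · group
        · exact (ei_ej e).eq.symm
        · rw [mul_assoc, (ei_ej e).eq.symm]
      have h2 : ∀ z ∈ eV e, z * ej e = ej e * z := fun z hz => by
        rcases mem_four.1 hz with h | h | h | h <;> rw [h]
        · group
        · exact (ei_ej e).eq
        · rw [← mul_assoc, (ei_ej e).eq, mul_assoc]
      have hy : (y : G) ∈ Subgroup.centralizer ({(x : G)} : Set G) :=
        four_le _ _ _ (Subgroup.mem_centralizer_singleton_iff.2 (h1 x x.2).symm)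
          (Subgroup.mem_centralizer_singleton_iff.2 (h2 x x.2).symm) y.2
      exact (Subgroup.mem_centralizer_singleton_iff.1 hy).symm)
    obtain ⟨Q, hQ⟩ := Coprime.exists_invariant_sylow (A := eV e) (G := O) hAn
      (by rw [card_eV]; exact (Nat.Coprime.pow_left 2 (Nat.coprime_two_left.2 hOodd) :
        ((2 : ℕ) ^ 2).Coprime _))
      (Or.inl (Group.isSolvable_of_comm hAcomm)) r
    set Q' := (Q : Subgroup ↥O).map O.subtype with hQ'
    have hQO : Q' ≤ O := Subgroup.map_subtype_le _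
    have hQcard : Nat.card ↥Q' = Nat.card ↥(Q : Subgroup ↥O) :=
      Subgroup.card_map_of_injective O.subtype_injective
    have hkill : ∀ y ∈ Q', y * ei e = ei e * y ∨ y * ej e = ej e * y ∨
        y * (ei e * ej e) = ei e * ej e * y → y = 1 := by
      intro y hy hcy
      obtain ⟨m, hm⟩ := hcases y (hQO hy) hcy
      obtain ⟨s, hs⟩ := IsPGroup.iff_orderOf.1 (Q.2.map O.subtype) ⟨y, hy⟩
      rw [Subgroup.orderOf_mk] at hs
      exact orderOf_eq_one_iff.1 (Nat.eq_one_of_dvd_coprimes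
        (((Nat.coprime_primes hr R.prime).2 hne).pow s m) (hs ▸ dvd_rfl) hm)
    have hQ1 : Q' ≤ ⊥ := le_of_four (ei_sq e) (ej_sq e) (ei_ej e) (ei_ne_one e) (ej_ne_one e) (ei_ne_ej e)
      (hOodd.of_dvd_nat (Subgroup.card_dvd_of_le hQO)) (hQ (ei_mem_eV e)) (hQ (ej_mem_eV e))
      (fun y hy => Subgroup.mem_bot.2 (hkill y hy.1 (Or.inl (Subgroup.mem_centralizer_singleton_iff.1 hy.2))))
      (fun y hy => Subgroup.mem_bot.2 (hkill y hy.1
        (Or.inr (Or.inl (Subgroup.mem_centralizer_singleton_iff.1 hy.2)))))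
      (fun y hy => Subgroup.mem_bot.2 (hkill y hy.1
        (Or.inr (Or.inr (Subgroup.mem_centralizer_singleton_iff.1 hy.2)))))
    have h1 : Nat.card ↥(Q : Subgroup ↥O) = 1 := by
      rw [← hQcard, le_bot_iff.1 hQ1, Subgroup.card_bot]
    have h2 : r ∣ Nat.card ↥(Q : Subgroup ↥O) := Q.dvd_card_of_dvd_card hrd
    rw [h1] at h2
    exact hr.one_lt.ne' (Nat.dvd_one.1 h2)
  -- `O = P`
  have hOP : O ≤ P := by
    have hdvd := hval O hOp
    rcases hd with rfl | ⟨rfl, w, hwC, hw⟩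
    · rw [mul_one] at hdvd
      exact (Subgroup.eq_of_le_of_card_ge hPO (by rw [R.card]; exact Nat.le_of_dvd (by omega) hdvd)).ge
    by_contra hne
    have hlt' : P < O := lt_of_le_of_ne hPO fun h => hne h.ge
    have hfac : Nat.card ↥O = ef e * d := by
      obtain ⟨c, hc⟩ : ef e ∣ Nat.card ↥O := R.card ▸ Subgroup.card_dvd_of_le hPO
      rw [hc] at hdvd ⊢
      rcases (Nat.dvd_prime R.prime).1 (Nat.dvd_of_mul_dvd_mul_left (by omega) hdvd) with rfl | rfl
      · exact absurd (Subgroup.eq_of_le_of_card_ge hPO (by rw [R.card, hc, mul_one])) hlt'.ne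
      · rfl
    set Aj := O ⊓ Subgroup.centralizer ({ej e} : Set G) with hAj
    set Ak := O ⊓ Subgroup.centralizer ({ei e * ej e} : Set G) with hAk
    have hAjk : ∀ x ∈ Aj, w * x * w⁻¹ ∈ Ak := fun x hx =>
      ⟨hCO w hwC x hx.1, Subgroup.mem_centralizer_singleton_iff.2 (by
        rw [← hw]
        calc w * x * w⁻¹ * (w * ej e * w⁻¹) = w * (x * ej e) * w⁻¹ := by group
          _ = w * (ej e * x) * w⁻¹ := by rw [Subgroup.mem_centralizer_singleton_iff.1 hx.2]
          _ = w * ej e * w⁻¹ * (w * x * w⁻¹) := by group)⟩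
    by_cases hjP : Aj ≤ P
    · have hkP : Ak ≤ P := fun x hx => by
        have hx' : w⁻¹ * x * w ∈ Aj := by
          refine ⟨by simpa using hCO w⁻¹ (inv_mem hwC) x hx.1,
            Subgroup.mem_centralizer_singleton_iff.2 ?_⟩
          have h := Subgroup.mem_centralizer_singleton_iff.1 hx.2
          rw [← hw] at h
          calc w⁻¹ * x * w * ej e = w⁻¹ * (x * (w * ej e * w⁻¹)) * w := by group
            _ = w⁻¹ * (w * ej e * w⁻¹ * x) * w := by rw [h]
            _ = ej e * (w⁻¹ * x * w) := by group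
        have := R.conj w hwC _ (hjP hx')
        rwa [show w * (w⁻¹ * x * w) * w⁻¹ = x by group] at this
      exact hne (le_of_four (ei_sq e) (ej_sq e) (ei_ej e) (ei_ne_one e) (ej_ne_one e) (ei_ne_ej e)
        hOodd (hCOn hiC) (hCOn hjC) hA1 hjP hkP)
    obtain ⟨x₀, hx₀, hx₀P⟩ := SetLike.not_le_iff_exists.1 hjP
    -- `P` and `x₀` fill `O`
    set M := P.subgroupOf O with hM
    have hMidx : M.index = d := by
      have h := M.card_mul_index
      rw [hM, Nat.card_congr (Subgroup.subgroupOfEquivOfLe hPO).toEquiv, R.card, hfac] at h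
      exact Nat.eq_of_mul_eq_mul_left (by omega) h
    have hMtop : ∀ L : Subgroup G, P ≤ L → L ≤ O → x₀ ∈ L → L = O := fun L hPL hLO hxL => by
      refine le_antisymm hLO ?_
      have h1 : M ≤ L.subgroupOf O := fun z hz => hPL hz
      have h2 := Subgroup.index_dvd_of_le h1
      rw [hMidx] at h2
      rcases (Nat.dvd_prime R.prime).1 h2 with h | h
      · intro z hz
        exact (Subgroup.index_eq_one.1 h).ge (Subgroup.mem_top (⟨z, hz⟩ : ↥O))
      · exfalso
        have h3 : M.relIndex (L.subgroupOf O) * (L.subgroupOf O).index = M.index :=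
          Subgroup.relIndex_mul_index h1
        rw [h, hMidx] at h3
        have h4 : M.relIndex (L.subgroupOf O) = 1 :=
          Nat.eq_of_mul_eq_mul_right R.prime.pos (by rw [h3, one_mul])
        exact hx₀P ((Subgroup.relIndex_eq_one.1 h4) (show (⟨x₀, hx₀.1⟩ : ↥O) ∈ L.subgroupOf O from hxL))
    have hnP : Aj ≤ Subgroup.normalizer (P : Set G) := fun x hx => by
      have hxK := ((hOiff x).1 hx.1).1
      refine Subgroup.mem_normalizer_iff.2 fun y => ⟨fun hy => ?_, fun hy => ?_⟩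
      · rw [← Subgroup.mem_centralizer_iff.1 hxK y hy, mul_inv_cancel_right]; exact hy
      · have h1 := Subgroup.mem_centralizer_iff.1 hxK _ hy
        rw [inv_mul_cancel_right] at h1
        rwa [← mul_left_cancel h1] at hy
    have hset : ∀ y ∈ O, ∃ r ∈ P, ∃ s ∈ Aj, y = r * s := fun y hy => by
      have hsup : P ⊔ Aj = O := hMtop _ le_sup_left (sup_le hPO inf_le_left) (Subgroup.mem_sup_right hx₀)
      have hy' : y ∈ ((P ⊔ Aj : Subgroup G) : Set G) := by rw [hsup]; exact hy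
      rw [Subgroup.coe_mul_of_right_le_normalizer_left P Aj hnP] at hy'
      obtain ⟨r, hr, s, hs, rfl⟩ := Set.mem_mul.1 hy'
      exact ⟨r, hr, s, hs, rfl⟩
    -- every member of `Ak` lies in `P`
    have hyk : ∀ y ∈ Ak, y ∈ P := by
      intro y hy
      obtain ⟨r, hr, s, hs, rfl⟩ := hset y hy.1
      have hrC := R.le hr
      have hri := Subgroup.mem_centralizer_singleton_iff.1 hrC
      have hsj := Subgroup.mem_centralizer_singleton_iff.1 hs.2
      have hk := Subgroup.mem_centralizer_singleton_iff.1 hy.2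
      set r' := ej e * r * (ej e)⁻¹ with hr'
      set s' := ei e * s * (ei e)⁻¹ with hs'
      have key : r' * s = r * s' := by
        have e1 : ej e * (r * s) * (ej e)⁻¹ = r' * s := by
          rw [hr', show ej e * (r * s) * (ej e)⁻¹ = ej e * r * (ej e)⁻¹ * (ej e * s * (ej e)⁻¹) by group,
            ← hsj, mul_inv_cancel_right]
        have e2 : ei e * (r * s) * (ei e)⁻¹ = r * s' := by
          rw [hs', show ei e * (r * s) * (ei e)⁻¹ = ei e * r * (ei e)⁻¹ * (ei e * s * (ei e)⁻¹) by group,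
            ← hri, mul_inv_cancel_right]
        rw [← e1, ← e2]
        calc ej e * (r * s) * (ej e)⁻¹
            = ei e * (ei e * ej e * (r * s)) * (ej e)⁻¹ := by
              rw [← mul_assoc (ei e) (ei e * ej e), ← mul_assoc (ei e) (ei e), ei_sq, one_mul]
          _ = ei e * (r * s * (ei e * ej e)) * (ej e)⁻¹ := by rw [hk]
          _ = ei e * (r * s) * (ei e)⁻¹ := by
              rw [inv_eq_of_mul_eq_one_right (ei_sq e)]; group
      set q := r⁻¹ * r' with hq
      have hqP : q ∈ P := mul_mem (inv_mem hr) (R.conj _ hjC r hr)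
      have hqs : q = s' * s⁻¹ := by
        rw [hq, eq_mul_inv_iff_mul_eq, mul_assoc, inv_mul_eq_iff_eq_mul, key]
      have hqj : q * ej e = ej e * q := by
        have h1 : s * ej e = ej e * s := hsj
        have h2 : ei e * ej e = ej e * ei e := (ei_ej e).eq
        have hi' : (ei e)⁻¹ * ej e = ej e * (ei e)⁻¹ := by
          rw [inv_eq_of_mul_eq_one_right (ei_sq e), h2]
        have c1 : Commute (ej e) s := hsj.symm
        have c2 : Commute (ej e) (ei e) := h2.symm
        rw [hqs, hs']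
        exact ((((c2.mul_right c1).mul_right c2.inv_right).mul_right c1.inv_right).eq).symm
      have hinv : ej e * q * (ej e)⁻¹ = q⁻¹ := by
        rw [hq, hr', inv_eq_of_mul_eq_one_right (ej_sq e)]
        calc ej e * (r⁻¹ * (ej e * r * ej e)) * ej e
            = ej e * r⁻¹ * ej e * r * (ej e * ej e) := by group
          _ = (r⁻¹ * (ej e * r * ej e))⁻¹ := by
            rw [ej_sq, mul_one, mul_inv_rev, mul_inv_rev, mul_inv_rev,
              inv_eq_of_mul_eq_one_right (ej_sq e), inv_inv]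
            group
      rw [← hqj, mul_inv_cancel_right] at hinv
      have hq1 : q = 1 := odd_unique_two (R.odd_of_mem S hqP) (i := 1)
        (orderOf_dvd_of_pow_eq_one (by rw [pow_one, pow_two]; exact mul_eq_one_iff_eq_inv.2 hinv))
      rw [hq1, eq_comm, mul_inv_eq_one, hs', mul_inv_eq_iff_eq_mul] at hqs
      exact mul_mem hr (hA1 ⟨hs.1, Subgroup.mem_centralizer_singleton_iff.2 hqs.symm⟩)
    have h' := R.conj w⁻¹ (inv_mem hwC) _ (hyk _ (hAjk _ hx₀))
    exact hx₀P (by rwa [show w⁻¹ * (w * x₀ * w⁻¹) * w⁻¹⁻¹ = x₀ by group] at h')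
  -- conclusion
  intro n hn
  have hx : n * ei e * n⁻¹ ∈ K := hnormK n hn _ hiK
  have hx2 : n * ei e * n⁻¹ * (n * ei e * n⁻¹) = 1 := by
    calc n * ei e * n⁻¹ * (n * ei e * n⁻¹) = n * (ei e * ei e) * n⁻¹ := by group
      _ = 1 := by rw [ei_sq]; group
  have h := Subgroup.mul_mem_iff_of_index_two hK0idx (a := (⟨_, hx⟩ : ↥K)) (b := ⟨ei e, hiK⟩)
  have hiK0 : (⟨ei e, hiK⟩ : ↥K) ∉ K0 := fun hh => ei_ne_one e
    (odd_unique_two (R.odd_of_mem S (hOP ⟨_, hh, rfl⟩)) (i := 1) (by rw [hio, pow_one]))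
  refine Subgroup.mem_centralizer_singleton_iff.2 (mul_inv_eq_iff_eq_mul.1 ?_)
  by_cases hxK : (⟨_, hx⟩ : ↥K) ∈ K0
  · refine absurd (odd_unique_two (R.odd_of_mem S (hOP ⟨_, hxK, rfl⟩)) (i := 1)
      (orderOf_dvd_of_pow_eq_one (by rw [pow_one, pow_two]; exact hx2))) ?_
    exact fun h => ei_ne_one e (conj_eq_one_iff.1 h)
  · set x := n * ei e * n⁻¹ with hxdef
    have hq : x * ei e ∈ P := hOP ⟨_, h.2 (iff_of_false hxK hiK0), rfl⟩
    have hxC : Commute x (ei e) := by
      have := Subgroup.mem_centralizer_singleton_iff.1 (mul_mem (R.le hq) (inv_mem hiC))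
      rwa [mul_inv_cancel_right] at this
    have h1 : x * ei e = 1 := odd_unique_two (R.odd_of_mem S hq) (i := 1)
      (orderOf_dvd_of_pow_eq_one (by rw [pow_one, hxC.mul_pow, pow_two, pow_two, hx2, ei_sq, one_mul]))
    rw [← inv_eq_of_mul_eq_one_left h1, inv_eq_of_mul_eq_one_right (ei_sq e)]

/-- **If `P` is a Sylow subgroup, Sylow's congruence.** -/
theorem RegOdd.congruence (hlt : eg e < ef e)
    (hval : ∀ Q : Subgroup G, IsPGroup p ↥Q → Nat.card ↥Q ∣ ef e) : (eI e).ncard ≡ 1 [MOD p] := by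
  haveI := Fact.mk R.prime
  have hN := R.normalizer_le S hlt (d := 1) (by simpa using hval) (Or.inl rfl)
  have hN' : Subgroup.normalizer (P : Set G) = Subgroup.centralizer ({ei e} : Set G) :=
    le_antisymm hN fun c hc => Subgroup.mem_normalizer_iff.2 fun x => ⟨R.conj c hc x, fun hx => by
      have := R.conj c⁻¹ (inv_mem hc) _ hx
      rwa [show c⁻¹ * (c * x * c⁻¹) * c⁻¹⁻¹ = x by group] at this⟩
  obtain ⟨Q, hQ⟩ := R.pgroup.exists_le_sylow
  have hQP : (Q : Subgroup G) = P := (Subgroup.eq_of_le_of_card_ge hQ (by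
    rw [R.card]
    exact Nat.le_of_dvd (by have := S.two_le_f e; omega) (hval _ Q.2))).symm
  have hn := card_sylow_modEq_one p G
  rw [Sylow.card_eq_index_normalizer Q, show (Q : Set G) = (P : Set G) by rw [← hQP]; rfl, hN',
    index_centralizer_singleton] at hn
  exact hn

/-- **If `P` has index `p` in a Sylow subgroup: impossible.** -/
theorem RegOdd.false_of_index (hlt : eg e < ef e)
    (hval : ∀ Q : Subgroup G, IsPGroup p ↥Q → Nat.card ↥Q ∣ ef e * p)
    (hdvd : ef e * p ∣ Nat.card G)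
    (hw : ∃ w ∈ Subgroup.centralizer ({ei e} : Set G), w * ej e * w⁻¹ = ei e * ej e) : False := by
  haveI := Fact.mk R.prime
  have hN := R.normalizer_le S hlt hval (Or.inr ⟨rfl, hw⟩)
  obtain ⟨Q, hQ⟩ := R.pgroup.exists_le_sylow
  obtain ⟨k, hk⟩ := IsPGroup.iff_card.1 R.pgroup
  have hcard : ef e * p ∣ Nat.card ↥(Q : Subgroup G) := by
    rw [R.card] at hk
    rw [hk, ← pow_succ] at hdvd ⊢
    exact Sylow.pow_dvd_card_of_pow_dvd_card Q hdvd
  have hne : P ≠ (Q : Subgroup G) := fun h => by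
    rw [← h, R.card] at hcard
    have := Nat.le_of_dvd (by have := S.two_le_f e; omega) hcard
    have := R.prime.two_le
    have := S.two_le_f e
    nlinarith
  obtain ⟨y, hy, hyP⟩ := SetLike.exists_of_lt
    (CfsgLib.Small.lt_inf_normalizer_of_pGroup (p := p) Q.2 (lt_of_le_of_ne hQ hne))
  obtain ⟨m, hm⟩ := IsPGroup.iff_orderOf.1 Q.2 ⟨y, (Subgroup.mem_inf.1 hy).1⟩
  rw [Subgroup.orderOf_mk] at hm
  exact hyP (R.mem_of_pow S (hN (Subgroup.mem_inf.1 hy).2) (m := m) (hm ▸ dvd_rfl))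

end

end CfsgLib.TwoTransAFive
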