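import Mathlib.GroupTheory.GroupAction.MultipleTransitivity
import Mathlib.GroupTheory.GroupAction.ConjAct
import Mathlib.Data.Finset.Prod
import Mathlib.Data.Set.Card
import Mathlib.Tactic

/-!
# Double counting of a conjugation-invariant set in a doubly transitive group
-/

set_option autoImplicit false

namespace CfsgLib.TwoTransAFive

open MulAction

variable {G : Type*} [Group G] {α : Type*} [MulAction G α]

/-- The number of members with a prescribed behaviour on a pair is the same for all pairs. -/
theorem ncard_pair_eq (h2 : IsMultiplyPretransitive G α 2) {X : Set G}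
    (hX : ∀ g : G, ∀ x ∈ X, g * x * g⁻¹ ∈ X) (P : G → α → α → Prop)
    (hP : ∀ (g x : G) (c d : α), P (g * x * g⁻¹) (g • c) (g • d) ↔ P x c d) {a b c d : α}
    (hab : a ≠ b) (hcd : c ≠ d) :
    {x ∈ X | P x a b}.ncard = {x ∈ X | P x c d}.ncard := by
  obtain ⟨g, rfl, rfl⟩ := is_two_pretransitive_iff.1 h2 hab hcd
  rw [← Set.ncard_image_of_injective {x ∈ X | P x a b} (f := fun x => g * x * g⁻¹)
    (fun u v h => mul_left_cancel (mul_right_cancel h))]
  congr 1
  ext y
  constructor
  · rintro ⟨x, ⟨hx, hp⟩, rfl⟩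
    exact ⟨hX g x hx, (hP g x a b).2 hp⟩
  · rintro ⟨hy, hp⟩
    refine ⟨g⁻¹ * y * g, ⟨by simpa using hX g⁻¹ y hy, (hP g _ a b).1 ?_⟩, by group⟩
    rwa [show g * (g⁻¹ * y * g) * g⁻¹ = y by group]

variable [Finite G] [Finite α]

/-- Members fixing a pair against members moving one point to the other. -/
theorem count (h2 : IsMultiplyPretransitive G α 2) {X : Set G}
    (hX : ∀ g : G, ∀ x ∈ X, g * x * g⁻¹ ∈ X) {f : ℕ}
    (hf : ∀ x ∈ X, (fixedBy α x).ncard = f) {a b : α} (hab : a ≠ b) :
    X.ncard * (f * (f - 1)) =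
        {x ∈ X | x • a = a ∧ x • b = b}.ncard * (Nat.card α * (Nat.card α - 1)) ∧
      X.ncard * (Nat.card α - f) = {x ∈ X | x • a = b}.ncard * (Nat.card α * (Nat.card α - 1)) := by
  classical
  haveI := Fintype.ofFinite G
  haveI := Fintype.ofFinite α
  set S : Finset G := Finset.univ.filter (· ∈ X) with hS
  have hSX : S.card = X.ncard := by
    rw [← Set.ncard_coe_finset]; congr 1; ext x; simp [hS]
  have hn : Nat.card α = Fintype.card α := Nat.card_eq_fintype_card
  have hfil : ∀ (Q : G → Prop), (S.filter Q).card = {x ∈ X | Q x}.ncard := fun Q => by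
    rw [← Set.ncard_coe_finset]; congr 1; ext x; simp [hS]
  have key : ∀ P : G → α → α → Prop, (∀ (g x : G) (c d : α), P (g * x * g⁻¹) (g • c) (g • d) ↔ P x c d) →
      ∑ x ∈ S, (Finset.univ.offDiag.filter fun p : α × α => P x p.1 p.2).card =
        {x ∈ X | P x a b}.ncard * (Nat.card α * (Nat.card α - 1)) := by
    intro P hP
    simp only [Finset.card_filter]
    rw [Finset.sum_comm]
    simp only [← Finset.card_filter]
    rw [Finset.sum_congr rfl (g := fun _ => {x ∈ X | P x a b}.ncard) fun p hp => ?_, Finset.sum_const,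
      smul_eq_mul, Finset.offDiag_card, Finset.card_univ, hn, mul_comm, Nat.mul_sub _ (Fintype.card α) 1,
      mul_one]
    rw [hfil, ncard_pair_eq h2 hX P hP hab (Finset.mem_offDiag.1 hp).2.2]
  have hsm : ∀ (g x : G) (c : α), (g * x * g⁻¹) • g • c = g • x • c := fun g x c => by
    simp only [mul_smul, inv_smul_smul]
  have hfixc : ∀ x ∈ X, (Finset.univ.filter fun c : α => x • c = c).card = f := fun x hx => by
    rw [← hf x hx, ← Set.ncard_coe_finset]; congr 1; ext c; simp [fixedBy]
  refine ⟨?_, ?_⟩
  · rw [← key (fun x c d => x • c = c ∧ x • d = d) fun g x c d => by simp only [hsm, smul_left_cancel_iff],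
      Finset.sum_congr rfl (g := fun _ => f * (f - 1)) fun x hx => ?_, Finset.sum_const, smul_eq_mul, hSX]
    have hxX : x ∈ X := (Finset.mem_filter.1 hx).2
    have e : (Finset.univ.filter fun c : α => x • c = c).offDiag.card = f * (f - 1) := by
      rw [Finset.offDiag_card, hfixc x hxX, Nat.mul_sub, mul_one]
    rw [← e]
    congr 1
    ext p; simp [Finset.mem_offDiag]; tauto
  · rw [← key (fun x c d => x • c = d) fun g x c d => by simp only [hsm, smul_left_cancel_iff],
      Finset.sum_congr rfl (g := fun _ => Nat.card α - f) fun x hx => ?_, Finset.sum_const, smul_eq_mul, hSX]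
    have hxX : x ∈ X := (Finset.mem_filter.1 hx).2
    have e : ((Finset.univ.filter fun c : α => ¬ x • c = c).image fun c => (c, x • c)).card =
        Nat.card α - f := by
      rw [Finset.card_image_of_injective _ fun u v h => (Prod.mk.inj h).1, hn]
      have hsum := Finset.card_filter_add_card_filter_not (s := (Finset.univ : Finset α)) fun c => x • c = c
      rw [Finset.card_univ, hfixc x hxX] at hsum
      omega
    rw [← e]
    congr 1
    · ext ⟨c, d⟩
      simp only [Finset.mem_filter, Finset.mem_offDiag, Finset.mem_univ, true_and, Finset.mem_image,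
        Prod.mk.injEq]
      constructor
      · rintro ⟨hne, rfl⟩; exact ⟨c, fun h => hne h.symm, rfl, rfl⟩
      · rintro ⟨e, he, rfl, rfl⟩; exact ⟨fun h => he h.symm, rfl⟩

/-- The relation between fixed and moved pairs. -/
theorem count_rel (h2 : IsMultiplyPretransitive G α 2) {X : Set G}
    (hX : ∀ g : G, ∀ x ∈ X, g * x * g⁻¹ ∈ X) {f : ℕ}
    (hf : ∀ x ∈ X, (fixedBy α x).ncard = f) {a b : α} (hab : a ≠ b) :
    {x ∈ X | x • a = a ∧ x • b = b}.ncard * (Nat.card α - f) =
      {x ∈ X | x • a = b}.ncard * (f * (f - 1)) := by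
  obtain ⟨h1, h3⟩ := count h2 hX hf hab
  have hn : 0 < Nat.card α * (Nat.card α - 1) := by
    haveI : Nontrivial α := ⟨⟨a, b, hab⟩⟩
    have := Finite.one_lt_card (α := α)
    exact Nat.mul_pos (by omega) (by omega)
  apply Nat.eq_of_mul_eq_mul_right hn
  rw [mul_right_comm, ← h1, mul_right_comm, ← mul_assoc, h3]
  ring

end CfsgLib.TwoTransAFive
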