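import Cfsg.Agent.Coprime.Generation

/-!
# Generation of a group of odd order by the centralisers of a four-group
-/

set_option autoImplicit false

namespace CfsgLib.TwoTransAFive

variable {X : Type*} [Group X]

/-- The four-group of two commuting involutions. -/
def four (s t : X) (hs : s * s = 1) (ht : t * t = 1) (h : Commute s t) : Subgroup X where
  carrier := {1, s, t, s * t}
  one_mem' := Or.inl rfl
  mul_mem' := by
    have e1 : t * s = s * t := h.eq.symm
    have e2 : s * t * s = t := by rw [h.eq, mul_assoc, hs, mul_one]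
    have e3 : s * t * t = s := by rw [mul_assoc, ht, mul_one]
    have e4 : s * (s * t) = t := by rw [← mul_assoc, hs, one_mul]
    have e5 : t * (s * t) = s := by rw [← mul_assoc, e1, e3]
    have e6 : s * t * (s * t) = 1 := by rw [← mul_assoc, e2, ht]
    intro x y hx hy
    simp only [Set.mem_insert_iff, Set.mem_singleton_iff] at hx hy ⊢
    rcases hx with rfl | rfl | rfl | rfl <;> rcases hy with rfl | rfl | rfl | rfl <;>
      simp [hs, ht, e1, e2, e3, e4, e5, e6]
  inv_mem' := by
    intro x hx
    simp only [Set.mem_insert_iff, Set.mem_singleton_iff] at hx ⊢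
    rcases hx with rfl | rfl | rfl | rfl
    · simp
    · exact Or.inr (Or.inl (inv_eq_of_mul_eq_one_right hs))
    · exact Or.inr (Or.inr (Or.inl (inv_eq_of_mul_eq_one_right ht)))
    · refine Or.inr (Or.inr (Or.inr ?_))
      rw [mul_inv_rev, inv_eq_of_mul_eq_one_right hs, inv_eq_of_mul_eq_one_right ht, h.eq]

theorem mem_four {s t x : X} {hs : s * s = 1} {ht : t * t = 1} {h : Commute s t} :
    x ∈ four s t hs ht h ↔ x = 1 ∨ x = s ∨ x = t ∨ x = s * t := Iff.rfl

theorem four_le {s t : X} (hs : s * s = 1) (ht : t * t = 1) (h : Commute s t) {K : Subgroup X}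
    (h1 : s ∈ K) (h2 : t ∈ K) : four s t hs ht h ≤ K := by
  rintro x (rfl | rfl | rfl | rfl)
  exacts [one_mem _, h1, h2, mul_mem h1 h2]

theorem card_four [Finite X] {s t : X} (hs : s * s = 1) (ht : t * t = 1) (h : Commute s t) (hs1 : s ≠ 1)
    (ht1 : t ≠ 1) (hst : s ≠ t) : Nat.card ↥(four s t hs ht h) = 4 := by
  have hst1 : s * t ≠ 1 := fun e =>
    hst (by rw [← inv_eq_of_mul_eq_one_right hs, inv_eq_of_mul_eq_one_right e])
  have he : ((four s t hs ht h : Subgroup X) : Set X) = {1, s, t, s * t} := rfl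
  have hc : Nat.card ↥(four s t hs ht h) = ((four s t hs ht h : Subgroup X) : Set X).ncard :=
    Nat.card_coe_set_eq _
  rw [hc, he, Set.ncard_insert_of_notMem (by simp [hs1.symm, ht1.symm, hst1.symm]) (Set.toFinite _),
    Set.ncard_insert_of_notMem (by simp [hst, ht1]) (Set.toFinite _),
    Set.ncard_pair (by simp [hs1])]

/-- A group of odd order is generated by the centralisers of a four-group normalising it. -/
theorem le_of_four [Finite X] {s t : X} (hs : s * s = 1) (ht : t * t = 1) (h : Commute s t) (hs1 : s ≠ 1)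
    (ht1 : t ≠ 1) (hst : s ≠ t) {G : Subgroup X} (hodd : Odd (Nat.card ↥G))
    (hsG : s ∈ Subgroup.normalizer (G : Set X)) (htG : t ∈ Subgroup.normalizer (G : Set X))
    {W : Subgroup X}
    (h1 : G ⊓ Subgroup.centralizer ({s} : Set X) ≤ W) (h2 : G ⊓ Subgroup.centralizer ({t} : Set X) ≤ W)
    (h3 : G ⊓ Subgroup.centralizer ({s * t} : Set X) ≤ W) : G ≤ W := by
  set A := four s t hs ht h with hAdef
  have hcomm : ∀ x ∈ A, ∀ y ∈ A, x * y = y * x := by
    have e1 : t * s = s * t := h.eq.symm
    have hA : A ≤ Subgroup.centralizer ({s} : Set X) ⊓ Subgroup.centralizer ({t} : Set X) :=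
      four_le hs ht h
        ⟨Subgroup.mem_centralizer_singleton_iff.2 rfl, Subgroup.mem_centralizer_singleton_iff.2 h.eq⟩
        ⟨Subgroup.mem_centralizer_singleton_iff.2 e1, Subgroup.mem_centralizer_singleton_iff.2 rfl⟩
    intro x hx y hy
    obtain ⟨hx1, hx2⟩ := hA hx
    have hy' : y ∈ Subgroup.centralizer ({x} : Set X) :=
      four_le hs ht h (Subgroup.mem_centralizer_singleton_iff.2
          (Subgroup.mem_centralizer_singleton_iff.1 hx1).symm)
        (Subgroup.mem_centralizer_singleton_iff.2
          (Subgroup.mem_centralizer_singleton_iff.1 hx2).symm) hy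
    exact (Subgroup.mem_centralizer_singleton_iff.1 hy').symm
  haveI : IsMulCommutative A := ⟨⟨fun x y => Subtype.ext (hcomm x x.2 y y.2)⟩⟩
  refine Coprime.le_of_forall_inf_centralizer_le (A := A) ?_ (four_le hs ht h hsG htG) ?_ ?_
  · intro hcyc
    classical
    haveI := Fintype.ofFinite ↥A
    haveI := hcyc
    have hall : ∀ x : ↥A, x ^ 2 = 1 := fun x => Subtype.ext (by
      show (x : X) ^ 2 = 1
      rw [pow_two]
      have e6 : s * t * (s * t) = 1 := by
        rw [← mul_assoc, show s * t * s = t by rw [h.eq, mul_assoc, hs, mul_one], ht]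
      rcases x.2 with e | e | e | e <;> rw [e]
      exacts [one_mul 1, hs, ht, e6])
    have h4 := IsCyclic.card_pow_eq_one_le (α := ↥A) (n := 2) two_pos
    rw [Finset.filter_true_of_mem (fun x _ => hall x), Finset.card_univ, ← Nat.card_eq_fintype_card,
      card_four hs ht h hs1 ht1 hst] at h4
    omega
  · rw [card_four hs ht h hs1 ht1 hst]
    exact (Nat.Coprime.pow_left 2 ((Nat.coprime_two_left).2 hodd) : ((2 : ℕ) ^ 2).Coprime _)
  · rintro x (rfl | rfl | rfl | rfl) hx1
    exacts [absurd rfl hx1, h1, h2, h3]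

end CfsgLib.TwoTransAFive
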