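import Cfsg.Agent.TwoTransAFive.Sharp

/-!
# Subgroups transitive on the pairs of points of an invariant set
-/

set_option autoImplicit false

namespace CfsgLib.TwoTransAFive

open MulAction

variable {G : Type*} [Group G] {α : Type*} [MulAction G α]

/-- `K` stabilises `s` and is transitive on its pairs. -/
structure PairTrans (K : Subgroup G) (s : Set α) : Prop where
  maps : ∀ k ∈ K, ∀ x ∈ s, k • x ∈ s
  pairs : ∀ {c d c' d' : α}, c ∈ s → d ∈ s → c' ∈ s → d' ∈ s → c ≠ d → c' ≠ d' →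
    ∃ k ∈ K, k • c = c' ∧ k • d = d'

/-- Orbit–stabiliser inside a subgroup. -/
theorem card_eq_ncard_orbit_mul [Finite G] (K : Subgroup G) (x : α) :
    Nat.card ↥K = ((fun k => k • x) '' (K : Set G)).ncard * Nat.card ↥(K ⊓ stabilizer G x) := by
  rw [← (stabilizer ↥K x).card_mul_index, index_stabilizer, mul_comm]
  congr 1
  · congr 1
    ext y
    exact ⟨fun ⟨k, hk⟩ => ⟨k, k.2, hk⟩, fun ⟨k, hk, he⟩ => ⟨⟨k, hk⟩, he⟩⟩
  · exact Nat.card_congr
      { toFun := fun k => ⟨k.1.1, k.1.2, k.2⟩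
        invFun := fun k => ⟨⟨k.1, k.2.1⟩, k.2.2⟩
        left_inv := fun k => rfl
        right_inv := fun k => rfl }

namespace PairTrans

variable [Finite G] [Finite α] {K : Subgroup G} {s : Set α} (P : PairTrans K s)
include P

theorem card_point {a b : α} (ha : a ∈ s) (hb : b ∈ s) (hab : a ≠ b) :
    Nat.card ↥(K ⊓ stabilizer G a) = (s.ncard - 1) * Nat.card ↥(K ⊓ stabilizer G a ⊓ stabilizer G b) := by
  rw [card_eq_ncard_orbit_mul (K ⊓ stabilizer G a) b]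
  congr 1
  rw [← Set.ncard_diff_singleton_of_mem ha]
  congr 1
  ext y
  constructor
  · rintro ⟨k, hk, rfl⟩
    obtain ⟨hkK, hka⟩ := Subgroup.mem_inf.1 hk
    exact ⟨P.maps k hkK b hb, fun e : k • b = a => hab (MulAction.injective k (hka.trans e.symm))⟩
  · rintro ⟨hy, hya⟩
    obtain ⟨k, hk, h1, h2⟩ := P.pairs ha hb ha hy hab (Ne.symm hya)
    exact ⟨k, ⟨hk, h1⟩, h2⟩

theorem card_all {a b : α} (ha : a ∈ s) (hb : b ∈ s) (hab : a ≠ b) :
    Nat.card ↥K = s.ncard * ((s.ncard - 1) * Nat.card ↥(K ⊓ stabilizer G a ⊓ stabilizer G b)) := by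
  rw [← P.card_point ha hb hab, card_eq_ncard_orbit_mul K a]
  congr 2
  ext y
  constructor
  · rintro ⟨k, hk, rfl⟩
    exact P.maps k hk a ha
  · intro hy
    by_cases hya : y = a
    · exact ⟨1, one_mem _, by rw [hya]; exact one_smul G a⟩
    · obtain ⟨k, hk, h1, -⟩ := P.pairs ha hb hy ha hab hya
      exact ⟨k, hk, h1⟩

omit [Finite G] [Finite α] in
theorem two : IsMultiplyPretransitive ↥(actOn K s P.maps).range ↥s 2 := by
  rw [is_two_pretransitive_iff]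
  rintro ⟨c, hc⟩ ⟨c', hc'⟩ ⟨d, hd⟩ ⟨d', hd'⟩ hcd hcd'
  obtain ⟨k, hk, h1, h2⟩ := P.pairs hc hc' hd hd' (fun e => hcd (Subtype.ext e))
    (fun e => hcd' (Subtype.ext e))
  exact ⟨⟨actOn K s P.maps ⟨k, hk⟩, _, rfl⟩, Subtype.ext h1, Subtype.ext h2⟩

omit [Finite G] [Finite α] in
/-- If the pair stabiliser fixes the whole set the action is sharply 2-transitive. -/
theorem sharp {a b : α} (ha : a ∈ s) (hb : b ∈ s) (hab : a ≠ b)
    (hfix : ∀ k ∈ K, k • a = a → k • b = b → ∀ x ∈ s, k • x = x) :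
    ∀ (k : ↥(actOn K s P.maps).range) (c d : ↥s), c ≠ d → k • c = c → k • d = d → k = 1 := by
  rintro ⟨_, k, rfl⟩ ⟨c, hc⟩ ⟨d, hd⟩ hcd h1 h2
  obtain ⟨l, hl, hl1, hl2⟩ := P.pairs ha hb hc hd hab (fun e => hcd (Subtype.ext e))
  have h1' : (k : G) • c = c := congrArg Subtype.val h1
  have h2' : (k : G) • d = d := congrArg Subtype.val h2
  refine Subtype.ext (MonoidHom.mem_ker.1 ((mem_ker_actOn P.maps).2 fun x hx => ?_))
  have h := hfix (l⁻¹ * k * l) (mul_mem (mul_mem (inv_mem hl) k.2) hl)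
    (by rw [mul_smul, mul_smul, hl1, h1', inv_smul_eq_iff, hl1])
    (by rw [mul_smul, mul_smul, hl2, h2', inv_smul_eq_iff, hl2]) (l⁻¹ • x) (P.maps _ (inv_mem hl) x hx)
  rw [mul_smul, mul_smul, smul_inv_smul, smul_left_cancel_iff] at h
  exact h

omit [Finite G] in
theorem exists_prime_pow {a b : α} (ha : a ∈ s) (hb : b ∈ s) (hab : a ≠ b)
    (hfix : ∀ k ∈ K, k • a = a → k • b = b → ∀ x ∈ s, k • x = x) :
    ∃ p m : ℕ, p.Prime ∧ 1 ≤ m ∧ s.ncard = p ^ m := by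
  haveI : Nontrivial ↥s := ⟨⟨⟨a, ha⟩, ⟨b, hb⟩, fun h => hab (congrArg Subtype.val h)⟩⟩
  obtain ⟨p, m, hp, hm, hc, -⟩ :=
    CfsgLib.Perm.SharplyTwo.exists_prime_pow P.two (P.sharp ha hb hab hfix)
  exact ⟨p, m, hp, hm, by rw [← Nat.card_coe_set_eq]; exact hc⟩

end PairTrans

end CfsgLib.TwoTransAFive
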