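import Cfsg.Agent.TwoTransAFive.AFive
import Cfsg.Agent.TwoTransAFive.Pairs
import Cfsg.Agent.TwoTransAFive.Count
import Cfsg.Agent.TwoTransAFive.Four

/-!
# A doubly transitive group whose two-point stabiliser is the alternating group of degree five
-/

set_option autoImplicit false

namespace CfsgLib.TwoTransAFive

open MulAction

variable {G : Type*} [Group G] {Ω : Type*} [MulAction G Ω]

/-- A nontrivial normal subgroup of a faithful 2-transitive group is transitive. -/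
theorem pretransitive_of_normal (hf : ∀ c : G, (∀ x : Ω, c • x = x) → c = 1)
    (h2 : IsMultiplyPretransitive G Ω 2) {N : Subgroup G} (hN : N.Normal) (hne : N ≠ ⊥) :
    IsPretransitive ↥N Ω := by
  obtain ⟨m, hm, hm1⟩ : ∃ m ∈ N, m ≠ 1 := by
    by_contra h
    push Not at h
    exact hne ((Subgroup.eq_bot_iff_forall N).2 h)
  obtain ⟨c, hc⟩ : ∃ c : Ω, m • c ≠ c := by
    by_contra h
    push Not at h
    exact hm1 (hf m h)
  refine ⟨fun x y => ?_⟩
  by_cases hxy : x = y
  · exact ⟨1, by rw [one_smul, hxy]⟩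
  obtain ⟨g, h1, h2'⟩ := is_two_pretransitive_iff.1 h2 (Ne.symm hc) hxy
  refine ⟨⟨g * m * g⁻¹, hN.conj_mem m hm g⟩, ?_⟩
  show (g * m * g⁻¹) • x = y
  rw [mul_smul, mul_smul, ← h1, inv_smul_smul, h2']

/-- The members of a class are as many as the index of a centraliser. -/
theorem index_centralizer_singleton [Finite G] (x : G) :
    (Subgroup.centralizer ({x} : Set G)).index = {y : G | IsConj x y}.ncard := by
  have e : Subgroup.centralizer ({x} : Set G) =
      (stabilizer (ConjAct G) x).comap ConjAct.toConjAct.toMonoidHom :=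
    Subgroup.centralizer_eq_comap_stabilizer x
  have e2 : {y : G | IsConj x y} = orbit (ConjAct G) x := by
    ext y
    rw [ConjAct.mem_orbit_conjAct]
    exact ⟨IsConj.symm, IsConj.symm⟩
  rw [e, e2, ← index_stabilizer]
  exact Subgroup.index_comap_of_surjective (G' := G) (stabilizer (ConjAct G) x)
    (f := ConjAct.toConjAct.toMonoidHom) ConjAct.toConjAct.surjective

/-- The centre of a normal subgroup is normal. -/
theorem center_map_normal (N : Subgroup G) [N.Normal] : ((Subgroup.center ↥N).map N.subtype).Normal := by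
  refine ⟨?_⟩
  rintro _ ⟨m, hm, rfl⟩ g
  refine ⟨⟨g * m * g⁻¹, ‹N.Normal›.conj_mem _ m.2 g⟩, Subgroup.mem_center_iff.2 fun k => Subtype.ext ?_, rfl⟩
  have h := congrArg Subtype.val (Subgroup.mem_center_iff.1 hm ⟨g⁻¹ * k * g, by
    simpa using ‹N.Normal›.conj_mem _ k.2 g⁻¹⟩)
  have h' : g⁻¹ * (k : G) * g * m = m * (g⁻¹ * k * g) := h
  show (k : G) * (g * m * g⁻¹) = g * m * g⁻¹ * k
  calc (k : G) * (g * m * g⁻¹) = g * (g⁻¹ * k * g * m) * g⁻¹ := by group
    _ = g * (m * (g⁻¹ * k * g)) * g⁻¹ := by rw [h']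
    _ = g * m * g⁻¹ * k := by group

section

variable {a b : Ω} (e : ↥(stabilizer G a ⊓ stabilizer G b) ≃* AFive)

/-- The first involution of the four-group. -/
def ei : G := (e.symm ai : G)

/-- The second involution of the four-group. -/
def ej : G := (e.symm aj : G)

theorem ei_sq : ei e * ei e = 1 := by
  have h := congrArg (fun x => (e.symm x : G)) ai_facts.1
  simpa [ei] using h

theorem ej_sq : ej e * ej e = 1 := by
  have h := congrArg (fun x => (e.symm x : G)) ai_facts.2.1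
  simpa [ej] using h

theorem ei_ej : Commute (ei e) (ej e) := by
  have h := congrArg (fun x => (e.symm x : G)) ai_facts.2.2.1
  show ei e * ej e = ej e * ei e
  simpa [ei, ej] using h

theorem ei_ne_one : ei e ≠ 1 := fun h =>
  ai_facts.2.2.2.1 (e.symm.injective (Subtype.ext (by rw [map_one]; exact h)))

theorem ej_ne_one : ej e ≠ 1 := fun h =>
  ai_facts.2.2.2.2.1 (e.symm.injective (Subtype.ext (by rw [map_one]; exact h)))

theorem ei_ne_ej : ei e ≠ ej e := fun h =>
  ai_facts.2.2.2.2.2 (e.symm.injective (Subtype.ext h))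

theorem ei_fix : ei e • a = a ∧ ei e • b = b := (Subgroup.mem_inf.1 (e.symm ai).2)

theorem ej_fix : ej e • a = a ∧ ej e • b = b := (Subgroup.mem_inf.1 (e.symm aj).2)

/-- The four-group. -/
def eV : Subgroup G := four (ei e) (ej e) (ei_sq e) (ej_sq e) (ei_ej e)

theorem mem_eV {x : G} : x ∈ eV e ↔ ∃ v ∈ aV, (e.symm v : G) = x := by
  have hm : (e.symm (ai * aj) : G) = ei e * ej e := by rw [map_mul, Subgroup.coe_mul]; rfl
  rw [eV, mem_four]
  simp only [aV, Finset.mem_insert, Finset.mem_singleton, exists_eq_or_imp, exists_eq_left, map_one,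
    Subgroup.coe_one, hm]
  exact ⟨fun h => h.imp Eq.symm (Or.imp Eq.symm (Or.imp Eq.symm Eq.symm)),
    fun h => h.imp Eq.symm (Or.imp Eq.symm (Or.imp Eq.symm Eq.symm))⟩

theorem ei_mem_eV : ei e ∈ eV e := mem_four.2 (Or.inr (Or.inl rfl))

theorem ej_mem_eV : ej e ∈ eV e := mem_four.2 (Or.inr (Or.inr (Or.inl rfl)))

theorem card_eV [Finite G] : Nat.card ↥(eV e) = 4 :=
  card_four _ _ _ (ei_ne_one e) (ej_ne_one e) (ei_ne_ej e)

/-- Involutions of the two-point stabiliser are conjugate there. -/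
theorem conj_H {x : G} (ha : x • a = a) (hb : x • b = b) (hx : x * x = 1) (hx1 : x ≠ 1) :
    ∃ h : G, h • a = a ∧ h • b = b ∧ h * ei e * h⁻¹ = x := by
  set y : ↥(stabilizer G a ⊓ stabilizer G b) := ⟨x, Subgroup.mem_inf.2 ⟨ha, hb⟩⟩ with hy
  obtain ⟨h, hh⟩ := conj_ai (e y) (by rw [← map_mul, ← map_one e]; exact congrArg e (Subtype.ext hx))
    (fun h => hx1 (congrArg Subtype.val ((map_eq_one_iff e e.injective).1 h)))
  refine ⟨(e.symm h : G), (Subgroup.mem_inf.1 (e.symm h).2).1, (Subgroup.mem_inf.1 (e.symm h).2).2, ?_⟩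
  have := congrArg (fun v => (e.symm v : G)) hh
  simpa [ei, hy] using this

/-- The centraliser of `ei` in the two-point stabiliser. -/
theorem cent_H {x : G} (ha : x • a = a) (hb : x • b = b) (hx : x * ei e = ei e * x) : x ∈ eV e := by
  set y : ↥(stabilizer G a ⊓ stabilizer G b) := ⟨x, Subgroup.mem_inf.2 ⟨ha, hb⟩⟩ with hy
  have hc : e y * ai = ai * e y := by
    have h2 : y * e.symm ai = e.symm ai * y := Subtype.ext hx
    simpa using congrArg e h2
  refine (mem_eV e).2 ⟨e y, ?_, by simp [hy]⟩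
  simpa [aV] using cent_ai _ hc

theorem card_norm [Finite G] :
    Nat.card ↥(Subgroup.normalizer (eV e : Set G) ⊓ stabilizer G a ⊓ stabilizer G b) = 12 := by
  rw [← card_norm_aV]
  refine Nat.card_congr
    { toFun := fun h => ⟨e ⟨h, Subgroup.mem_inf.2
        ⟨(Subgroup.mem_inf.1 (Subgroup.mem_inf.1 h.2).1).2, (Subgroup.mem_inf.1 h.2).2⟩⟩, fun v hv => ?_⟩
      invFun := fun h => ⟨(e.symm h.1 : G), ?_⟩
      left_inv := fun h => Subtype.ext (by simp)
      right_inv := fun h => Subtype.ext (by simp) }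
  · have hN := (Subgroup.mem_inf.1 (Subgroup.mem_inf.1 h.2).1).1
    have h1 : (h : G) * (e.symm v : G) * (h : G)⁻¹ ∈ eV e :=
      (Subgroup.mem_normalizer_iff.1 hN _).1 ((mem_eV e).2 ⟨v, hv, rfl⟩)
    obtain ⟨w, hw, he⟩ := (mem_eV e).1 h1
    convert hw using 1
    have h2 : e.symm w = ⟨h, Subgroup.mem_inf.2
        ⟨(Subgroup.mem_inf.1 (Subgroup.mem_inf.1 h.2).1).2, (Subgroup.mem_inf.1 h.2).2⟩⟩ * e.symm v *
          (⟨h, Subgroup.mem_inf.2
        ⟨(Subgroup.mem_inf.1 (Subgroup.mem_inf.1 h.2).1).2, (Subgroup.mem_inf.1 h.2).2⟩⟩)⁻¹ := Subtype.ext he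
    simpa using (congrArg e h2).symm
  · refine Subgroup.mem_inf.2 ⟨Subgroup.mem_inf.2 ⟨?_, (Subgroup.mem_inf.1 (e.symm h.1).2).1⟩,
      (Subgroup.mem_inf.1 (e.symm h.1).2).2⟩
    refine Subgroup.mem_normalizer_iff.2 fun x => ?_
    have key : ∀ x ∈ eV e, (e.symm h.1 : G) * x * (e.symm h.1 : G)⁻¹ ∈ eV e := fun x hx => by
      obtain ⟨v, hv, rfl⟩ := (mem_eV e).1 hx
      exact (mem_eV e).2 ⟨_, h.2 v hv, by simp⟩
    refine ⟨key x, fun hx => ?_⟩
    have hmap : (eV e).map (MulAut.conj (e.symm h.1 : G)).toMonoidHom = eV e :=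
      Subgroup.eq_of_le_of_card_ge (by rintro _ ⟨y, hy, rfl⟩; exact key y hy)
        (le_of_eq (Subgroup.card_map_of_injective (MulAut.conj (e.symm h.1 : G)).injective).symm)
    obtain ⟨y, hy, hye⟩ := hmap.symm ▸ hx
    exact (mul_left_cancel (mul_right_cancel hye) : y = x) ▸ hy

/-- The hypotheses of the theorem. -/
structure Hyp : Prop where
  faith : ∀ c : G, (∀ x : Ω, c • x = x) → c = 1
  two : IsMultiplyPretransitive G Ω 2
  hab : a ≠ b
  nr : ∀ N : Subgroup G, N.Normal → IsPretransitive ↥N Ω → (∀ x : Ω, stabilizer ↥N x = ⊥) → False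

/-- The class of `ei`. -/
def eI : Set G := {x : G | IsConj (ei e) x}

/-- The number of fixed points of `ei`. -/
noncomputable def ef : ℕ := (fixedBy Ω (ei e)).ncard

/-- The number of fixed points of the four-group. -/
noncomputable def eg : ℕ := (fixedBy Ω (ei e) ∩ fixedBy Ω (ej e)).ncard

/-- The number of class members moving `a` to `b`. -/
noncomputable def es : ℕ := {x ∈ eI e | x • a = b}.ncard

theorem conj_mem_eI : ∀ g : G, ∀ x ∈ eI e, g * x * g⁻¹ ∈ eI e :=
  fun g _ hx => IsConj.trans hx (isConj_iff.2 ⟨g, rfl⟩)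

theorem eI_sq {x : G} (hx : x ∈ eI e) : x * x = 1 := by
  obtain ⟨k, rfl⟩ := isConj_iff.1 hx
  calc k * ei e * k⁻¹ * (k * ei e * k⁻¹) = k * (ei e * ei e) * k⁻¹ := by group
    _ = 1 := by rw [ei_sq]; group

theorem eI_ne_one {x : G} (hx : x ∈ eI e) : x ≠ 1 := fun h => ei_ne_one e (isConj_one_left.1 (h ▸ hx))

theorem ncard_fix_of_eI {x : G} (hx : x ∈ eI e) : (fixedBy Ω x).ncard = ef e := by
  obtain ⟨k, rfl⟩ := isConj_iff.1 hx
  rw [fixedBy_conj, Set.ncard_image_of_injective _ (MulAction.injective k)]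
  rfl

theorem ej_mem_eI : ej e ∈ eI e := by
  obtain ⟨h, -, -, hh⟩ := conj_H e (ej_fix e).1 (ej_fix e).2 (ej_sq e) (ej_ne_one e)
  exact isConj_iff.2 ⟨h, hh⟩

theorem ek_ne_one : ei e * ej e ≠ 1 := fun h => ei_ne_ej e
  (by rw [← inv_eq_of_mul_eq_one_right (ei_sq e), inv_eq_of_mul_eq_one_right h])

theorem ek_sq : ei e * ej e * (ei e * ej e) = 1 := by
  calc ei e * ej e * (ei e * ej e) = ei e * (ej e * ei e) * ej e := by group
    _ = ei e * (ei e * ej e) * ej e := by rw [(ei_ej e).eq]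
    _ = 1 := by rw [mul_assoc, mul_assoc, ej_sq, mul_one, ei_sq]

theorem ek_mem_eI : ei e * ej e ∈ eI e := by
  obtain ⟨h, -, -, hh⟩ := conj_H e (x := ei e * ej e)
    (by rw [mul_smul, (ej_fix e).1, (ei_fix e).1]) (by rw [mul_smul, (ej_fix e).2, (ei_fix e).2])
    (ek_sq e) (ek_ne_one e)
  exact isConj_iff.2 ⟨h, hh⟩

theorem fix_of_mem_eV {v : G} (hv : v ∈ eV e) {x : Ω}
    (hx : x ∈ fixedBy Ω (ei e) ∩ fixedBy Ω (ej e)) : v • x = x := by
  have h : eV e ≤ stabilizer G x := four_le _ _ _ hx.1 hx.2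
  exact h hv

variable {e} (S : Hyp (G := G) (a := a) (b := b))
include S

/-- An involution fixing two points is conjugate to `ei`. -/
theorem Hyp.mem_eI (e : ↥(stabilizer G a ⊓ stabilizer G b) ≃* AFive) {x : G} {c d : Ω} (hcd : c ≠ d)
    (hx : x * x = 1) (hx1 : x ≠ 1) (hc : x • c = c) (hd : x • d = d) : x ∈ eI e := by
  obtain ⟨l, rfl, rfl⟩ := is_two_pretransitive_iff.1 S.two S.hab hcd
  obtain ⟨h, -, -, hh⟩ := conj_H e (x := l⁻¹ * x * l) (by rw [mul_smul, mul_smul, hc, inv_smul_smul])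
    (by rw [mul_smul, mul_smul, hd, inv_smul_smul])
    (by calc l⁻¹ * x * l * (l⁻¹ * x * l) = l⁻¹ * (x * x) * l := by group
          _ = 1 := by rw [hx]; group)
    (fun h => hx1 (by
      calc x = l * (l⁻¹ * x * l) * l⁻¹ := by group
        _ = 1 := by rw [h]; group))
  refine isConj_iff.2 ⟨l * h, ?_⟩
  calc l * h * ei e * (l * h)⁻¹ = l * (h * ei e * h⁻¹) * l⁻¹ := by group
    _ = x := by rw [hh]; group

theorem Hyp.pair_top : PairTrans (⊤ : Subgroup G) (Set.univ : Set Ω) where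
  maps _ _ _ _ := Set.mem_univ _
  pairs _ _ _ _ hcd hcd' := by
    obtain ⟨k, hk⟩ := is_two_pretransitive_iff.1 S.two hcd hcd'
    exact ⟨k, Subgroup.mem_top k, hk⟩

theorem Hyp.two_le_f (e : ↥(stabilizer G a ⊓ stabilizer G b) ≃* AFive) [Finite Ω] : 2 ≤ ef e := by
  rw [← Set.ncard_pair S.hab]
  refine Set.ncard_le_ncard ?_ (Set.toFinite _)
  rintro x (rfl | rfl)
  exacts [(ei_fix e).1, (ei_fix e).2]

theorem Hyp.f_lt (e : ↥(stabilizer G a ⊓ stabilizer G b) ≃* AFive) [Finite Ω] : ef e < Nat.card Ω := by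
  refine lt_of_le_of_ne (Set.ncard_le_card _) fun he => ei_ne_one e (S.faith _ fun x => ?_)
  have : fixedBy Ω (ei e) = Set.univ := Set.eq_of_subset_of_ncard_le (Set.subset_univ _)
    (by rw [Set.ncard_univ]; exact he.ge) (Set.toFinite _)
  exact Set.eq_univ_iff_forall.1 this x

theorem Hyp.card_G (e : ↥(stabilizer G a ⊓ stabilizer G b) ≃* AFive) [Finite G] [Finite Ω] :
    Nat.card G = Nat.card Ω * ((Nat.card Ω - 1) * 60) := by
  have h := S.pair_top.card_all (Set.mem_univ a) (Set.mem_univ b) S.hab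
  rw [Set.ncard_univ, Subgroup.card_top, top_inf_eq, Nat.card_congr e.toEquiv] at h
  rw [h, nat_card_alternatingGroup, Nat.card_eq_fintype_card (α := Fin 5), Fintype.card_fin]
  rfl

theorem Hyp.card_stab (e : ↥(stabilizer G a ⊓ stabilizer G b) ≃* AFive) [Finite G] [Finite Ω] :
    Nat.card ↥(stabilizer G a) = (Nat.card Ω - 1) * 60 := by
  have h := S.pair_top.card_point (Set.mem_univ a) (Set.mem_univ b) S.hab
  rw [Set.ncard_univ, top_inf_eq, Nat.card_congr e.toEquiv] at h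
  rw [h, nat_card_alternatingGroup, Nat.card_eq_fintype_card (α := Fin 5), Fintype.card_fin]
  rfl

theorem Hyp.count (e : ↥(stabilizer G a ⊓ stabilizer G b) ≃* AFive) [Finite G] [Finite Ω] :
    (eI e).ncard * (ef e * (ef e - 1)) = 15 * (Nat.card Ω * (Nat.card Ω - 1)) ∧
      15 * (Nat.card Ω - ef e) = es e * (ef e * (ef e - 1)) := by
  have h15 : {x ∈ eI e | x • a = a ∧ x • b = b}.ncard = 15 := by
    rw [← card_invol_aFive, ← Set.ncard_image_of_injective {x : AFive | x * x = 1 ∧ x ≠ 1}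
      (f := fun x => (e.symm x : G)) (Subtype.val_injective.comp e.symm.injective)]
    congr 1
    ext x
    constructor
    · rintro ⟨hx, hxa, hxb⟩
      refine ⟨e ⟨x, Subgroup.mem_inf.2 ⟨hxa, hxb⟩⟩, ⟨?_, fun h => eI_ne_one e hx
        (congrArg Subtype.val ((map_eq_one_iff e e.injective).1 h))⟩, by simp⟩
      rw [← map_mul, ← map_one e]
      exact congrArg e (Subtype.ext (eI_sq e hx))
    · rintro ⟨y, ⟨hy, hy1⟩, rfl⟩
      have hab' := Subgroup.mem_inf.1 (e.symm y).2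
      refine ⟨?_, hab'.1, hab'.2⟩
      obtain ⟨h, -, -, hh⟩ := conj_H e hab'.1 hab'.2
        (show ((e.symm y * e.symm y : ↥(stabilizer G a ⊓ stabilizer G b)) : G) = 1 by
          rw [← map_mul, hy, map_one]; rfl)
        (fun h => hy1 (e.symm.injective (Subtype.ext (by rw [map_one]; exact h))))
      exact isConj_iff.2 ⟨h, hh⟩
  obtain ⟨h1, -⟩ := TwoTransAFive.count S.two (conj_mem_eI e) (fun x hx => ncard_fix_of_eI e hx) S.hab
  have h3 := count_rel S.two (conj_mem_eI e) (fun x hx => ncard_fix_of_eI e hx) S.hab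
  rw [h15] at h1 h3
  exact ⟨h1, h3⟩

/-- The centraliser of `ei` on its fixed points. -/
theorem Hyp.pair_C (e : ↥(stabilizer G a ⊓ stabilizer G b) ≃* AFive) :
    PairTrans (Subgroup.centralizer ({ei e} : Set G)) (fixedBy Ω (ei e)) := by
  have flag : ∀ {c d : Ω}, c ∈ fixedBy Ω (ei e) → d ∈ fixedBy Ω (ei e) → c ≠ d →
      ∃ k ∈ Subgroup.centralizer ({ei e} : Set G), k • a = c ∧ k • b = d := by
    intro c d hc hd hcd
    obtain ⟨l, rfl, rfl⟩ := is_two_pretransitive_iff.1 S.two S.hab hcd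
    obtain ⟨h, ha, hb, hh⟩ := conj_H e (x := l⁻¹ * ei e * l)
      (by rw [mul_smul, mul_smul, (hc : ei e • l • a = l • a), inv_smul_smul])
      (by rw [mul_smul, mul_smul, (hd : ei e • l • b = l • b), inv_smul_smul])
      (by calc l⁻¹ * ei e * l * (l⁻¹ * ei e * l) = l⁻¹ * (ei e * ei e) * l := by group
            _ = 1 := by rw [ei_sq]; group)
      (fun h => ei_ne_one e (by
        calc ei e = l * (l⁻¹ * ei e * l) * l⁻¹ := by group
          _ = 1 := by rw [h]; group))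
    refine ⟨l * h, Subgroup.mem_centralizer_singleton_iff.2 (mul_inv_eq_iff_eq_mul.1 ?_),
      by rw [mul_smul, ha], by rw [mul_smul, hb]⟩
    calc l * h * ei e * (l * h)⁻¹ = l * (h * ei e * h⁻¹) * l⁻¹ := by group
      _ = ei e := by rw [hh]; group
  refine ⟨fun k hk x hx => smul_mem_fixedBy_of_commute (Subgroup.mem_centralizer_singleton_iff.1 hk) hx,
    fun hc hd hc' hd' hcd hcd' => ?_⟩
  obtain ⟨k, hk, h1, h2⟩ := flag hc hd hcd
  obtain ⟨l, hl, h3, h4⟩ := flag hc' hd' hcd'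
  exact ⟨l * k⁻¹, mul_mem hl (inv_mem hk), by rw [← h1, mul_smul, inv_smul_smul, h3],
    by rw [← h2, mul_smul, inv_smul_smul, h4]⟩

theorem Hyp.C_pair_stab (e : ↥(stabilizer G a ⊓ stabilizer G b) ≃* AFive) :
    Subgroup.centralizer ({ei e} : Set G) ⊓ stabilizer G a ⊓ stabilizer G b = eV e := by
  refine le_antisymm (fun x hx => ?_) (four_le _ _ _ ?_ ?_)
  · obtain ⟨hx1, hxb⟩ := Subgroup.mem_inf.1 hx
    obtain ⟨hxC, hxa⟩ := Subgroup.mem_inf.1 hx1
    exact cent_H e hxa hxb (Subgroup.mem_centralizer_singleton_iff.1 hxC)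
  · exact ⟨⟨Subgroup.mem_centralizer_singleton_iff.2 rfl, (ei_fix e).1⟩, (ei_fix e).2⟩
  · exact ⟨⟨Subgroup.mem_centralizer_singleton_iff.2 (ei_ej e).eq.symm, (ej_fix e).1⟩, (ej_fix e).2⟩

theorem Hyp.card_C (e : ↥(stabilizer G a ⊓ stabilizer G b) ≃* AFive) [Finite G] [Finite Ω] :
    Nat.card ↥(Subgroup.centralizer ({ei e} : Set G)) = ef e * ((ef e - 1) * 4) := by
  rw [(S.pair_C e).card_all (ei_fix e).1 (ei_fix e).2 S.hab, S.C_pair_stab e, card_eV]
  rfl

/-- The normaliser of the four-group in the centraliser of `ei`, on the fixed points of the four-group. -/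
theorem Hyp.pair_R (e : ↥(stabilizer G a ⊓ stabilizer G b) ≃* AFive) [Finite G] :
    PairTrans (Subgroup.centralizer ({ei e} : Set G) ⊓ Subgroup.normalizer (eV e : Set G))
      (fixedBy Ω (ei e) ∩ fixedBy Ω (ej e)) := by
  have hnorm : ∀ k : G, k * ei e * k⁻¹ ∈ eV e → k * ej e * k⁻¹ ∈ eV e →
      k ∈ Subgroup.normalizer (eV e : Set G) := by
    intro k h1 h2
    have hmap : (eV e).map (MulAut.conj k).toMonoidHom = eV e :=
      Subgroup.eq_of_le_of_card_ge
        (Subgroup.map_le_iff_le_comap.2 (four_le _ _ _ h1 h2))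
        (le_of_eq (Subgroup.card_map_of_injective (MulAut.conj k).injective).symm)
    refine Subgroup.mem_normalizer_iff.2 fun x => ⟨fun hx => hmap ▸ ⟨x, hx, rfl⟩, fun hx => ?_⟩
    obtain ⟨y, hy, hye⟩ := hmap.symm ▸ hx
    exact (mul_left_cancel (mul_right_cancel hye) : y = x) ▸ hy
  have flag : ∀ {c d : Ω}, c ∈ fixedBy Ω (ei e) ∩ fixedBy Ω (ej e) →
      d ∈ fixedBy Ω (ei e) ∩ fixedBy Ω (ej e) → c ≠ d →
      ∃ k ∈ Subgroup.centralizer ({ei e} : Set G) ⊓ Subgroup.normalizer (eV e : Set G),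
        k • a = c ∧ k • b = d := by
    intro c d hc hd hcd
    obtain ⟨k, hk, rfl, rfl⟩ := (S.pair_C e).pairs (ei_fix e).1 (ei_fix e).2 hc.1 hd.1 S.hab hcd
    have hki := Subgroup.mem_centralizer_singleton_iff.1 hk
    have hr : k⁻¹ * ej e * k ∈ eV e := by
      refine cent_H e (by rw [mul_smul, mul_smul, (hc.2 : ej e • k • a = k • a), inv_smul_smul])
        (by rw [mul_smul, mul_smul, (hd.2 : ej e • k • b = k • b), inv_smul_smul]) ?_
      calc k⁻¹ * ej e * k * ei e = k⁻¹ * ej e * (k * ei e) := by group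
        _ = k⁻¹ * (ej e * ei e) * k := by rw [hki]; group
        _ = k⁻¹ * ei e * (k * (k⁻¹ * ej e * k)) := by rw [← (ei_ej e).eq]; group
        _ = k⁻¹ * (ei e * k) * (k⁻¹ * ej e * k) := by group
        _ = ei e * (k⁻¹ * ej e * k) := by rw [← hki]; group
    refine ⟨k, ⟨hk, hnorm k (by rw [hki, mul_inv_cancel_right]; exact ei_mem_eV e) ?_⟩, rfl, rfl⟩
    rcases mem_four.1 hr with h | h | h | h
    · exact absurd (by
        calc ej e = k * (k⁻¹ * ej e * k) * k⁻¹ := by group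
          _ = 1 := by rw [h]; group) (ej_ne_one e)
    · exact absurd (by
        calc ei e = k * ei e * k⁻¹ := by rw [hki, mul_inv_cancel_right]
          _ = ej e := by rw [← h]; group) (ei_ne_ej e)
    · have : k * ej e * k⁻¹ = ej e := by
        conv_lhs => rw [← h]
        group
      rw [this]; exact ej_mem_eV e
    · have : ei e * (k * ej e * k⁻¹) = ej e := by
        calc ei e * (k * ej e * k⁻¹) = k * ei e * k⁻¹ * (k * ej e * k⁻¹) := by
              rw [hki, mul_inv_cancel_right]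
          _ = k * (ei e * ej e) * k⁻¹ := by group
          _ = ej e := by rw [← h]; group
      rw [show k * ej e * k⁻¹ = ei e * ej e by
        conv_rhs => rw [← this]
        rw [← mul_assoc, ei_sq, one_mul]]
      exact mul_mem (ei_mem_eV e) (ej_mem_eV e)
  refine ⟨fun k hk x hx => ?_, fun hc hd hc' hd' hcd hcd' => ?_⟩
  · obtain ⟨-, hkN⟩ := Subgroup.mem_inf.1 hk
    have key : ∀ v ∈ eV e, v • k • x = k • x := fun v hv => by
      have h := fix_of_mem_eV e ((Subgroup.mem_normalizer_iff''.1 hkN v).1 hv) hx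
      rw [mul_smul, mul_smul, inv_smul_eq_iff] at h
      exact h
    exact ⟨key _ (ei_mem_eV e), key _ (ej_mem_eV e)⟩
  · obtain ⟨k, hk, h1, h2⟩ := flag hc hd hcd
    obtain ⟨l, hl, h3, h4⟩ := flag hc' hd' hcd'
    exact ⟨l * k⁻¹, mul_mem hl (inv_mem hk), by rw [← h1, mul_smul, inv_smul_smul, h3],
      by rw [← h2, mul_smul, inv_smul_smul, h4]⟩

theorem Hyp.pair_N (e : ↥(stabilizer G a ⊓ stabilizer G b) ≃* AFive) [Finite G] :
    PairTrans (Subgroup.normalizer (eV e : Set G)) (fixedBy Ω (ei e) ∩ fixedBy Ω (ej e)) := by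
  refine ⟨fun k hk x hx => ?_, fun hc hd hc' hd' hcd hcd' => ?_⟩
  · have key : ∀ v ∈ eV e, v • k • x = k • x := fun v hv => by
      have h := fix_of_mem_eV e ((Subgroup.mem_normalizer_iff''.1 hk v).1 hv) hx
      rw [mul_smul, mul_smul, inv_smul_eq_iff] at h
      exact h
    exact ⟨key _ (ei_mem_eV e), key _ (ej_mem_eV e)⟩
  · obtain ⟨k, hk, h⟩ := (S.pair_R e).pairs hc hd hc' hd' hcd hcd'
    exact ⟨k, (Subgroup.mem_inf.1 hk).2, h⟩

/-- The point stabiliser of the normaliser of the four-group bounds the degree. -/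
theorem Hyp.dvd_point (e : ↥(stabilizer G a ⊓ stabilizer G b) ≃* AFive) [Finite G] [Finite Ω] :
    (eg e - 1) * 12 ∣ (Nat.card Ω - 1) * 60 := by
  have h := (S.pair_N e).card_point (a := a) (b := b) ⟨(ei_fix e).1, (ej_fix e).1⟩
    ⟨(ei_fix e).2, (ej_fix e).2⟩ S.hab
  rw [card_norm] at h
  rw [eg, ← h, ← S.card_stab e]
  exact Subgroup.card_dvd_of_le inf_le_right

theorem Hyp.dvd_all (e : ↥(stabilizer G a ⊓ stabilizer G b) ≃* AFive) [Finite G] [Finite Ω] :
    eg e * ((eg e - 1) * 12) ∣ Nat.card Ω * ((Nat.card Ω - 1) * 60) := by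
  have h := (S.pair_N e).card_all (a := a) (b := b) ⟨(ei_fix e).1, (ej_fix e).1⟩
    ⟨(ei_fix e).2, (ej_fix e).2⟩ S.hab
  rw [card_norm] at h
  rw [eg, ← h, ← S.card_G e]
  exact Subgroup.card_subgroup_dvd_card _

/-- No nontrivial normal subgroup of prime power order. -/
theorem Hyp.false_of_normal_pgroup [Finite G] {p : ℕ} [Fact p.Prime] {N : Subgroup G} (hN : N.Normal)
    (hne : N ≠ ⊥) (hp : IsPGroup p ↥N) : False := by
  haveI : Nontrivial ↥N := (Subgroup.nontrivial_iff_ne_bot N).2 hne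
  haveI := hN
  have hc := hp.center_nontrivial
  set Z := (Subgroup.center ↥N).map N.subtype with hZ
  have hZn : Z.Normal := CfsgLib.TwoTransAFive.center_map_normal N
  have hZne : Z ≠ ⊥ := by
    rw [hZ, Ne, Subgroup.map_eq_bot_iff_of_injective _ N.subtype_injective]
    exact (Subgroup.nontrivial_iff_ne_bot _).1 hc
  have ht := pretransitive_of_normal S.faith S.two hZn hZne
  refine S.nr Z hZn ht fun x => (Subgroup.eq_bot_iff_forall _).2 fun ⟨m, hm⟩ hmx => Subtype.ext ?_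
  refine S.faith m fun y => ?_
  obtain ⟨⟨k, hk⟩, rfl⟩ := ht.exists_smul_eq x y
  have hmk : m * k = k * m := by
    obtain ⟨m', hm', rfl⟩ := hm
    obtain ⟨k', -, rfl⟩ := hk
    exact congrArg Subtype.val (Subgroup.mem_center_iff.1 hm' k').symm
  show m • k • x = k • x
  rw [← mul_smul, hmk, mul_smul, show m • x = x from hmx]

end

end CfsgLib.TwoTransAFive
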