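import Cfsg.Agent.TwoTransAFive.SmallStabOdd
import Cfsg.Agent.TwoTransAFive.Setting
import Cfsg.Agent.Small.BaerSuzuki
import Cfsg.Agent.Coprime.Action

/-!
# Involutions with at most one fixed point, one for each pair: a normal subgroup of prime power order
-/

set_option autoImplicit false

namespace CfsgLib.TwoTransAFive

open MulAction

variable {G : Type*} [Group G] [Finite G] {Ω : Type*} [MulAction G Ω] [Finite Ω]

/-- **Unique swappers give a normal subgroup of prime power order.** -/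
theorem exists_normal_pgroup (hf : ∀ c : G, (∀ x : Ω, c • x = x) → c = 1) (h2 : IsMultiplyPretransitive G Ω 2) {W : Set G} {w : G} {a b : Ω}
    (hab : a ≠ b) (hWconj : ∀ g : G, ∀ x ∈ W, g * x * g⁻¹ ∈ W) (hWsq : ∀ x ∈ W, x * x = 1)
    (hW1 : ∀ x ∈ W, x ≠ 1) (hle1 : ∀ x ∈ W, ∀ c d : Ω, x • c = c → x • d = d → c = d)
    (hmove : {x ∈ W | x • a = b} = {w}) {p m : ℕ} (hp : p.Prime) (hm : 1 ≤ m)
    (hn : Nat.card Ω = p ^ m) : ∃ N : Subgroup G, N.Normal ∧ N ≠ ⊥ ∧ IsPGroup p ↥N := by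
  classical
  haveI := Fact.mk hp
  haveI := Fact.mk Nat.prime_two
  haveI := h2
  haveI : IsPretransitive G Ω := isPretransitive_of_is_two_pretransitive
  obtain ⟨hwW, hwab⟩ : w ∈ W ∧ w • a = b := hmove.symm.subset rfl
  set f := Nat.card Ω with hfdef
  have hf2 : 2 ≤ f := by
    haveI : Nontrivial Ω := ⟨⟨a, b, hab⟩⟩
    exact Finite.one_lt_card
  have hone : ∀ c d : Ω, c ≠ d → {v ∈ W | v • c = d}.ncard = 1 := fun c d hcd => by
    rw [← ncard_pair_eq h2 hWconj (fun v c d => v • c = d)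
      (fun g v c d => by rw [mul_smul, mul_smul, inv_smul_smul, smul_left_cancel_iff]) hab hcd, hmove,
      Set.ncard_singleton]
  have hmod : ∀ x ∈ W, f % 2 = (fixedBy Ω x).ncard % 2 := fun x hx => modEq_fixedBy (hWsq x hx)
  have hlecard : ∀ x ∈ W, (fixedBy Ω x).ncard ≤ 1 := fun x hx =>
    (Set.ncard_le_one (Set.toFinite _)).2 fun c hc d hd => hle1 x hx c d hc hd
  have huniq : ∀ x ∈ W, ∀ y ∈ W, ∀ c : Ω, x • c = c → y • c = c → x = y := by
    intro x hx y hy c hxc hyc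
    rcases Nat.even_or_odd f with hev | hodd
    · exfalso
      have h1 := hmod x hx
      have h2 := hlecard x hx
      have h3 : 0 < (fixedBy Ω x).ncard := Set.ncard_pos (Set.toFinite _) |>.2 ⟨c, hxc⟩
      rw [Nat.even_iff.1 hev] at h1
      omega
    have hfix : ∀ v ∈ W, (fixedBy Ω v).ncard = 1 := fun v hv => by
      have h1 := hmod v hv
      have h2 := hlecard v hv
      rw [Nat.odd_iff.1 hodd] at h1
      omega
    have hcardW : W.ncard = f := by
      obtain ⟨-, h1⟩ := count h2 hWconj hfix hab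
      rw [hmove, Set.ncard_singleton, one_mul] at h1
      exact Nat.eq_of_mul_eq_mul_right (by omega : 0 < f - 1) h1
    have hpt : ∀ v ∈ W, ∃ c, v • c = c := fun v hv => by
      obtain ⟨d, hd⟩ := Set.ncard_eq_one.1 (hfix v hv)
      exact ⟨d, (hd.symm.subset rfl : d ∈ fixedBy Ω v)⟩
    haveI : Nonempty Ω := ⟨a⟩
    choose! pt hpt using hpt
    haveI := Fintype.ofFinite ↥W
    haveI := Fintype.ofFinite Ω
    have hinj : Function.Injective fun v : ↥W => pt v :=
      ((Fintype.bijective_iff_surjective_and_card (α := ↥W) _).2 ⟨fun d => by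
        obtain ⟨g, hg⟩ := exists_smul_eq G (pt w) d
        refine ⟨⟨g * w * g⁻¹, hWconj g w hwW⟩,
          hle1 _ (hWconj g w hwW) _ _ (hpt _ (hWconj g w hwW)) ?_⟩
        rw [← hg, mul_smul, mul_smul, inv_smul_smul, hpt w hwW], by
          rw [← Nat.card_eq_fintype_card, ← Nat.card_eq_fintype_card, Nat.card_coe_set_eq, hcardW]⟩).1
    exact congrArg Subtype.val (@hinj ⟨x, hx⟩ ⟨y, hy⟩
      ((hle1 x hx _ _ (hpt x hx) hxc).trans (hle1 y hy _ _ (hpt y hy) hyc).symm))
  have hagree : ∀ x ∈ W, ∀ y ∈ W, ∀ c : Ω, x • c = y • c → x = y := by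
    intro x hx y hy c he
    by_cases hxc : x • c = c
    · exact huniq x hx y hy c hxc (he ▸ hxc)
    · exact (Set.ncard_le_one (Set.toFinite _)).1 (hone c (x • c) (Ne.symm hxc)).le x ⟨hx, rfl⟩ y
        ⟨hy, he.symm⟩
  have hfree : ∀ x ∈ W, ∀ y ∈ W, x ≠ y → ∀ c : Ω, (x * y) • c ≠ c := fun x hx y hy hne c hc => hne
    (hagree x hx y hy c (by
      rw [mul_smul] at hc
      conv_lhs => rw [← hc, ← mul_smul, hWsq x hx, one_smul]))
  have hWof : ∀ x v : G, x ∈ W → IsConj x v → v ∈ W := fun x v hx h => by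
    obtain ⟨g, rfl⟩ := isConj_iff.1 h
    exact hWconj g x hx
  have hord : ∀ x ∈ W, ∀ y ∈ W, ∃ j, orderOf (x * y) = p ^ j := by
    intro x hx y hy
    refine ⟨_, Nat.eq_prime_pow_of_unique_prime_dvd (orderOf_pos _).ne' fun {r} hr hrd => ?_⟩
    obtain ⟨v, hv, he⟩ := mul_pow_eq_mul_conj (hWsq x hx) (hWsq y hy) (orderOf (x * y) / r)
    have ho : orderOf ((x * y) ^ (orderOf (x * y) / r)) = r :=
      orderOf_pow_orderOf_div (orderOf_pos _).ne' hrd
    have hvW : v ∈ W := hv.elim (hWof x v hx) (hWof y v hy)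
    have hne : x ≠ v := by
      rintro rfl
      rw [he, hWsq x hx, orderOf_one] at ho
      exact hr.one_lt.ne ho
    have hd := dvd_of_fpf hr ho fun c => by rw [he]; exact hfree x hx v hvW hne c
    rw [← hfdef, hn] at hd
    exact (Nat.prime_dvd_prime_iff_eq hr hp).1 (hr.dvd_of_dvd_pow hd)
  have hwsq := hWsq w hwW
  have hwinv : w⁻¹ = w := inv_eq_of_mul_eq_one_right hwsq
  have hwo : orderOf w = 2 := orderOf_eq_prime (by rw [pow_two, hwsq]) (hW1 w hwW)
  by_cases hp2 : p = 2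
  · subst hp2
    obtain ⟨N, hN, hNp, hwN⟩ := CfsgLib.Small.baerSuzuki_elem (p := 2) w fun g => by
      set v := g * w * g⁻¹ with hv
      have hvW : v ∈ W := hWconj g w hwW
      obtain ⟨j, hj⟩ := hord w hwW v hvW
      set R := Subgroup.zpowers (w * v) with hR
      have hRp : IsPGroup 2 ↥R := IsPGroup.of_card (n := j) (by rw [Nat.card_zpowers, hj])
      have hwp : IsPGroup 2 ↥(Subgroup.zpowers w) :=
        IsPGroup.of_card (n := 1) (by rw [Nat.card_zpowers, hwo, pow_one])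
      have hwR : w * (w * v) * w⁻¹ = (w * v)⁻¹ := by
        rw [mul_inv_rev, inv_eq_of_mul_eq_one_right (hWsq v hvW), hwinv, ← mul_assoc w w v, hwsq, one_mul]
      have hconjR : ∀ x ∈ R, w * x * w⁻¹ ∈ R := fun x hx => by
        obtain ⟨i, rfl⟩ := Subgroup.mem_zpowers_iff.1 hx
        rw [← conj_zpow, hwR, inv_zpow]
        exact inv_mem (zpow_mem (Subgroup.mem_zpowers _) i)
      have hnorm : Subgroup.zpowers w ≤ Subgroup.normalizer (R : Set G) :=
        Subgroup.zpowers_le.2 (Subgroup.mem_normalizer_iff.2 fun x => ⟨hconjR x, fun hx => by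
          have := hconjR _ hx
          rwa [hwinv, show w * (w * x * w) * w = (w * w) * x * (w * w) by group, hwsq, one_mul, mul_one]
            at this⟩)
      refine (hwp.to_sup_of_normal_right' hRp hnorm).to_le ((Subgroup.closure_le _).2 ?_)
      rintro y (rfl | rfl)
      · exact Subgroup.mem_sup_left (Subgroup.mem_zpowers _)
      · have : w⁻¹ * (w * v) ∈ Subgroup.zpowers w ⊔ R :=
          mul_mem (inv_mem (Subgroup.mem_sup_left (Subgroup.mem_zpowers _)))
            (Subgroup.mem_sup_right (Subgroup.mem_zpowers _))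
        rwa [inv_mul_cancel_left] at this
    exact ⟨N, hN, fun h => hW1 w hwW (Subgroup.mem_bot.1 (h ▸ hwN)), hNp⟩
  -- odd degree
  have hfodd : Odd f := hn ▸ (hp.odd_of_ne_two hp2).pow
  obtain ⟨P₂, hP₂⟩ := IsPGroup.exists_le_sylow (IsPGroup.of_card (p := 2) (n := 1)
    (by rw [Nat.card_zpowers, hwo, pow_one] : Nat.card (Subgroup.zpowers w) = 2 ^ 1))
  have hiso : ∀ g : G, g * w * g⁻¹ ∈ P₂ → g * w * g⁻¹ = w := by
    intro g hg
    have hv : g * w * g⁻¹ ∈ W := hWconj g w hwW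
    obtain ⟨j, hj⟩ := hord _ hv w hwW
    obtain ⟨i, hi⟩ := IsPGroup.iff_orderOf.1 P₂.2
      ⟨_, mul_mem hg (hP₂ (Subgroup.mem_zpowers w))⟩
    rw [Subgroup.orderOf_mk, hj] at hi
    have h0 : j = 0 := by
      by_contra hj0
      exact hp2 ((Nat.prime_dvd_prime_iff_eq hp Nat.prime_two).1
        (hp.dvd_of_dvd_pow (hi ▸ dvd_pow_self p hj0)))
    rw [h0, pow_zero, orderOf_eq_one_iff] at hj
    rw [← inv_eq_of_mul_eq_one_left hj, hwinv]
  obtain ⟨N, hN, hNodd, hNmem⟩ := CfsgLib.ZStar.exists_oddNormal_of_sylow P₂ hwo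
    (hP₂ (Subgroup.mem_zpowers w)) hiso
  have hpt : ∀ v ∈ W, ∃ c, v • c = c := fun v hv => by
    have h1 := hmod v hv
    rw [Nat.odd_iff.1 hfodd] at h1
    obtain ⟨d, hd⟩ := Set.nonempty_of_ncard_ne_zero (s := fixedBy Ω v) (by omega)
    exact ⟨d, hd⟩
  obtain ⟨c₀, hc₀⟩ := hpt w hwW
  -- `N` is transitive
  have hNne : ∃ n ∈ N, n ≠ 1 := by
    obtain ⟨g, hg⟩ := exists_smul_eq G c₀ a
    refine ⟨_, hNmem (g : G), fun h => ?_⟩
    rw [mul_inv_eq_one, mul_inv_eq_iff_eq_mul] at h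
    have h1 : w • g • c₀ = g • c₀ := by rw [← mul_smul, h, mul_smul, hc₀]
    rw [hg, hwab] at h1
    exact hab h1.symm
  obtain ⟨P₀, hP₀⟩ := Coprime.exists_invariant_sylow (A := Subgroup.zpowers w) (G := N)
    (Subgroup.le_normalizer_of_normal) (by
      rw [Nat.card_zpowers, hwo]; exact (Nat.coprime_two_left).2 hNodd)
    (Or.inl (Group.isSolvable_of_comm fun x y => mul_comm' x y)) p
  set P := (P₀ : Subgroup ↥N).map N.subtype with hPdef
  have hPw : ∀ x ∈ P, w * x * w⁻¹ ∈ P := fun x hx =>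
    (Subgroup.mem_normalizer_iff.1 (hP₀ (Subgroup.mem_zpowers w)) x).1 hx
  haveI : IsPretransitive ↥N Ω := pretransitive_of_normal hf h2 hN fun h => by
    obtain ⟨n, hn', hn1⟩ := hNne
    exact hn1 (Subgroup.mem_bot.1 (h ▸ hn'))
  have hPtrans : ∀ d : Ω, ∃ y ∈ P, y • c₀ = d := by
    have hsub : ((fun k => k • c₀) '' (P : Set G)) = Set.univ := by
      refine Set.eq_of_subset_of_ncard_le (Set.subset_univ _) ?_ (Set.toFinite _)
      rw [Set.ncard_univ, ← hfdef, hn]
      have hcard := card_eq_ncard_orbit_mul P c₀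
      obtain ⟨s, hs⟩ := IsPGroup.iff_card.1 ((P₀.2.map N.subtype).to_le
        (inf_le_left : P ⊓ stabilizer G c₀ ≤ P))
      have hle : (P ⊓ stabilizer G c₀).subgroupOf N ≤ stabilizer ↥N c₀ := fun x hx => hx.2
      have h3 : p ^ (m + s) ∣ Nat.card ↥N := by
        rw [← (stabilizer ↥N c₀).card_mul_index, index_stabilizer_of_transitive, ← hfdef, hn, pow_add,
          mul_comm (p ^ m), ← hs,
          ← Nat.card_congr (Subgroup.subgroupOfEquivOfLe
            ((inf_le_left.trans (Subgroup.map_subtype_le _)) : P ⊓ stabilizer G c₀ ≤ N)).toEquiv]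
        exact Nat.mul_dvd_mul_right (Subgroup.card_dvd_of_le hle) _
      have h4 := Sylow.pow_dvd_card_of_pow_dvd_card P₀ h3
      rw [← Subgroup.card_map_of_injective N.subtype_injective, ← hPdef, hcard, hs, pow_add] at h4
      exact Nat.le_of_dvd (Set.ncard_pos (Set.toFinite _) |>.2 ⟨_, 1, one_mem _, rfl⟩)
        (Nat.dvd_of_mul_dvd_mul_right (pow_pos hp.pos _) h4)
    intro d
    obtain ⟨y, hy, hyd⟩ := hsub.symm.subset (Set.mem_univ d)
    exact ⟨y, hy, hyd⟩
  have hwP : ∀ v ∈ W, w * v ∈ P := fun v hv => by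
    obtain ⟨d, hd⟩ := hpt v hv
    obtain ⟨y, hy, rfl⟩ := hPtrans d
    have hv' : v = y * w * y⁻¹ := huniq v hv _ (hWconj y w hwW) _ hd (by
      rw [mul_smul, mul_smul, inv_smul_smul, hc₀])
    rw [hv', show w * (y * w * y⁻¹) = (w * y * w⁻¹) * (w * w) * y⁻¹ by group, hwsq, mul_one]
    exact mul_mem (hPw y hy) (inv_mem hy)
  set M := Subgroup.closure {r : G | ∃ x ∈ W, ∃ y ∈ W, r = x * y} with hM
  have hMP : M ≤ P := (Subgroup.closure_le _).2 (by
    rintro _ ⟨x, hx, y, hy, rfl⟩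
    show x * y ∈ P
    rw [show x * y = (x⁻¹)⁻¹ * w⁻¹ * (w * y) by group, ← mul_inv_rev, inv_eq_of_mul_eq_one_right (hWsq x hx)]
    exact mul_mem (inv_mem (hwP x hx)) (hwP y hy))
  refine ⟨M, ⟨fun r hr g => ?_⟩, fun h => ?_, (P₀.2.map N.subtype).to_le hMP⟩
  · induction hr using Subgroup.closure_induction with
    | mem r hr =>
      obtain ⟨x, hx, y, hy, rfl⟩ := hr
      exact Subgroup.subset_closure ⟨_, hWconj g x hx, _, hWconj g y hy, by group⟩
    | one => rw [mul_one, mul_inv_cancel]; exact one_mem _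
    | mul x y _ _ hx hy => simpa [mul_assoc] using mul_mem hx hy
    | inv x _ hx => simpa [mul_assoc] using inv_mem hx
  · obtain ⟨g, hg⟩ := exists_smul_eq G c₀ a
    have hmem : w * (g * w * g⁻¹) ∈ M := Subgroup.subset_closure ⟨w, hwW, _, hWconj g w hwW, rfl⟩
    rw [h, Subgroup.mem_bot, mul_eq_one_iff_inv_eq, hwinv] at hmem
    have h1 : (g * w * g⁻¹) • a = a := by rw [← hg, mul_smul, mul_smul, inv_smul_smul, hc₀]
    rw [← hmem, hwab] at h1
    exact hab h1.symm

end CfsgLib.TwoTransAFive
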