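import Cfsg.Agent.TwoTransAFive.Swapper
import Cfsg.Agent.TwoTransAFive.Normalizer
import Cfsg.Agent.TwoTransAFive.Unique
import Cfsg.Agent.TwoTransAFive.Degree
import Cfsg.Agent.TwoTransAFive.Arith

/-!
# Common consequences, and the case of a central swapper
-/

set_option autoImplicit false

namespace CfsgLib.TwoTransAFive

open MulAction

variable {G : Type*} [Group G] {Ω : Type*} [MulAction G Ω] [Finite G] [Finite Ω] {a b : Ω}

/-- When the four-group fixes all fixed points of `ei`, their number is a prime power. -/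
theorem Hyp.prime_pow_of_eq (S : Hyp (G := G) (a := a) (b := b))
    (e : ↥(stabilizer G a ⊓ stabilizer G b) ≃* AFive) (he : eg e = ef e) :
    ∃ p m : ℕ, p.Prime ∧ 1 ≤ m ∧ ef e = p ^ m := by
  have hsub : fixedBy Ω (ei e) ∩ fixedBy Ω (ej e) = fixedBy Ω (ei e) :=
    Set.eq_of_subset_of_ncard_le Set.inter_subset_left (by unfold eg ef at he; omega) (Set.toFinite _)
  exact (S.pair_C e).exists_prime_pow (ei_fix e).1 (ei_fix e).2 S.hab fun k hk hka hkb x hx =>
    fix_of_mem_eV e ((S.C_pair_stab e).le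
      (Subgroup.mem_inf.2 ⟨Subgroup.mem_inf.2 ⟨hk, hka⟩, hkb⟩)) (hsub.symm.subset hx)

theorem eg_le_ef {a b : Ω} (e : ↥(stabilizer G a ⊓ stabilizer G b) ≃* AFive) : eg e ≤ ef e :=
  Set.ncard_le_ncard Set.inter_subset_left (Set.toFinite _)

/-- Members of the class moving `a` to `b` swap them. -/
theorem swap_of_eI {a b : Ω} (e : ↥(stabilizer G a ⊓ stabilizer G b) ≃* AFive) {x : G} (hx : x ∈ eI e)
    (hxa : x • a = b) : x • b = a := by
  rw [← hxa, ← mul_smul, eI_sq e hx, one_smul]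

theorem Hyp.fix_prime_pow (S : Hyp (G := G) (a := a) (b := b))
    (e : ↥(stabilizer G a ⊓ stabilizer G b) ≃* AFive) : ∃ p m : ℕ, p.Prime ∧ 1 ≤ m ∧ eg e = p ^ m :=
  (S.pair_R e).exists_prime_pow (a := a) (b := b) ⟨(ei_fix e).1, (ej_fix e).1⟩
    ⟨(ei_fix e).2, (ej_fix e).2⟩ S.hab fun k hk hka hkb x hx =>
    fix_of_mem_eV e ((S.C_pair_stab e).le (Subgroup.mem_inf.2
      ⟨Subgroup.mem_inf.2 ⟨(Subgroup.mem_inf.1 hk).1, hka⟩, hkb⟩)) hx

/-- The odd case: Sylow's congruence. -/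
theorem Hyp.false_of_square_odd (S : Hyp (G := G) (a := a) (b := b))
    (e : ↥(stabilizer G a ⊓ stabilizer G b) ≃* AFive) {s : ℕ} (hs : s = 10 ∨ s = 16)
    (hrel : 15 * (Nat.card Ω - ef e) = s * (ef e * (ef e - 1))) (hsq : ef e = eg e ^ 2)
    (hlt : eg e < ef e) {p : ℕ} {P : Subgroup G} (R : RegOdd e p P)
    (hw : s = 10 → ∃ w ∈ Subgroup.centralizer ({ei e} : Set G), w * ej e * w⁻¹ = ei e * ej e) : False := by
  haveI := Fact.mk R.prime
  have hp := R.prime
  obtain ⟨q, k, hq, hk, hg⟩ := S.fix_prime_pow e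
  obtain ⟨j, hj⟩ := IsPGroup.iff_card.1 R.pgroup
  rw [R.card, hsq, hg, ← pow_mul] at hj
  have hqp : q = p := (Nat.prime_dvd_prime_iff_eq hq hp).1
    (hq.dvd_of_dvd_pow (hj ▸ dvd_pow_self q (by omega : k * 2 ≠ 0)))
  subst hqp
  have hfp : ef e = q ^ (2 * k) := by rw [hsq, hg, ← pow_mul, mul_comm]
  rcases odd_arith hp R.ne_two (by omega : 2 ≤ 2 * k) hfp (S.f_lt e).le hs hrel (S.card_G e)
      (S.count e).1 with ⟨hval, hX⟩ | ⟨h10, -, hval, hdvd⟩
  · exact hX (R.congruence S hlt fun Q hQ => by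
      obtain ⟨j, hj⟩ := IsPGroup.iff_card.1 hQ
      rw [hj]
      exact hval j (hj ▸ Subgroup.card_subgroup_dvd_card Q))
  · exact R.false_of_index S hlt (fun Q hQ => by
      obtain ⟨j, hj⟩ := IsPGroup.iff_card.1 hQ
      rw [hj]
      exact hval j (hj ▸ Subgroup.card_subgroup_dvd_card Q)) hdvd (hw h10)

section

variable (S : Hyp (G := G) (a := a) (b := b))
  (e : ↥(stabilizer G a ⊓ stabilizer G b) ≃* AFive) {t : G} (D : CaseCentral (a := a) (b := b) t)
include S D

/-- The swappers: the central one and its products with the involutions. -/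
theorem CaseCentral.swap_form {x : G} (hxa : x • a = b) (hxb : x • b = a) (hx : x * x = 1) :
    x = t ∨ ∃ h : G, h • a = a ∧ h • b = b ∧ h * h = 1 ∧ h ≠ 1 ∧ x = t * h := by
  set h := t * x with hh
  have ha : h • a = a := by rw [mul_smul, hxa, D.tb]
  have hb : h • b = b := by rw [mul_smul, hxb, D.ta]
  have hxe : x = t * h := by rw [hh, ← mul_assoc, D.sq, one_mul]
  by_cases h1 : h = 1
  · exact Or.inl (by rw [hxe, h1, mul_one])
  · refine Or.inr ⟨h, ha, hb, ?_, h1, hxe⟩
    calc h * h = (t * t) * (h * h) := by rw [D.sq, one_mul]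
      _ = t * (t * h) * h := by group
      _ = t * (h * t) * h := by rw [D.comm h ha hb]
      _ = x * x := by rw [hxe]; group
      _ = 1 := hx

theorem CaseCentral.translate_mem (h2 : t * ei e ∈ eI e) {h : G} (ha : h • a = a) (hb : h • b = b)
    (hh : h * h = 1) (hh1 : h ≠ 1) : t * h ∈ eI e := by
  obtain ⟨l, hla, hlb, rfl⟩ := conj_H e ha hb hh hh1
  have := conj_mem_eI e l _ h2
  rwa [show l * (t * ei e) * l⁻¹ = t * (l * ei e * l⁻¹) by
    rw [← mul_assoc, ← D.comm l hla hlb]; group] at this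

theorem CaseCentral.translate_iff {h : G} (ha : h • a = a) (hb : h • b = b)
    (hh : h * h = 1) (hh1 : h ≠ 1) (h2 : t * h ∈ eI e) : t * ei e ∈ eI e := by
  obtain ⟨l, hla, hlb, rfl⟩ := conj_H e ha hb hh hh1
  have := conj_mem_eI e l⁻¹ _ h2
  rwa [show l⁻¹ * (t * (l * ei e * l⁻¹)) * l⁻¹⁻¹ = t * ei e by
    rw [← mul_assoc, ← mul_assoc, ← mul_assoc, mul_assoc l⁻¹ t l, D.comm l hla hlb]; group] at this

include e in
/-- **A central swapper is impossible.** -/
theorem CaseCentral.false_all : False := by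
  classical
  obtain ⟨hI, hrel⟩ := S.count e
  have hflt := S.f_lt e
  have hf2 := S.two_le_f e
  have ht1 : t ≠ 1 := fun h => S.hab (by have := D.ta; rwa [h, one_smul] at this)
  set Inv := {x : G | x • a = a ∧ x • b = b ∧ x * x = 1 ∧ x ≠ 1} with hInv
  have hInvcard : Inv.ncard = 15 := by
    rw [← card_invol_aFive, ← Set.ncard_image_of_injective {x : AFive | x * x = 1 ∧ x ≠ 1}
      (f := fun x => (e.symm x : G)) (Subtype.val_injective.comp e.symm.injective)]
    congr 1
    ext x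
    constructor
    · rintro ⟨hxa, hxb, hx, hx1⟩
      refine ⟨e ⟨x, Subgroup.mem_inf.2 ⟨hxa, hxb⟩⟩, ⟨?_, fun h => hx1
        (congrArg Subtype.val ((map_eq_one_iff e e.injective).1 h))⟩, by simp⟩
      rw [← map_mul, ← map_one e]
      exact congrArg e (Subtype.ext hx)
    · rintro ⟨y, ⟨hy, hy1⟩, rfl⟩
      refine ⟨(Subgroup.mem_inf.1 (e.symm y).2).1, (Subgroup.mem_inf.1 (e.symm y).2).2,
        show ((e.symm y * e.symm y : ↥(stabilizer G a ⊓ stabilizer G b)) : G) = 1 by
          rw [← map_mul, hy, map_one]; rfl,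
        fun h => hy1 (e.symm.injective (Subtype.ext (by rw [map_one]; exact h)))⟩
  have hform : ∀ x ∈ eI e, x • a = b →
      x = t ∨ ∃ h ∈ Inv, x = t * h := fun x hx hxa => by
    rcases D.swap_form S hxa (swap_of_eI e hx hxa) (eI_sq e hx) with h | ⟨h, h1, h2, h3, h4, h5⟩
    exacts [Or.inl h, Or.inr ⟨h, ⟨h1, h2, h3, h4⟩, h5⟩]
  have hti : ei e ∈ Inv := ⟨(ei_fix e).1, (ei_fix e).2, ei_sq e, ei_ne_one e⟩
  have hmove : ∀ h ∈ Inv, (t * h) • a = b := fun h hh => by rw [mul_smul, hh.1, D.ta]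
  -- the three possibilities
  have hes : (t ∈ eI e ∧ t * ei e ∉ eI e ∧ es e = 1) ∨ (t ∉ eI e ∧ t * ei e ∈ eI e ∧ es e = 15) ∨
      (t ∈ eI e ∧ t * ei e ∈ eI e ∧ es e = 16) := by
    have himg : t * ei e ∈ eI e → (fun h => t * h) '' Inv ⊆ {x ∈ eI e | x • a = b} := fun h2 => by
      rintro _ ⟨h, hh, rfl⟩
      exact ⟨D.translate_mem S e h2 hh.1 hh.2.1 hh.2.2.1 hh.2.2.2, hmove h hh⟩
    have hcard : ((fun h => t * h) '' Inv).ncard = 15 := by
      rw [Set.ncard_image_of_injective _ (mul_right_injective t), hInvcard]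
    have htnot : t ∉ (fun h => t * h) '' Inv := by
      rintro ⟨h, hh, he⟩
      exact hh.2.2.2 (mul_eq_left.1 he)
    by_cases h1 : t ∈ eI e <;> by_cases h2 : t * ei e ∈ eI e
    · refine Or.inr (Or.inr ⟨h1, h2, ?_⟩)
      rw [es, show {x ∈ eI e | x • a = b} = insert t ((fun h => t * h) '' Inv) from
        Set.Subset.antisymm (fun x hx => (hform x hx.1 hx.2).imp id fun ⟨h, hh, he⟩ => ⟨h, hh, he.symm⟩)
          (Set.insert_subset ⟨h1, D.ta⟩ (himg h2)), Set.ncard_insert_of_notMem htnot (Set.toFinite _), hcard]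
    · refine Or.inl ⟨h1, h2, ?_⟩
      rw [es, show {x ∈ eI e | x • a = b} = {t} from Set.eq_singleton_iff_unique_mem.2 ⟨⟨h1, D.ta⟩,
        fun x hx => (hform x hx.1 hx.2).resolve_right fun ⟨h, hh, he⟩ =>
          h2 (D.translate_iff S e hh.1 hh.2.1 hh.2.2.1 hh.2.2.2 (he ▸ hx.1))⟩, Set.ncard_singleton]
    · refine Or.inr (Or.inl ⟨h1, h2, ?_⟩)
      rw [es, show {x ∈ eI e | x • a = b} = (fun h => t * h) '' Inv from
        Set.Subset.antisymm (fun x hx => ((hform x hx.1 hx.2).resolve_left fun he => h1 (he ▸ hx.1)).elim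
          fun h ⟨hh, he⟩ => ⟨h, hh, he.symm⟩) (himg h2), hcard]
    · exfalso
      have h0 : es e = 0 := by
        rw [es, show {x ∈ eI e | x • a = b} = ∅ from Set.eq_empty_iff_forall_notMem.2 fun x hx =>
          (hform x hx.1 hx.2).elim (fun he => h1 (he ▸ hx.1)) fun ⟨h, hh, he⟩ =>
            h2 (D.translate_iff S e hh.1 hh.2.1 hh.2.2.1 hh.2.2.2 (he ▸ hx.1)), Set.ncard_empty]
      rw [h0, zero_mul] at hrel
      omega
  have hd1 := S.dvd_point e
  have hd2 := S.dvd_all e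
  rcases hes with ⟨hti1, hti2, hs⟩ | ⟨htI, htiI, hs⟩ | ⟨hti1, hti2, hs⟩
  · -- `s = 1`
    rw [hs] at hrel
    rcases (eg_le_ef e).lt_or_eq with hlt | he
    · obtain ⟨u, hui, hua, hub, huI, huiI, -⟩ := S.small_cases e hlt
      have key : ∀ x ∈ eI e, x • a = b → x = t := fun x hx hxa => (hform x hx hxa).resolve_right
        fun ⟨h, hh, he⟩ => hti2 (D.translate_iff S e hh.1 hh.2.1 hh.2.2.1 hh.2.2.2 (he ▸ hx))
      have h1 := key u huI hua
      have h2 := key (u * ei e) huiI (by rw [mul_smul, (ei_fix e).1, hua])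
      exact ei_ne_one e (mul_eq_left.1 (h2.trans h1.symm))
    · obtain ⟨p, m, hp, -, hfp⟩ := S.prime_pow_of_eq e he
      have := (eq_arith hp hfp hflt.le hf2 (Or.inl rfl) hrel (he ▸ hd1) (he ▸ hd2)).1
      omega
  · -- `s = 15`
    rw [hs] at hrel
    have hn : Nat.card Ω = ef e ^ 2 := by
      obtain ⟨f', hf'⟩ : ∃ f', ef e = f' + 1 := ⟨ef e - 1, by omega⟩
      rw [hf'] at hrel hflt ⊢
      rw [Nat.add_sub_cancel] at hrel
      have h1 : Nat.card Ω - (f' + 1) = (f' + 1) * f' := Nat.eq_of_mul_eq_mul_left (by norm_num) hrel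
      have h2 : (f' + 1) ^ 2 = (f' + 1) * f' + (f' + 1) := by ring
      omega
    obtain ⟨p, m, hp, hm, hfp⟩ : ∃ p m : ℕ, p.Prime ∧ 1 ≤ m ∧ ef e = p ^ m := by
      rcases (eg_le_ef e).lt_or_eq with hlt | he
      · obtain ⟨u, hui, hua, hub, huI, huiI, hcase⟩ := S.small_cases e hlt
        rcases hcase with ⟨hsq, -⟩ | ⟨-, hjI, hkI, -⟩
        · obtain ⟨q, k, hq, hk, hg⟩ := S.fix_prime_pow e
          exact ⟨q, k * 2, hq, by omega, by rw [hsq, hg, ← pow_mul]⟩
        · exfalso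
          -- `u` lies in `t V`, so one of its translates is `t`
          have htu : t * u ∈ eV e := by
            refine cent_H e (by rw [mul_smul, hua, D.tb]) (by rw [mul_smul, hub, D.ta]) ?_
            rw [mul_assoc, hui, ← mul_assoc, D.comm _ (ei_fix e).1 (ei_fix e).2, mul_assoc]
          have hu : u = t * (t * u) := by rw [← mul_assoc, D.sq, one_mul]
          rcases mem_four.1 htu with h | h | h | h
          · exact htI (by rw [hu, h, mul_one] at huI; exact huI)
          · exact htI (by rw [hu, h, mul_assoc, ei_sq, mul_one] at huiI; exact huiI)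
          · exact htI (by rw [hu, h, mul_assoc, ej_sq, mul_one] at hjI; exact hjI)
          · exact htI (by rw [hu, h, mul_assoc, ek_sq, mul_one] at hkI; exact hkI)
      · exact S.prime_pow_of_eq e he
    haveI := Fact.mk hp
    obtain ⟨N, hN, hNne, hNp⟩ := exists_normal_pgroup S.faith S.two (W := {x | x * x = 1 ∧ x ≠ 1 ∧ x ∉ eI e})
      (w := t) S.hab (fun g x ⟨hx, hx1, hxI⟩ => ⟨by
          calc g * x * g⁻¹ * (g * x * g⁻¹) = g * (x * x) * g⁻¹ := by group
            _ = 1 := by rw [hx]; group,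
        fun h => hx1 (conj_eq_one_iff.1 h), fun h => hxI (by
          have := conj_mem_eI e g⁻¹ _ h
          rwa [show g⁻¹ * (g * x * g⁻¹) * g⁻¹⁻¹ = x by group] at this)⟩)
      (fun x hx => hx.1) (fun x hx => hx.2.1)
      (fun x hx c d hc hd => by_contra fun hcd => hx.2.2 (S.mem_eI e hcd hx.1 hx.2.1 hc hd))
      (Set.eq_singleton_iff_unique_mem.2 ⟨⟨⟨D.sq, ht1, htI⟩, D.ta⟩, fun x ⟨⟨hx, hx1, hxI⟩, hxa⟩ => by
        have hxb : x • b = a := by rw [← hxa, ← mul_smul, hx, one_smul]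
        rcases D.swap_form S hxa hxb hx with h | ⟨h, h1, h2, h3, h4, rfl⟩
        · exact h
        · exact absurd (D.translate_mem S e htiI h1 h2 h3 h4) hxI⟩)
      hp (m := 2 * m) (by omega) (by rw [hn, hfp, ← pow_mul, mul_comm])
    exact S.false_of_normal_pgroup hN hNne hNp
  · -- `s = 16`
    rw [hs] at hrel
    rcases (eg_le_ef e).lt_or_eq with hlt | he
    · obtain ⟨u, hui, hua, hub, huI, huiI, hcase⟩ := S.small_cases e hlt
      obtain ⟨q, k, hq, hk, hg⟩ := S.fix_prime_pow e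
      rcases hcase with ⟨hsq, hodd⟩ | ⟨hff, -, -, hodd, heven⟩
      · rcases Nat.even_or_odd (eg e) with hev | ho
        · obtain rfl : q = 2 := ((Nat.prime_dvd_prime_iff_eq Nat.prime_two hq).1
            (Nat.prime_two.dvd_of_dvd_pow (hg ▸ even_iff_two_dvd.1 hev))).symm
          exact even_arith hg hk hsq hflt.le hrel hd1
        · obtain ⟨p, P, R⟩ := hodd ho
          exact S.false_of_square_odd e (Or.inr rfl) hrel hsq hlt R (fun h => by norm_num at h)
      · rcases Nat.even_or_odd (eg e) with hev | ho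
        · have h4 := heven hev
          have hg2 : 2 ≤ eg e := hg ▸ hq.two_le.trans (le_self_pow₀ hq.one_le (by omega))
          have h24 : eg e = 2 ∨ eg e = 4 := by
            obtain ⟨c, hc⟩ := hev; omega
          rcases h24 with h | h <;> rw [h] at hff <;> norm_num at hff <;> rw [hff] at hrel hflt
          · exact S.false_thirty_eight e (by omega)
          · omega
        · exact hodd ho
    · obtain ⟨p, m, hp, -, hfp⟩ := S.prime_pow_of_eq e he
      have := (eq_arith hp hfp hflt.le hf2 (Or.inr (Or.inr rfl)) hrel (he ▸ hd1) (he ▸ hd2)).1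
      omega

end

end CfsgLib.TwoTransAFive
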