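import Cfsg.Agent.Perm.SharplyTwo
import Mathlib.GroupTheory.PGroup

/-!
# Small tools: restricted actions, free elements, involutions of sharply 2-transitive groups
-/

set_option autoImplicit false

namespace CfsgLib.TwoTransAFive

open MulAction CfsgLib.Perm.SharplyTwo

variable {G : Type*} [Group G] {α : Type*} [MulAction G α]

/-- The action of a subgroup on a set it stabilises. -/
def actOn (K : Subgroup G) (s : Set α) (h : ∀ k ∈ K, ∀ x ∈ s, k • x ∈ s) : ↥K →* Equiv.Perm ↥s where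
  toFun k :=
    ⟨fun x => ⟨(k : G) • (x : α), h k k.2 x x.2⟩, fun x => ⟨(k : G)⁻¹ • (x : α), h _ (inv_mem k.2) x x.2⟩,
      fun x => Subtype.ext (inv_smul_smul (k : G) (x : α)),
      fun x => Subtype.ext (smul_inv_smul (k : G) (x : α))⟩
  map_one' := Equiv.ext fun x => Subtype.ext (one_smul G (x : α))
  map_mul' k l := Equiv.ext fun x => Subtype.ext (mul_smul (k : G) (l : G) (x : α))

theorem actOn_apply {K : Subgroup G} {s : Set α} (h : ∀ k ∈ K, ∀ x ∈ s, k • x ∈ s) (k : ↥K) (x : ↥s) :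
    ((actOn K s h k x : ↥s) : α) = (k : G) • (x : α) := rfl

theorem mem_ker_actOn {K : Subgroup G} {s : Set α} (h : ∀ k ∈ K, ∀ x ∈ s, k • x ∈ s) {k : ↥K} :
    k ∈ (actOn K s h).ker ↔ ∀ x ∈ s, (k : G) • x = x := by
  rw [MonoidHom.mem_ker]
  exact ⟨fun hk x hx => congrArg Subtype.val (Equiv.congr_fun hk ⟨x, hx⟩),
    fun hk => Equiv.ext fun x => Subtype.ext (hk x x.2)⟩

/-- The fixed set of a conjugate. -/
theorem fixedBy_conj (g x : G) : fixedBy α (g * x * g⁻¹) = (fun c => g • c) '' fixedBy α x := by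
  ext c
  simp only [mem_fixedBy, Set.mem_image]
  constructor
  · intro h
    refine ⟨g⁻¹ • c, ?_, smul_inv_smul _ _⟩
    rw [mul_smul, mul_smul, ← eq_inv_smul_iff] at h
    exact h
  · rintro ⟨d, hd, rfl⟩
    rw [mul_smul, mul_smul, inv_smul_smul, hd]

/-- The centraliser of an element permutes its fixed points. -/
theorem smul_mem_fixedBy_of_commute {x k : G} (h : Commute k x) {c : α} (hc : c ∈ fixedBy α x) :
    k • c ∈ fixedBy α x := by
  rw [mem_fixedBy] at hc ⊢
  rw [← mul_smul, ← h.eq, mul_smul, hc]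

variable [Finite α]

/-- An element of prime order without fixed points has order dividing the degree. -/
theorem dvd_of_fpf [Finite G] {r : ℕ} (hr : r.Prime) {y : G} (hy : orderOf y = r)
    (hfree : ∀ c : α, y • c ≠ c) : r ∣ Nat.card α := by
  haveI := Fact.mk hr
  have hP : IsPGroup r (Subgroup.zpowers y) := IsPGroup.of_card (n := 1) (by
    rw [Nat.card_zpowers, hy, pow_one])
  have h := hP.card_modEq_card_fixedPoints α
  rw [show fixedPoints (Subgroup.zpowers y) α = ∅ from
    Set.eq_empty_iff_forall_notMem.2 fun c hc => hfree c (hc ⟨y, Subgroup.mem_zpowers y⟩),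
    Nat.card_coe_set_eq, Set.ncard_empty] at h
  exact Nat.modEq_zero_iff_dvd.1 h

/-- An involution fixes as many points as the degree, modulo two. -/
theorem modEq_fixedBy [Finite G] {x : G} (hx : x * x = 1) :
    Nat.card α ≡ (fixedBy α x).ncard [MOD 2] := by
  haveI := Fact.mk Nat.prime_two
  have hP : IsPGroup 2 (Subgroup.zpowers x) := fun y => by
    obtain ⟨y, hy⟩ := y
    refine ⟨1, Subtype.ext ?_⟩
    obtain ⟨i, rfl⟩ := Subgroup.mem_zpowers_iff.1 hy
    show (x ^ i) ^ 2 = 1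
    rw [← zpow_natCast, ← zpow_mul, mul_comm, zpow_mul, zpow_natCast, pow_two, hx, one_zpow]
  have h := hP.card_modEq_card_fixedPoints α
  have e : fixedPoints (Subgroup.zpowers x) α = fixedBy α x := by
    ext c
    refine ⟨fun hc => hc ⟨x, Subgroup.mem_zpowers x⟩, fun hc g => ?_⟩
    exact (Subgroup.zpowers_le.2 (show x ∈ stabilizer G c from hc)) g.2
  rw [e, Nat.card_coe_set_eq] at h
  exact h

section sharp

variable [Nontrivial α] (h2 : IsMultiplyPretransitive G α 2)
  (hs : ∀ (g : G) (a b : α), a ≠ b → g • a = a → g • b = b → g = 1)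
include h2 hs

/-- A stabiliser of a sharply 2-transitive group meets the kernel trivially; its involution inverts it. -/
theorem conj_kernel_eq_inv {m : G} (hm : m * m = 1) (hm1 : m ≠ 1) {c : α} (hc : m • c = c) {y : G}
    (hy : y ∈ kernel h2 hs) : m * y * m⁻¹ = y⁻¹ := by
  haveI := finite_group h2 hs
  have hinv : m⁻¹ = m := inv_eq_of_mul_eq_one_right hm
  haveI hN := kernel_normal h2 hs
  -- `y ↦ y (m y⁻¹ m)` is a bijection of the kernel
  let φ : kernel h2 hs → kernel h2 hs := fun z =>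
    ⟨(z : G) * (m * (z : G)⁻¹ * m⁻¹), mul_mem z.2 (hN.conj_mem _ (inv_mem z.2) m)⟩
  have hφ : Function.Injective φ := by
    rintro ⟨u, hu⟩ ⟨v, hv⟩ he
    have he' : u * (m * u⁻¹ * m⁻¹) = v * (m * v⁻¹ * m⁻¹) := congrArg Subtype.val he
    have h1 : (v⁻¹ * u) * m = m * (v⁻¹ * u) := by
      calc (v⁻¹ * u) * m = v⁻¹ * (u * (m * u⁻¹ * m⁻¹)) * m * u := by group
        _ = v⁻¹ * (v * (m * v⁻¹ * m⁻¹)) * m * u := by rw [he']
        _ = m * (v⁻¹ * u) := by group
    have hk : v⁻¹ * u ∈ kernel h2 hs := mul_mem (inv_mem hv) hu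
    have h3 : v⁻¹ * u = 1 := by
      by_contra hne
      refine hm1 (hs m c ((v⁻¹ * u) • c) (fun e => hne (kernel_free h2 hs hk e.symm)) hc ?_)
      rw [← mul_smul, ← h1, mul_smul, hc]
    exact Subtype.ext (inv_mul_eq_one.1 h3).symm
  haveI : Finite (kernel h2 hs) := inferInstance
  obtain ⟨⟨u, hu⟩, he⟩ := (Finite.injective_iff_surjective.1 hφ) ⟨y, hy⟩
  have he' : u * (m * u⁻¹ * m⁻¹) = y := congrArg Subtype.val he
  have hcomm := kernel_comm h2 hs hu (hN.conj_mem _ (inv_mem hu) m)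
  rw [← he', hinv]
  rw [hinv] at hcomm
  calc m * (u * (m * u⁻¹ * m)) * m = (m * u * m) * (u⁻¹ * (m * m)) := by group
    _ = (m * u * m) * u⁻¹ := by rw [hm, mul_one]
    _ = (u * (m * u⁻¹ * m))⁻¹ := by
      rw [mul_inv_rev, mul_inv_rev, mul_inv_rev, inv_inv, hinv, ← mul_assoc m u m]

/-- Two involutions fixing the same point of a sharply 2-transitive group are equal. -/
theorem eq_of_common_fixed {m m' : G} (hm : m * m = 1) (hm1 : m ≠ 1) (hm' : m' * m' = 1) (hm1' : m' ≠ 1)
    {c : α} (hc : m • c = c) (hc' : m' • c = c) : m = m' := by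
  obtain ⟨d, hd⟩ := exists_ne c
  obtain ⟨⟨y, hy⟩, hyd⟩ := (kernel_bijective h2 hs c).2 d
  simp only at hyd
  have key : ∀ n : G, n * n = 1 → n ≠ 1 → n • c = c → n • d = y⁻¹ • c := fun n hn hn1 hnc => by
    rw [← hyd, ← conj_kernel_eq_inv h2 hs hn hn1 hnc hy, mul_smul, mul_smul,
      inv_eq_of_mul_eq_one_right hn, hnc]
  have := hs (m⁻¹ * m') c d (Ne.symm hd) (by rw [mul_smul, hc', inv_smul_eq_iff, hc])
    (by rw [mul_smul, key m' hm' hm1' hc', inv_smul_eq_iff, key m hm hm1 hc])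
  exact inv_mul_eq_one.1 this

/-- The product of two distinct involutions of a sharply 2-transitive group is a translation. -/
theorem mul_mem_kernel {m m' : G} (hm : m * m = 1) (hm1 : m ≠ 1) (hm' : m' * m' = 1) (hm1' : m' ≠ 1) :
    m * m' ∈ kernel h2 hs := by
  by_cases hne : m = m'
  · rw [hne, hm']; exact one_mem _
  refine Or.inr fun c hc => hne ?_
  have h1 : m' • c = m • c := by
    rw [mul_smul] at hc
    conv_rhs => rw [← hc]
    rw [← mul_smul, hm, one_smul]
  by_cases hfix : m • c = c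
  · exact eq_of_common_fixed h2 hs hm hm1 hm' hm1' hfix (h1.trans hfix)
  · refine inv_mul_eq_one.1 (hs (m⁻¹ * m') c (m • c) (Ne.symm hfix) ?_ ?_)
    · rw [mul_smul, h1, inv_smul_smul]
    · have hmm : m' • (m • c) = c := by rw [← h1, ← mul_smul, hm', one_smul]
      rw [mul_smul, hmm, inv_eq_of_mul_eq_one_right hm]

end sharp

end CfsgLib.TwoTransAFive
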