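import Cfsg.Agent.TwoTransAFive.SmallStabTrans
import Cfsg.Agent.TwoTransAFive.Four
import Cfsg.Agent.Small.BaerSuzuki

/-!
# Two-point stabiliser of order two, one class of involutions, odd degree: impossible

The translations of the fixed set of `z` form a Sylow subgroup whose normaliser is the centraliser of `z`,
against Sylow's congruence.
-/

set_option autoImplicit false

namespace CfsgLib.TwoTransAFive

open MulAction CfsgLib.Perm.SharplyTwo

variable {B : Type*} [Group B] {α : Type*} [MulAction B α] [Finite B] [Finite α] {z : B} {a b : α}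

namespace SmallStab

/-- **One class of involutions and odd `g` is impossible.** -/
theorem false_of_both_odd (S : SmallStab z a b) {u : B} (hu1 : u • a = b) (hu2 : u • b = a)
    (hu : IsConj z u) (huz : IsConj z (u * z))
    (hf : Nat.card α = (fixedBy α z).ncard * (2 * (fixedBy α z).ncard - 1))
    (hodd : Odd (fixedBy α z).ncard) : False := by
  classical
  haveI := S.fix_nontrivial
  obtain ⟨p, k, hp, hk, hgp⟩ := S.exists_prime_pow
  haveI := Fact.mk hp
  have hg2 := S.two_le_fix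
  set g := (fixedBy α z).ncard with hgdef
  have hp2 : p ≠ 2 := by
    rintro rfl
    rw [hgp] at hodd
    exact absurd hodd (Nat.not_odd_iff_even.2 (Nat.even_pow.2 ⟨even_two, by omega⟩))
  set C := Subgroup.centralizer ({z} : Set B) with hCdef
  have hzC : z ∈ C := Subgroup.mem_centralizer_singleton_iff.2 rfl
  obtain ⟨P₀⟩ : Nonempty (Sylow p ↥S.trans) := inferInstance
  have hP₀ : Nat.card ↥(P₀ : Subgroup ↥S.trans) = g := by
    rw [P₀.card_eq_multiplicity, S.card_trans, ← hgdef, hgp]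
    congr 1
    rw [Nat.factorization_mul (by norm_num) (pow_ne_zero _ hp.ne_zero), hp.factorization_pow,
      Finsupp.add_apply, Nat.factorization_eq_zero_of_not_dvd (fun h => hp2
        ((Nat.prime_dvd_prime_iff_eq hp Nat.prime_two).1 h)), Finsupp.single_eq_same, zero_add]
  have hidx : (P₀ : Subgroup ↥S.trans).index = 2 := by
    have h := (P₀ : Subgroup ↥S.trans).card_mul_index
    rw [hP₀, S.card_trans, ← hgdef, mul_comm] at h
    exact Nat.eq_of_mul_eq_mul_right (by omega : 0 < g) h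
  set T := (P₀ : Subgroup ↥S.trans).map S.trans.subtype with hTdef
  have hTle : T ≤ S.trans := Subgroup.map_subtype_le _
  have hTcard : Nat.card ↥T = g := by
    rw [hTdef, Subgroup.card_map_of_injective S.trans.subtype_injective, hP₀]
  have hToff : ∀ x ∈ T, Odd (orderOf x) := fun x hx => by
    refine Odd.of_dvd_nat (hTcard.symm ▸ hodd : Odd (Nat.card ↥T)) ?_
    rw [← Subgroup.orderOf_mk x hx]; exact orderOf_dvd_natCard _
  -- elements of odd order in the translations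
  have hTmem : ∀ x ∈ S.trans, Odd (orderOf x) → x ∈ T := by
    intro x hx ho
    obtain ⟨j, hj⟩ := ho
    have h1 := Subgroup.sq_mem_of_index_two hidx (⟨x, hx⟩ : ↥S.trans)
    refine ⟨⟨x, hx⟩, ?_, rfl⟩
    have h2 : (⟨x, hx⟩ : ↥S.trans) = ((⟨x, hx⟩ : ↥S.trans) ^ 2) ^ (j + 1) := Subtype.ext (by
      show x = (x ^ 2) ^ (j + 1)
      rw [← pow_mul, show 2 * (j + 1) = orderOf x + 1 by omega, pow_succ, pow_orderOf_eq_one, one_mul])
    rw [h2]
    exact pow_mem h1 _
  have hzT : z ∉ T := fun h => by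
    have := hToff z h
    rw [orderOf_eq_prime (by rw [pow_two, S.sq]) S.ne_one] at this
    exact absurd this (by decide)
  have hTinj : ∀ x ∈ T, x = 1 ∨ x = z → x = 1 := fun x hx h => h.resolve_right fun e => hzT (e ▸ hx)
  have hTC : ∀ c ∈ C, ∀ x ∈ T, c * x * c⁻¹ ∈ T := fun c hc x hx =>
    hTmem _ (S.conj_mem_trans hc (hTle hx)) (by
      have := hToff x hx
      rwa [← orderOf_injective (MulAut.conj c).toMonoidHom (MulAut.conj c).injective x] at this)
  have hne_one : ∃ t ∈ T, t ≠ 1 := by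
    haveI : Nontrivial ↥T := Finite.one_lt_card_iff_nontrivial.1 (by rw [hTcard]; omega)
    obtain ⟨x, hx⟩ := exists_ne (1 : ↥T)
    exact ⟨x, x.2, fun h => hx (Subtype.ext h)⟩
  -- `u` inverts the translations
  have huC : u ∈ C := Subgroup.mem_centralizer_singleton_iff.2 (S.swap_commute hu1 hu2).eq
  have huT : ∀ t ∈ T, u * t * u⁻¹ = t⁻¹ := by
    intro t ht
    have hu2' := S.sq_of_isConj hu
    set ū := S.fixHom.rangeRestrict ⟨u, huC⟩ with hū
    have hū2 : ū * ū = 1 := by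
      rw [hū, ← map_mul, ← map_one S.fixHom.rangeRestrict]
      exact congrArg _ (Subtype.ext hu2')
    have hū1 : ū ≠ 1 := fun e => by
      rcases (S.rangeRestrict_eq_one_iff huC).1 e with h | h
      · exact S.hab (by rw [h, one_smul] at hu1; exact hu1)
      · exact S.hab (by rw [h, S.za] at hu1; exact hu1)
    obtain ⟨c, hc⟩ : ∃ c : ↥(fixedBy α z), ū • c = c := by
      by_contra hno
      push Not at hno
      have h := modEq_fixedBy (α := ↥(fixedBy α z)) hū2
      rw [show fixedBy ↥(fixedBy α z) ū = ∅ from Set.eq_empty_iff_forall_notMem.2 fun c hc => hno c hc,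
        Set.ncard_empty, Nat.card_coe_set_eq, ← hgdef] at h
      obtain ⟨i, hi⟩ := hodd
      have h' : g % 2 = 0 % 2 := h
      omega
    have htC := S.trans_le (hTle ht)
    have h := conj_kernel_eq_inv S.fix_two S.fix_sharp hū2 hū1 hc ((S.mem_trans htC).1 (hTle ht))
    rw [hū, ← map_inv, ← map_inv, ← map_mul, ← map_mul, ← mul_inv_eq_one, ← map_inv, inv_inv, ← map_mul] at h
    have hmem : u * t * u⁻¹ * t ∈ T := mul_mem (hTC u huC t ht) ht
    exact eq_inv_of_mul_eq_one_left (hTinj _ hmem ((S.rangeRestrict_eq_one_iff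
      (mul_mem (mul_mem (mul_mem huC htC) (inv_mem huC)) htC)).1 h))
  have huzC : u * z ∈ C := mul_mem huC hzC
  have huzT : ∀ t ∈ T, (u * z) * t * (u * z)⁻¹ = t⁻¹ := fun t ht => by
    have : z * t * z⁻¹ = t := by
      rw [← Subgroup.mem_centralizer_singleton_iff.1 (S.trans_le (hTle ht)), mul_inv_cancel_right]
    rw [mul_inv_rev, show u * z * t * (z⁻¹ * u⁻¹) = u * (z * t * z⁻¹) * u⁻¹ by group, this]
    exact huT t ht
  have hTfix : ∀ v : B, (v = u ∨ v = u * z) → ∀ t ∈ T, Commute v t → t = 1 := by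
    intro v hv t ht hc
    have h1 : v * t * v⁻¹ = t⁻¹ := hv.elim (fun e => e ▸ huT t ht) fun e => e ▸ huzT t ht
    rw [hc.eq, mul_inv_cancel_right] at h1
    have h2 : t ^ 2 = 1 := by rw [pow_two]; exact mul_eq_one_iff_eq_inv.2 h1
    obtain ⟨i, hi⟩ := hToff t ht
    calc t = t ^ (2 * i + 1) := by rw [pow_succ, pow_mul, h2, one_pow, one_mul]
      _ = 1 := by rw [← hi, pow_orderOf_eq_one]
  -- `T` is a Sylow subgroup
  have hpg : IsPGroup p ↥T := IsPGroup.of_card (n := k) (by rw [hTcard, hgp])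
  have hpdvd : p ∣ g := hgp ▸ dvd_pow_self p (by omega)
  set M := 2 * ((2 * g - 1) * ((2 * g + 1) * (g - 1))) with hM
  have hBcard : Nat.card B = g * M := by
    rw [S.card_group, hf, hM]
    obtain ⟨g', hg'⟩ : ∃ g', g = g' + 1 := ⟨g - 1, by omega⟩
    rw [hg', show 2 * (g' + 1) - 1 = 2 * g' + 1 by omega, show g' + 1 - 1 = g' by omega,
      show (g' + 1) * (2 * g' + 1) - 1 = (2 * (g' + 1) + 1) * g' by
        have : (g' + 1) * (2 * g' + 1) = (2 * (g' + 1) + 1) * g' + 1 := by ring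
        omega]
    ring
  have hMp : (p ^ k).Coprime M := by
    have h1 : p.Coprime (2 * g - 1) := (hp.coprime_iff_not_dvd).2 fun h => by
      have := Nat.dvd_sub (hpdvd.mul_left 2) h
      rw [show 2 * g - (2 * g - 1) = 1 by omega] at this
      exact hp.one_lt.ne' (Nat.dvd_one.1 this)
    have h2 : p.Coprime (2 * g + 1) := (hp.coprime_iff_not_dvd).2 fun h => by
      have := Nat.dvd_sub h (hpdvd.mul_left 2)
      rw [show 2 * g + 1 - 2 * g = 1 by omega] at this
      exact hp.one_lt.ne' (Nat.dvd_one.1 this)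
    have h3 : p.Coprime (g - 1) := (hp.coprime_iff_not_dvd).2 fun h => by
      have := Nat.dvd_sub hpdvd h
      rw [show g - (g - 1) = 1 by omega] at this
      exact hp.one_lt.ne' (Nat.dvd_one.1 this)
    exact Nat.Coprime.pow_left k (((Nat.coprime_primes hp Nat.prime_two).2 hp2).mul_right
      (h1.mul_right (h2.mul_right h3)))
  have hTmax : ∀ Q : Subgroup B, IsPGroup p ↥Q → T ≤ Q → Q = T := fun Q hQ hle => by
    obtain ⟨m, hm⟩ := IsPGroup.iff_card.1 hQ
    refine (Subgroup.eq_of_le_of_card_ge hle (Nat.le_of_dvd Nat.card_pos ?_)).symm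
    rw [hTcard, hgp, hm]
    have h := Q.card_subgroup_dvd_card
    rw [hBcard, hgp, hm] at h
    exact Nat.Coprime.dvd_of_dvd_mul_right
      (Nat.Coprime.pow_left m (Nat.Coprime.coprime_dvd_left (dvd_pow_self p (by omega)) hMp)) h
  -- the centraliser of `T`
  set R := Subgroup.centralizer (T : Set B) with hRdef
  have hzR : z ∈ R := Subgroup.mem_centralizer_iff.2 fun t ht =>
    Subgroup.mem_centralizer_singleton_iff.1 (S.trans_le (hTle ht))
  obtain ⟨t₁, ht₁, ht₁1⟩ := hne_one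
  have hRC : ∀ c ∈ R, c ∈ C → c ∈ S.trans := fun c hcR hc =>
    S.mem_trans_of_commute hc (hTle ht₁) ht₁1 (fun e => hzT (e ▸ ht₁))
      ((Subgroup.mem_centralizer_iff.1 hcR t₁ ht₁).symm)
  have htwoel : ∀ x ∈ S.trans, (∃ i, orderOf x = 2 ^ i) → x = 1 ∨ x = z := by
    rintro x hx ⟨i, hi⟩
    have hxC := S.trans_le hx
    rw [← S.rangeRestrict_eq_one_iff hxC]
    set x' : ↥S.fixKernel := ⟨_, (S.mem_trans hxC).1 hx⟩ with hx'
    have h1 : orderOf x' ∣ g := by rw [hgdef, ← S.card_fixKernel]; exact orderOf_dvd_natCard _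
    have h2 : orderOf x' ∣ 2 ^ i := by
      rw [← hi]
      refine orderOf_dvd_of_pow_eq_one (Subtype.ext ?_)
      show S.fixHom.rangeRestrict ⟨x, hxC⟩ ^ orderOf x = 1
      rw [← map_pow, ← map_one S.fixHom.rangeRestrict]
      exact congrArg _ (Subtype.ext (pow_orderOf_eq_one x))
    have h0 : orderOf x' = 1 :=
      Nat.eq_one_of_dvd_coprimes ((Nat.Coprime.pow_right i ((Nat.coprime_two_right).2 hodd))) h1 h2
    exact congrArg Subtype.val (orderOf_eq_one_iff.1 h0)
  have hzo : orderOf z = 2 := orderOf_eq_prime (by rw [pow_two, S.sq]) S.ne_one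
  obtain ⟨P₂, hP₂⟩ := IsPGroup.exists_le_sylow (p := 2) (G := ↥R)
    (P := Subgroup.zpowers ⟨z, hzR⟩) (IsPGroup.of_card (n := 1) (by
      rw [Nat.card_zpowers, Subgroup.orderOf_mk, hzo, pow_one]))
  have hP₂eq : (P₂ : Subgroup ↥R) = Subgroup.zpowers ⟨z, hzR⟩ := by
    by_contra hne
    have hlt : Subgroup.zpowers (⟨z, hzR⟩ : ↥R) < P₂ := lt_of_le_of_ne hP₂ (Ne.symm hne)
    obtain ⟨y, hy, hyn⟩ := SetLike.exists_of_lt
      (CfsgLib.Small.lt_inf_normalizer_of_pGroup (p := 2) P₂.2 hlt)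
    obtain ⟨hy2, hyN⟩ := Subgroup.mem_inf.1 hy
    have hyC : (y : B) ∈ C := by
      have h1 := (Subgroup.mem_normalizer_iff.1 hyN (⟨z, hzR⟩ : ↥R)).1 (Subgroup.mem_zpowers _)
      obtain ⟨i, hi⟩ := Subgroup.mem_zpowers_iff.1 h1
      have hi' : z ^ i = (y : B) * z * (y : B)⁻¹ := by simpa using congrArg Subtype.val hi
      rcases Int.even_or_odd' i with ⟨j, rfl | rfl⟩
      · rw [zpow_mul, zpow_two, S.sq, one_zpow] at hi'
        exact absurd (conj_eq_one_iff.1 hi'.symm) S.ne_one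
      · rw [zpow_add, zpow_mul, zpow_two, S.sq, one_zpow, one_mul, zpow_one] at hi'
        exact Subgroup.mem_centralizer_singleton_iff.2 (mul_inv_eq_iff_eq_mul.1 hi'.symm)
    obtain ⟨i, hi⟩ := IsPGroup.iff_orderOf.1 P₂.2 ⟨y, hy2⟩
    rw [Subgroup.orderOf_mk, ← Subgroup.orderOf_coe] at hi
    rcases htwoel _ (hRC _ y.2 hyC) ⟨i, hi⟩ with e | e
    · exact hyn ((Subtype.ext e : y = 1) ▸ one_mem _)
    · exact hyn ((Subtype.ext e : y = ⟨z, hzR⟩) ▸ Subgroup.mem_zpowers _)
  have hR2 : 2 ∣ Nat.card ↥R := by rw [← hzo, ← Subgroup.orderOf_mk z hzR]; exact orderOf_dvd_natCard _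
  have hcyc : IsCyclic ↥(P₂ : Subgroup ↥R) := by rw [hP₂eq]; infer_instance
  have hNC := hcyc.normalizer_le_centralizer ((Nat.minFac_eq_two_iff _).2 hR2)
  have hcomp := MonoidHom.ker_transferSylow_isComplement' P₂ hNC
  set K0 := (MonoidHom.transferSylow P₂ hNC).ker with hK0def
  have hK0idx : K0.index = 2 := by
    rw [hcomp.symm.index_eq_card, hP₂eq, Nat.card_zpowers, Subgroup.orderOf_mk, hzo]
  have hK0odd : Odd (Nat.card ↥K0) := by
    rw [Nat.odd_iff, ← Nat.two_dvd_ne_zero]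
    exact MonoidHom.not_dvd_card_ker_transferSylow P₂ hNC
  set R0 := K0.map R.subtype with hR0def
  have hR0iff : ∀ x : B, x ∈ R0 ↔ x ∈ R ∧ Odd (orderOf x) := by
    intro x
    constructor
    · rintro ⟨y, hy, rfl⟩
      refine ⟨y.2, hK0odd.of_dvd_nat ?_⟩
      show orderOf (y : B) ∣ _
      rw [Subgroup.orderOf_coe, ← Subgroup.orderOf_mk y hy]
      exact orderOf_dvd_natCard _
    · rintro ⟨hxR, j, hj⟩
      refine ⟨⟨x, hxR⟩, ?_, rfl⟩
      have h2 : (⟨x, hxR⟩ : ↥R) = ((⟨x, hxR⟩ : ↥R) ^ 2) ^ (j + 1) := Subtype.ext (by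
        show x = (x ^ 2) ^ (j + 1)
        rw [← pow_mul, show 2 * (j + 1) = orderOf x + 1 by omega, pow_succ, pow_orderOf_eq_one, one_mul])
      rw [h2]
      exact pow_mem (Subgroup.sq_mem_of_index_two hK0idx _) _
  have hR0odd : Odd (Nat.card ↥R0) := by
    rw [hR0def, Subgroup.card_map_of_injective R.subtype_injective]; exact hK0odd
  have hnormR : ∀ c ∈ C, c ∈ Subgroup.normalizer (R0 : Set B) := by
    have hone : ∀ c ∈ C, ∀ x ∈ R0, c * x * c⁻¹ ∈ R0 := fun c hc x hx => by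
      obtain ⟨hxR, hxo⟩ := (hR0iff x).1 hx
      refine (hR0iff _).2 ⟨Subgroup.mem_centralizer_iff.2 fun t ht => ?_, ?_⟩
      · have h1 := Subgroup.mem_centralizer_iff.1 hxR _ (hTC c⁻¹ (inv_mem hc) t ht)
        rw [inv_inv] at h1
        calc t * (c * x * c⁻¹) = c * ((c⁻¹ * t * c) * x) * c⁻¹ := by group
          _ = c * (x * (c⁻¹ * t * c)) * c⁻¹ := by rw [h1]
          _ = c * x * c⁻¹ * t := by group
      · rwa [← orderOf_injective (MulAut.conj c).toMonoidHom (MulAut.conj c).injective x] at hxo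
    intro c hc
    refine Subgroup.mem_normalizer_iff.2 fun x => ⟨hone c hc x, fun hx => ?_⟩
    have := hone c⁻¹ (inv_mem hc) _ hx
    rwa [show c⁻¹ * (c * x * c⁻¹) * c⁻¹⁻¹ = x by group] at this
  -- centralisers in the odd part
  have hCz : R0 ⊓ Subgroup.centralizer ({z} : Set B) ≤ T := fun x hx =>
    hTmem x (hRC x ((hR0iff x).1 hx.1).1 hx.2) ((hR0iff x).1 hx.1).2
  have hCv : ∀ v : B, (v = u ∨ v = u * z) → IsConj z v → R0 ⊓ Subgroup.centralizer ({v} : Set B) ≤ T := by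
    intro v hv hzv y hy
    obtain ⟨hy0, hyv⟩ := Subgroup.mem_inf.1 hy
    have hvC : v ∈ C := hv.elim (fun e => e ▸ huC) fun e => e ▸ huzC
    have hvne : v ≠ z := by
      intro e
      have hva : v • a = b := hv.elim (fun e' => e' ▸ hu1) fun e' => e' ▸ (S.swap_mul hu1 hu2).1
      rw [e, S.za] at hva
      exact S.hab hva
    have hyv' : y * v = v * y := Subgroup.mem_centralizer_singleton_iff.1 hyv
    have hzv' : z * v = v * z := (Subgroup.mem_centralizer_singleton_iff.1 hvC).symm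
    have hy'0 : z * y * z⁻¹ * y⁻¹ ∈ R0 :=
      mul_mem ((Subgroup.mem_normalizer_iff.1 (hnormR z hzC) y).1 hy0) (inv_mem hy0)
    obtain ⟨c, rfl⟩ := isConj_iff.1 hzv
    -- transport to the fixed set of `z`
    set y₁ := c⁻¹ * y * c with hy₁
    set z₁ := c⁻¹ * z * c with hz₁
    have hy₁C : y₁ ∈ C := Subgroup.mem_centralizer_singleton_iff.2 (by
      calc y₁ * z = c⁻¹ * (y * (c * z * c⁻¹)) * c := by rw [hy₁]; group
        _ = c⁻¹ * ((c * z * c⁻¹) * y) * c := by rw [hyv']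
        _ = z * y₁ := by rw [hy₁]; group)
    have hz₁C : z₁ ∈ C := Subgroup.mem_centralizer_singleton_iff.2 (by
      calc z₁ * z = c⁻¹ * (z * (c * z * c⁻¹)) * c := by rw [hz₁]; group
        _ = c⁻¹ * ((c * z * c⁻¹) * z) * c := by rw [hzv']
        _ = z * z₁ := by rw [hz₁]; group)
    have hz₁sq : z₁ * z₁ = 1 := by
      calc z₁ * z₁ = c⁻¹ * (z * z) * c := by rw [hz₁]; group
        _ = 1 := by rw [S.sq]; group
    have hz₁1 : z₁ ≠ 1 := fun e => S.ne_one (by
      calc z = c * z₁ * c⁻¹ := by rw [hz₁]; group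
        _ = 1 := by rw [e]; group)
    have hz₁z : z₁ ≠ z := fun e => hvne (by
      calc c * z * c⁻¹ = c * z₁ * c⁻¹ := by rw [e]
        _ = z := by rw [hz₁]; group)
    set z₂ := y₁ * z₁ * y₁⁻¹ with hz₂
    have hz₂C : z₂ ∈ C := mul_mem (mul_mem hy₁C hz₁C) (inv_mem hy₁C)
    have hz₂sq : z₂ * z₂ = 1 := by
      calc z₂ * z₂ = y₁ * (z₁ * z₁) * y₁⁻¹ := by rw [hz₂]; group
        _ = 1 := by rw [hz₁sq]; group
    have hy₂ : z₁ * z₂ ∈ S.trans := S.mul_mem_trans hz₁C hz₂C hz₁sq hz₂sq hz₁1 hz₁z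
      (fun e => hz₁1 (conj_eq_one_iff.1 e))
      (fun e => hz₁z (by
        calc z₁ = y₁⁻¹ * z₂ * y₁ := by rw [hz₂]; group
          _ = y₁⁻¹ * (z * y₁) := by rw [e, mul_assoc]
          _ = y₁⁻¹ * (y₁ * z) := by rw [Subgroup.mem_centralizer_singleton_iff.1 hy₁C]
          _ = z := by group))
    have hzinv : z⁻¹ = z := S.inv_eq
    have heq : z₁ * z₂ = c⁻¹ * (z * y * z⁻¹ * y⁻¹) * c := by
      rw [hz₂, hy₁, hz₁, hzinv]; group
    have hord : orderOf (z₁ * z₂) = orderOf (z * y * z⁻¹ * y⁻¹) := by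
      rw [heq, ← orderOf_injective (MulAut.conj c⁻¹).toMonoidHom (MulAut.conj c⁻¹).injective
        (z * y * z⁻¹ * y⁻¹)]
      simp
    have hy₂T : z₁ * z₂ ∈ T := hTmem _ hy₂ (hord ▸ ((hR0iff _).1 hy'0).2)
    have hpow : orderOf (z * y * z⁻¹ * y⁻¹) ∣ p ^ k := by
      rw [← hord, ← hgp, ← hTcard, ← Subgroup.orderOf_mk _ hy₂T]
      exact orderOf_dvd_natCard _
    -- hence in `T`
    have hy'T : z * y * z⁻¹ * y⁻¹ ∈ T := by
      set Q := Subgroup.zpowers (z * y * z⁻¹ * y⁻¹) with hQ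
      have hQp : IsPGroup p ↥Q := by
        obtain ⟨j, -, hj⟩ := (Nat.dvd_prime_pow hp).1 hpow
        exact IsPGroup.of_card (n := j) (by rw [Nat.card_zpowers, hj])
      have hQn : Q ≤ Subgroup.normalizer (T : Set B) :=
        Subgroup.zpowers_le.2 (Subgroup.mem_normalizer_iff.2 fun t => by
          have hc' := Subgroup.mem_centralizer_iff.1 ((hR0iff _).1 hy'0).1
          constructor
          · intro ht
            rw [← hc' t ht, mul_inv_cancel_right]; exact ht
          · intro ht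
            have h1 := hc' _ ht
            rw [inv_mul_cancel_right] at h1
            rwa [← mul_left_cancel h1] at ht)
      have hsup : IsPGroup p ↥(Q ⊔ T) := hQp.to_sup_of_normal_right' hpg hQn
      rw [← hTmax _ hsup le_sup_right]
      exact Subgroup.mem_sup_left (Subgroup.mem_zpowers _)
    have hone : z * y * z⁻¹ * y⁻¹ = 1 := hTfix _ hv _ hy'T (by
      have e1 : Commute (c * z * c⁻¹) z := hzv'.symm
      have e2 : Commute (c * z * c⁻¹) y := hyv'.symm
      exact ((e1.mul_right e2).mul_right e1.inv_right).mul_right e2.inv_right)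
    exact hCz ⟨hy0, Subgroup.mem_centralizer_singleton_iff.2
      (mul_inv_eq_iff_eq_mul.1 (mul_inv_eq_one.1 hone)).symm⟩
  have hR0T : R0 ≤ T := by
    refine le_of_four S.sq (S.sq_of_isConj hu) (S.swap_commute hu1 hu2).symm S.ne_one
      (S.ne_one_of_isConj hu) (fun e => S.hab (by rw [← e, S.za] at hu1; exact hu1)) hR0odd
      (hnormR z hzC) (hnormR u huC) hCz (hCv u (Or.inl rfl) hu) ?_
    rw [(S.swap_commute hu1 hu2).symm.eq]
    exact hCv _ (Or.inr rfl) huz
  -- the normaliser of `T` is the centraliser of `z`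
  have hinvR : ∀ x ∈ R, x * x = 1 → x = 1 ∨ x = z := fun x hx hx2 => by
    have hmem : x ∈ C := by
      have h := Subgroup.mul_mem_iff_of_index_two hK0idx (a := (⟨x, hx⟩ : ↥R)) (b := ⟨z, hzR⟩)
      by_cases hxK : (⟨x, hx⟩ : ↥R) ∈ K0
      · exact S.trans_le (hTle (hR0T ⟨_, hxK, rfl⟩))
      · have hzK : (⟨z, hzR⟩ : ↥R) ∉ K0 := fun hh => hzT (hR0T ⟨_, hh, rfl⟩)
        have hxz : x * z ∈ C := S.trans_le (hTle (hR0T ⟨_, h.2 (iff_of_false hxK hzK), rfl⟩))
        have := mul_mem hxz (inv_mem hzC)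
        rwa [mul_inv_cancel_right] at this
    have hxt := hRC x hx hmem
    by_cases hx1 : x = 1
    · exact Or.inl hx1
    exact htwoel x hxt ⟨1, by rw [orderOf_eq_prime (by rw [pow_two, hx2]) hx1, pow_one]⟩
  have hN : Subgroup.normalizer (T : Set B) = C := by
    refine le_antisymm (fun c hc => ?_) fun c hc => Subgroup.mem_normalizer_iff.2 fun t =>
      ⟨hTC c hc t, fun ht => ?_⟩
    · have hmem : c * z * c⁻¹ ∈ R := Subgroup.mem_centralizer_iff.2 fun t ht => by
        have ht' : c⁻¹ * t * c ∈ T := (Subgroup.mem_normalizer_iff''.1 hc t).1 ht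
        calc t * (c * z * c⁻¹) = c * ((c⁻¹ * t * c) * z) * c⁻¹ := by group
          _ = c * (z * (c⁻¹ * t * c)) * c⁻¹ := by rw [Subgroup.mem_centralizer_iff.1 hzR _ ht']
          _ = c * z * c⁻¹ * t := by group
      rcases hinvR _ hmem (S.sq_of_isConj (isConj_iff.2 ⟨c, rfl⟩)) with e | e
      · exact absurd (conj_eq_one_iff.1 e) S.ne_one
      · exact Subgroup.mem_centralizer_singleton_iff.2 (mul_inv_eq_iff_eq_mul.1 e)
    · have := hTC c⁻¹ (inv_mem hc) _ ht
      rwa [show c⁻¹ * (c * t * c⁻¹) * c⁻¹⁻¹ = t by group] at this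
  -- Sylow's congruence
  obtain ⟨Psy, hPsy⟩ := hpg.exists_le_sylow
  have hPT : (Psy : Subgroup B) = T := hTmax _ Psy.2 hPsy
  have hn := card_sylow_modEq_one p B
  rw [Sylow.card_eq_index_normalizer Psy, show (Psy : Set B) = (T : Set B) by rw [← hPT]; rfl, hN] at hn
  have hidxC : C.index = (2 * g - 1) * (2 * g + 1) := by
    have h := C.card_mul_index
    rw [hCdef, S.card_centralizer, ← hgdef, hBcard, hM] at h
    rw [hCdef]
    refine Nat.eq_of_mul_eq_mul_left (show 0 < 2 * (g * (g - 1)) by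
      have : 0 < g - 1 := by omega
      positivity) (h.trans (by ring))
  rw [hidxC] at hn
  have h1 : (2 * g - 1) * (2 * g + 1) + 1 = 4 * g ^ 2 := by
    obtain ⟨g', hg'⟩ : ∃ g', g = g' + 1 := ⟨g - 1, by omega⟩
    rw [hg', show 2 * (g' + 1) - 1 = 2 * g' + 1 by omega]
    ring
  have h2 : 4 * g ^ 2 ≡ 0 [MOD p] :=
    Nat.modEq_zero_iff_dvd.2 ((dvd_pow hpdvd two_ne_zero).mul_left 4)
  have h3 : (1 + 1 : ℕ) ≡ 0 [MOD p] := ((hn.add_right 1).symm.trans (h1 ▸ Nat.ModEq.refl _)).trans h2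
  exact hp2 ((Nat.prime_dvd_prime_iff_eq hp Nat.prime_two).1 (Nat.modEq_zero_iff_dvd.1 h3))

end SmallStab

end CfsgLib.TwoTransAFive
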