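import Cfsg.Agent.TwoTransAFive.SmallStabTrans
import Cfsg.Agent.AbelSolvCent.Semilinear

/-!
# Two-point stabiliser of order two, one class of involutions, even degree: at most four fixed points

The translations over the fixed set of `z` form an elementary abelian Sylow 2-subgroup whose normaliser is
of odd order modulo it and transitive on its involutions; semilinearity bounds the rank.
-/

set_option autoImplicit false

namespace CfsgLib.TwoTransAFive

open MulAction CfsgLib.Perm.SharplyTwo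

variable {B : Type*} [Group B] {α : Type*} [MulAction B α] [Finite B] [Finite α] {z : B} {a b : α}

namespace SmallStab

/-- **One class of involutions and `g = 2 ^ k`: then `g ≤ 4`.** -/
theorem fix_le_four_of_both_even (S : SmallStab z a b) {u : B} (hu1 : u • a = b) (hu2 : u • b = a)
    (hu : IsConj z u) (huz : IsConj z (u * z))
    (hf : Nat.card α = (fixedBy α z).ncard * (2 * (fixedBy α z).ncard - 1))
    (heven : Even (fixedBy α z).ncard) : (fixedBy α z).ncard ≤ 4 := by
  classical
  haveI := S.fix_nontrivial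
  obtain ⟨p, k, hp, hk, hgp⟩ := S.exists_prime_pow
  set g := (fixedBy α z).ncard with hgdef
  obtain rfl : p = 2 := by
    rw [hgp] at heven
    exact ((Nat.prime_dvd_prime_iff_eq Nat.prime_two hp).1
      (Nat.prime_two.dvd_of_dvd_pow (even_iff_two_dvd.1 heven))).symm
  by_contra hcon
  have hk3 : 3 ≤ k := by
    by_contra h
    have : 2 ^ k ≤ 2 ^ 2 := Nat.pow_le_pow_right (by norm_num) (by omega)
    omega
  have hg2 := S.two_le_fix
  set C := Subgroup.centralizer ({z} : Set B) with hCdef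
  have hzC : z ∈ C := Subgroup.mem_centralizer_singleton_iff.2 rfl
  set E := S.trans with hEdef
  have hEcard : Nat.card ↥E = 2 ^ (k + 1) := by rw [hEdef, S.card_trans, ← hgdef, hgp, pow_succ']
  -- every translation other than `1`, `z` is a conjugate of `z`
  have hEconj : ∀ e ∈ E, e ≠ 1 → IsConj z e := by
    intro e he he1
    by_cases hez : e = z
    · exact hez ▸ IsConj.refl z
    have heC := S.trans_le he
    set a' : ↥(fixedBy α z) := ⟨a, S.za⟩ with ha'
    set e' := S.fixHom.rangeRestrict ⟨e, heC⟩ with he'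
    have he'1 : e' ≠ 1 := fun h => ((S.rangeRestrict_eq_one_iff heC).1 h).elim he1 hez
    have hek : e' ∈ S.fixKernel := (S.mem_trans heC).1 he
    have hca : e • a ≠ a := fun h =>
      he'1 (kernel_free S.fix_two S.fix_sharp hek (a := a') (Subtype.ext h))
    have hcfix : e • a ∈ fixedBy α z := S.smul_mem_fix e heC a S.za
    obtain ⟨l, hl1, hl2⟩ := S.exists_conj (Ne.symm hca)
    have hl : l * z * l⁻¹ = z := by
      rcases S.stab (l⁻¹ * z * l) (by rw [mul_smul, mul_smul, hl1, S.za, inv_smul_eq_iff, hl1])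
          (by rw [mul_smul, mul_smul, hl2, hcfix, inv_smul_eq_iff, hl2]) with h | h
      · exact absurd (by
          calc z = l * (l⁻¹ * z * l) * l⁻¹ := by group
            _ = 1 := by rw [h]; group) S.ne_one
      · calc l * z * l⁻¹ = l * (l⁻¹ * z * l) * l⁻¹ := by rw [h]
          _ = z := by group
    have hlC : l ∈ C := Subgroup.mem_centralizer_singleton_iff.2 (mul_inv_eq_iff_eq_mul.1 hl)
    have hla : l⁻¹ • a = a := inv_smul_eq_iff.2 hl1.symm
    set y := l * u * l⁻¹ with hy
    have hyconj : IsConj z y := hu.trans (isConj_iff.2 ⟨l, rfl⟩)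
    have hyzconj : IsConj z (y * z) := huz.trans (isConj_iff.2 ⟨l, by
      calc l * (u * z) * l⁻¹ = l * u * l⁻¹ * (l * z * l⁻¹) := by group
        _ = y * z := by rw [hl]⟩)
    have huC : u ∈ C := Subgroup.mem_centralizer_singleton_iff.2 (S.swap_commute hu1 hu2).eq
    have hyC : y ∈ C := mul_mem (mul_mem hlC huC) (inv_mem hlC)
    have hya : y • a = e • a := by rw [hy, mul_smul, mul_smul, hla, hu1, hl2]
    set y' := S.fixHom.rangeRestrict ⟨y, hyC⟩ with hy'
    have hy'sq : y' * y' = 1 := by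
      rw [hy', ← map_mul, ← map_one S.fixHom.rangeRestrict]
      exact congrArg _ (Subtype.ext (S.sq_of_isConj hyconj))
    have hy'1 : y' ≠ 1 := fun h => by
      rcases (S.rangeRestrict_eq_one_iff hyC).1 h with h | h
      · exact S.ne_one_of_isConj hyconj h
      · rw [h, S.za] at hya; exact hca hya.symm
    have hyk : y' ∈ S.fixKernel := Or.inr fun c hc => by
      have hsub : ∀ d ∈ fixedBy ↥(fixedBy α z) y', d = c := fun d hd => by
        by_contra hne
        exact hy'1 (S.fix_sharp y' d c hne hd hc)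
      have h := modEq_fixedBy (α := ↥(fixedBy α z)) hy'sq
      rw [show fixedBy ↥(fixedBy α z) y' = {c} from Set.eq_singleton_iff_unique_mem.2 ⟨hc, hsub⟩,
        Set.ncard_singleton, Nat.card_coe_set_eq, ← hgdef] at h
      obtain ⟨i, hi⟩ := heven
      have h' : g % 2 = 1 % 2 := h
      omega
    have heq : y'⁻¹ * e' = 1 :=
      kernel_free S.fix_two S.fix_sharp (mul_mem (inv_mem hyk) hek) (a := a') (by
        rw [mul_smul, inv_smul_eq_iff]
        exact Subtype.ext hya.symm)
    rw [hy', he', ← map_inv, ← map_mul] at heq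
    rcases (S.rangeRestrict_eq_one_iff (mul_mem (inv_mem hyC) heC)).1 heq with h | h
    · rwa [← inv_mul_eq_one.1 h]
    · rwa [inv_mul_eq_iff_eq_mul.1 h]
  have hEsq : ∀ e ∈ E, e * e = 1 := fun e he => by
    by_cases he1 : e = 1
    · rw [he1, one_mul]
    · exact S.sq_of_isConj (hEconj e he he1)
  have hEcomm : ∀ x ∈ E, ∀ y ∈ E, x * y = y * x := fun x hx y hy => by
    have h := hEsq _ (mul_mem hx hy)
    rw [← inv_eq_of_mul_eq_one_right h, mul_inv_rev, inv_eq_of_mul_eq_one_right (hEsq x hx),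
      inv_eq_of_mul_eq_one_right (hEsq y hy)]
  have hzE : z ∈ E := S.z_mem_trans
  -- `E` is its own centraliser
  obtain ⟨t, ht, ht1, htz⟩ : ∃ t ∈ E, t ≠ 1 ∧ t ≠ z := by
    by_contra hno
    push Not at hno
    have hsub : (E : Set B) ⊆ {1, z} := fun x hx => by
      by_cases h : x = 1
      · exact Or.inl h
      · exact Or.inr (hno x hx h)
    have h := Set.ncard_le_ncard hsub (Set.toFinite _)
    rw [← Nat.card_coe_set_eq, SetLike.coe_sort_coe, hEcard] at h
    have h2 : ({1, z} : Set B).ncard ≤ 2 := (Set.ncard_insert_le _ _).trans (by rw [Set.ncard_singleton])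
    have : 2 ^ 3 ≤ 2 ^ (k + 1) := Nat.pow_le_pow_right (by norm_num) (by omega)
    omega
  have hCE : Subgroup.centralizer (E : Set B) = E := by
    refine le_antisymm (fun c hc => ?_) fun c hc =>
      Subgroup.mem_centralizer_iff.2 fun e he => hEcomm e he c hc
    exact S.mem_trans_of_commute
      (Subgroup.mem_centralizer_singleton_iff.2 (Subgroup.mem_centralizer_iff.1 hc z hzE).symm)
      ht ht1 htz (Subgroup.mem_centralizer_iff.1 hc t ht).symm
  -- `E` is a Sylow 2-subgroup
  set M := (2 * g - 1) * ((2 * g + 1) * (g - 1)) with hMdef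
  have hgeven : g % 2 = 0 := Nat.even_iff.1 heven
  have hModd : Odd M := by
    rw [hMdef]
    exact (Nat.odd_iff.2 (by omega)).mul ((Nat.odd_iff.2 (by omega)).mul (Nat.odd_iff.2 (by omega)))
  have hBcard : Nat.card B = 2 ^ (k + 1) * M := by
    rw [S.card_group, hf, pow_succ', ← hgp, hMdef]
    obtain ⟨g', hg'⟩ : ∃ g', g = g' + 1 := ⟨g - 1, by omega⟩
    rw [hg', show 2 * (g' + 1) - 1 = 2 * g' + 1 by omega, show g' + 1 - 1 = g' by omega,
      show (g' + 1) * (2 * g' + 1) - 1 = (2 * (g' + 1) + 1) * g' by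
        have : (g' + 1) * (2 * g' + 1) = (2 * (g' + 1) + 1) * g' + 1 := by ring
        omega]
    ring
  haveI := Fact.mk Nat.prime_two
  have hE2 : IsPGroup 2 ↥E := IsPGroup.of_card hEcard
  obtain ⟨P, hP⟩ := hE2.exists_le_sylow
  have hPE : (P : Subgroup B) = E := by
    refine (Subgroup.eq_of_le_of_card_ge hP (Nat.le_of_dvd Nat.card_pos ?_)).symm
    obtain ⟨m, hm⟩ := IsPGroup.iff_card.1 P.2
    have h := (P : Subgroup B).card_subgroup_dvd_card
    rw [hBcard] at h
    rw [hEcard]
    refine Nat.Coprime.dvd_of_dvd_mul_right ?_ h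
    rw [hm]
    exact Nat.Coprime.pow_left m (Nat.coprime_two_left.2 hModd)
  -- the normaliser on `E`
  have hnormC : C ≤ Subgroup.normalizer (E : Set B) := fun c hc =>
    Subgroup.mem_normalizer_iff.2 fun x => ⟨fun hx => S.conj_mem_trans hc hx, fun hx => by
      have := S.conj_mem_trans (inv_mem hc) hx
      rwa [show c⁻¹ * (c * x * c⁻¹) * c⁻¹⁻¹ = x by group] at this⟩
  set φ := E.normalizerMonoidHom with hφ
  set X := φ.range with hX
  have hker : φ.ker = E.subgroupOf (Subgroup.normalizer (E : Set B)) := by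
    rw [hφ, Subgroup.normalizerMonoidHom_ker, hCE]
  have hkercard : Nat.card ↥φ.ker = 2 ^ (k + 1) := by
    rw [hker, Nat.card_congr (Subgroup.subgroupOfEquivOfLe Subgroup.le_normalizer).toEquiv, hEcard]
  have hXN : Nat.card ↥X * 2 ^ (k + 1) = Nat.card ↥(Subgroup.normalizer (E : Set B)) := by
    rw [hX, ← Subgroup.index_ker, mul_comm, ← hkercard, Subgroup.card_mul_index]
  have hXodd : Odd (Nat.card ↥X) := hModd.of_dvd_nat (by
    have h := (Subgroup.normalizer (E : Set B)).card_subgroup_dvd_card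
    rw [hBcard, ← hXN, mul_comm] at h
    exact Nat.dvd_of_mul_dvd_mul_left (by positivity) h)
  -- transitivity
  have hfus : ∀ (e : B) (he : e ∈ E), e ≠ 1 → ∃ x : ↥X, (x : MulAut ↥E) ⟨z, hzE⟩ = ⟨e, he⟩ := by
    intro e he he1
    obtain ⟨c, hc⟩ := isConj_iff.1 (hEconj e he he1)
    have hcc : c⁻¹⁻¹ * z * c⁻¹ = e := by rw [inv_inv]; exact hc
    have hcent : ∀ x ∈ E, x ∈ Subgroup.centralizer ((P : Subgroup B) : Set B) := fun x hx => by
      rw [hPE, hCE]; exact hx
    obtain ⟨n, hn, hne⟩ := P.conj_eq_normalizer_conj_of_mem_centralizer z c⁻¹ (hcent z hzE)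
      (by rw [hcc]; exact hcent e he)
    have hn' : n ∈ Subgroup.normalizer (E : Set B) := by
      rw [← hPE]; exact hn
    refine ⟨⟨φ ⟨n⁻¹, inv_mem hn'⟩, _, rfl⟩, Subtype.ext ?_⟩
    show n⁻¹ * z * n⁻¹⁻¹ = e
    rw [inv_inv, ← hne, hcc]
  have htrans : ∀ v w : ↥E, v ≠ 1 → w ≠ 1 → ∃ x : ↥X, X.subtype x v = w := by
    intro v w hv hw
    obtain ⟨x, hx⟩ := hfus v v.2 (fun h => hv (Subtype.ext h))
    obtain ⟨y, hy⟩ := hfus w w.2 (fun h => hw (Subtype.ext h))
    refine ⟨y * x⁻¹, ?_⟩
    show (y : MulAut ↥E) ((x : MulAut ↥E)⁻¹ v) = w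
    rw [show (v : ↥E) = (x : MulAut ↥E) ⟨z, hzE⟩ from hx.symm, MulAut.inv_apply_self]
    exact hy
  obtain ⟨r, hr⟩ := CfsgLib.AbelSolvCent.exists_goodPrime (show 3 ≤ k + 1 by omega)
  have F := CfsgLib.AbelSolvCent.facts (show 3 ≤ k + 1 by omega) hr hXodd
    (fun v : ↥E => Subtype.ext (hEsq v v.2)) hEcard X.subtype X.subtype_injective htrans
  -- the order of `X`
  have hdiv : (2 * g - 1) * (g - 1) ∣ Nat.card ↥X := by
    let _ : MulAction ↥X ↥E :=
      { smul := fun x v => (x : MulAut ↥E) v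
        one_smul := fun _ => rfl
        mul_smul := fun _ _ _ => rfl }
    have horb : orbit ↥X (⟨z, hzE⟩ : ↥E) = {v | v ≠ 1} := by
      ext v
      constructor
      · rintro ⟨x, rfl⟩ (h : (x : MulAut ↥E) ⟨z, hzE⟩ = 1)
        exact S.ne_one (congrArg Subtype.val ((map_eq_one_iff _ (x : MulAut ↥E).injective).1 h))
      · intro hv
        obtain ⟨x, hx⟩ := hfus v v.2 fun h => hv (Subtype.ext h)
        exact ⟨x, hx⟩
    have horbcard : (orbit ↥X (⟨z, hzE⟩ : ↥E)).ncard = 2 * g - 1 := by
      rw [horb, show {v : ↥E | v ≠ 1} = ({1} : Set ↥E)ᶜ from rfl, Set.ncard_compl, Set.ncard_singleton,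
        hEcard, pow_succ', ← hgp]
    have h1 := Subgroup.card_mul_index (stabilizer ↥X (⟨z, hzE⟩ : ↥E))
    rw [index_stabilizer, horbcard] at h1
    rw [← h1, mul_comm]
    refine Nat.mul_dvd_mul_right ?_ _
    set ι := φ.comp (Subgroup.inclusion hnormC) with hι
    have hle : ι.range ≤ (stabilizer ↥X (⟨z, hzE⟩ : ↥E)).map X.subtype := by
      rintro _ ⟨c, rfl⟩
      refine ⟨⟨ι c, _, rfl⟩, ?_, rfl⟩
      refine mem_stabilizer_iff.2 (Subtype.ext ?_)
      show (c : B) * z * (c : B)⁻¹ = z
      rw [Subgroup.mem_centralizer_singleton_iff.1 c.2, mul_inv_cancel_right]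
    have hιker : ι.ker = E.subgroupOf C := by
      ext c
      rw [hι, MonoidHom.mem_ker, MonoidHom.comp_apply, ← MonoidHom.mem_ker, hker]
      rfl
    have hιcard : 2 ^ (k + 1) * Nat.card ↥ι.range = 2 * (g * (g - 1)) := by
      rw [← Subgroup.index_ker, hgdef, ← S.card_centralizer, ← hCdef,
        ← ι.ker.card_mul_index]
      congr 1
      rw [hιker, Nat.card_congr (Subgroup.subgroupOfEquivOfLe S.trans_le).toEquiv, hEcard]
    have hιcard' : Nat.card ↥ι.range = g - 1 := by
      rw [pow_succ', ← hgp, ← mul_assoc] at hιcard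
      exact Nat.eq_of_mul_eq_mul_left (by omega) hιcard
    rw [← hιcard', ← Subgroup.card_map_of_injective X.subtype_injective
      (K := stabilizer ↥X (⟨z, hzE⟩ : ↥E))]
    exact Subgroup.card_dvd_of_le hle
  -- the bound
  obtain ⟨j, hj⟩ : ∃ j : ↥X, orderOf j = r := by
    haveI := Fact.mk hr.prime
    refine exists_prime_orderOf_dvd_card' r (hr.dvd.trans ?_)
    rw [pow_succ', ← hgp]
    exact (dvd_mul_right _ _).trans hdiv
  have h1 := hdiv.trans ((F.card_dvd j hj).trans (Nat.mul_dvd_mul_right (F.cent_card j hj) _))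
  rw [pow_succ', ← hgp] at h1
  have h2 := Nat.le_of_dvd (by omega) (Nat.dvd_of_mul_dvd_mul_left (by omega) h1)
  have h3 : ∀ m, 3 ≤ m → m + 2 < 2 ^ m := by
    intro m hm
    induction m, hm using Nat.le_induction with
    | base => norm_num
    | succ m _ ih => rw [pow_succ]; omega
  have := h3 k hk3
  omega

end SmallStab

end CfsgLib.TwoTransAFive
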