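import Cfsg.Agent.TwoTransAFive.SmallStab
import Cfsg.Agent.ZStar.Theorem
import Cfsg.Agent.Coprime.Action

/-!
# Two-point stabiliser of order two, one class of swappers conjugate to it, odd degree

The other class fixes one point each; its pairwise products form a regular normal subgroup.
-/

set_option autoImplicit false

namespace CfsgLib.TwoTransAFive

open MulAction

variable {B : Type*} [Group B] {α : Type*} [MulAction B α] {z : B} {a b : α}

/-- Powers of a product of two involutions are again products of two of their conjugates. -/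
theorem mul_pow_eq_mul_conj {x y : B} (hx : x * x = 1) (hy : y * y = 1) : ∀ m : ℕ,
    ∃ v : B, (IsConj x v ∨ IsConj y v) ∧ (x * y) ^ m = x * v := by
  suffices h : ∀ m : ℕ, (∃ v : B, (IsConj x v ∨ IsConj y v) ∧ (x * y) ^ m = x * v) ∧
      ∃ v : B, (IsConj x v ∨ IsConj y v) ∧ (x * y) ^ (m + 1) = x * v from fun m => (h m).1
  intro m
  induction m with
  | zero => exact ⟨⟨x, Or.inl (IsConj.refl x), by rw [pow_zero, hx]⟩,
      ⟨y, Or.inr (IsConj.refl y), by rw [zero_add, pow_one]⟩⟩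
  | succ m ih =>
    refine ⟨ih.2, ?_⟩
    obtain ⟨v, hv, he⟩ := ih.1
    have hc : IsConj v (y * x * v * (x * y)) := isConj_iff.2 ⟨y * x, by
      rw [mul_inv_rev, inv_eq_of_mul_eq_one_right hx, inv_eq_of_mul_eq_one_right hy]⟩
    refine ⟨y * x * v * (x * y), hv.imp (fun h => h.trans hc) (fun h => h.trans hc), ?_⟩
    rw [show m + 1 + 1 = 1 + m + 1 by omega, pow_succ, pow_add, pow_one, he]
    group

namespace SmallStab

variable [Finite B] [Finite α] (S : SmallStab z a b)
include S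

/-- **The regular normal subgroup.** -/
theorem exists_regular_normal {u : B} (hu1 : u • a = b) (hu2 : u • b = a) (hu : IsConj z u)
    (hw : ¬ IsConj z (u * z)) (hf : Nat.card α = (fixedBy α z).ncard ^ 2)
    (hodd : Odd (fixedBy α z).ncard) :
    ∃ (p k : ℕ) (P : Subgroup B), p.Prime ∧ p ≠ 2 ∧ 1 ≤ k ∧ (fixedBy α z).ncard = p ^ k ∧ P.Normal ∧
      Nat.card P = Nat.card α ∧ (∀ x ∈ P, ∀ y ∈ P, x * y = y * x) ∧ (∀ x ∈ P, x ^ p = 1) ∧
      ∀ c : α, ∀ x ∈ P, x • c = c → x = 1 := by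
  classical
  obtain ⟨p, k, hp, hk, hgp⟩ := S.exists_prime_pow
  haveI := Fact.mk hp
  have hp2 : p ≠ 2 := by
    rintro rfl
    rw [hgp] at hodd
    exact absurd hodd (Nat.not_odd_iff_even.2 (Nat.even_pow.2 ⟨even_two, by omega⟩))
  set f := Nat.card α with hfdef
  have hfp : f = p ^ (2 * k) := by rw [hf, hgp, ← pow_mul, mul_comm]
  have hfodd : Odd f := hf ▸ hodd.pow
  have hf3 : 3 ≤ f := by
    rw [hfp]
    have h1 : 3 ≤ p := by have := hp.two_le; omega
    exact h1.trans (le_self_pow₀ (by omega) (by omega))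
  set w := u * z with hwdef
  obtain ⟨hw1, hw2⟩ := S.swap_mul hu1 hu2
  haveI : Nonempty α := ⟨a⟩
  replace hw1 : w • a = b := hw1
  replace hw2 : w • b = a := hw2
  have hwsq : w * w = 1 := by
    have hc := S.swap_commute hu1 hu2
    calc w * w = u * (z * u) * z := by rw [hwdef]; group
      _ = u * (u * z) * z := by rw [hc.eq]
      _ = 1 := by rw [mul_assoc, mul_assoc, S.sq, mul_one, S.sq_of_isConj hu]
  set W := {x : B | IsConj w x} with hWdef
  have hWsq : ∀ x ∈ W, x * x = 1 := fun x hx => by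
    obtain ⟨c, rfl⟩ := isConj_iff.1 hx
    calc c * w * c⁻¹ * (c * w * c⁻¹) = c * (w * w) * c⁻¹ := by group
      _ = 1 := by rw [hwsq]; group
  have hW1 : ∀ x ∈ W, x ≠ 1 := fun x hx e => S.hab (by
    have h : w = 1 := isConj_one_left.1 (e ▸ hx)
    rwa [h, one_smul] at hw1)
  have hWconj : ∀ g : B, ∀ x ∈ W, g * x * g⁻¹ ∈ W := fun g x hx => hx.trans (isConj_iff.2 ⟨g, rfl⟩)
  have hle1 : ∀ x ∈ W, ∀ c d : α, x • c = c → x • d = d → c = d := fun x hx c d hc hd => by
    by_contra hcd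
    exact hw ((S.isConj_of_fix hcd (hW1 x hx) hc hd).trans hx.symm)
  have hfix : ∀ x ∈ W, (fixedBy α x).ncard = 1 := fun x hx => by
    have h1 : (fixedBy α x).ncard ≤ 1 :=
      (Set.ncard_le_one (Set.toFinite _)).2 fun c hc d hd => hle1 x hx c d hc hd
    have h2 : f % 2 = (fixedBy α x).ncard % 2 := modEq_fixedBy (hWsq x hx)
    obtain ⟨j, hj⟩ := hfodd
    omega
  -- one member moves `a` to `b`
  have hmove : {x ∈ W | x • a = b} = {w} := by
    refine Set.eq_singleton_iff_unique_mem.2 ⟨⟨IsConj.refl w, hw1⟩, fun x ⟨hx, hxa⟩ => ?_⟩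
    have hxb : x • b = a := by rw [← hxa, ← mul_smul, hWsq x hx, one_smul]
    exact (S.swap_eq hu1 hu2 hxa hxb).resolve_left fun e => hw (hu.trans (e ▸ hx).symm)
  have hcardW : W.ncard = f := by
    obtain ⟨-, h1⟩ := count S.two hWconj hfix S.hab
    rw [hmove, Set.ncard_singleton, one_mul] at h1
    exact Nat.eq_of_mul_eq_mul_right (by omega : 0 < f - 1) h1
  -- members correspond to points
  have hpt : ∀ x ∈ W, ∃ c, x • c = c := fun x hx => by
    obtain ⟨c, hc⟩ := Set.ncard_eq_one.1 (hfix x hx)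
    exact ⟨c, (hc.symm.subset rfl : c ∈ fixedBy α x)⟩
  choose! pt hpt using hpt
  haveI := S.two
  haveI : IsPretransitive B α := isPretransitive_of_is_two_pretransitive
  have hcover : ∀ c : α, ∃ x ∈ W, x • c = c := fun c => by
    obtain ⟨g, hg⟩ := exists_smul_eq B (pt w) c
    refine ⟨g * w * g⁻¹, hWconj g w (IsConj.refl w), ?_⟩
    rw [← hg, mul_smul, mul_smul, inv_smul_smul, hpt w (IsConj.refl w)]
  have huniq : ∀ x ∈ W, ∀ y ∈ W, ∀ c : α, x • c = c → y • c = c → x = y := by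
    haveI := Fintype.ofFinite ↥W
    haveI := Fintype.ofFinite α
    have hinj : Function.Injective fun x : ↥W => pt x :=
      ((Fintype.bijective_iff_surjective_and_card (α := ↥W) _).2 ⟨fun c => by
        obtain ⟨x, hx, hxc⟩ := hcover c
        exact ⟨⟨x, hx⟩, hle1 x hx _ _ (hpt x hx) hxc⟩, by
          rw [← Nat.card_eq_fintype_card, ← Nat.card_eq_fintype_card, Nat.card_coe_set_eq, hcardW]⟩).1
    intro x hx y hy c hxc hyc
    exact congrArg Subtype.val (@hinj ⟨x, hx⟩ ⟨y, hy⟩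
      ((hle1 x hx _ _ (hpt x hx) hxc).trans (hle1 y hy _ _ (hpt y hy) hyc).symm))
  have hagree : ∀ x ∈ W, ∀ y ∈ W, ∀ c : α, x • c = y • c → x = y := by
    intro x hx y hy c he
    by_cases hxc : x • c = c
    · exact huniq x hx y hy c hxc (he ▸ hxc)
    · have h1 : {v ∈ W | v • c = x • c}.ncard = 1 := by
        rw [← ncard_pair_eq S.two hWconj (fun v c d => v • c = d)
          (fun g v c d => by rw [mul_smul, mul_smul, inv_smul_smul, smul_left_cancel_iff]) S.hab (Ne.symm hxc),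
          hmove, Set.ncard_singleton]
      exact (Set.ncard_le_one (Set.toFinite _)).1 h1.le x ⟨hx, rfl⟩ y ⟨hy, he.symm⟩
  have hfree : ∀ x ∈ W, ∀ y ∈ W, x ≠ y → ∀ c : α, (x * y) • c ≠ c := fun x hx y hy hne c hc => hne
    (hagree x hx y hy c (by
      rw [mul_smul] at hc
      conv_lhs => rw [← hc, ← mul_smul, hWsq x hx, one_smul]))
  have hord : ∀ x ∈ W, ∀ y ∈ W, ∃ j, orderOf (x * y) = p ^ j := by
    intro x hx y hy
    refine ⟨_, Nat.eq_prime_pow_of_unique_prime_dvd (orderOf_pos _).ne' fun {r} hr hrd => ?_⟩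
    obtain ⟨v, hv, he⟩ := mul_pow_eq_mul_conj (hWsq x hx) (hWsq y hy) (orderOf (x * y) / r)
    have ho : orderOf ((x * y) ^ (orderOf (x * y) / r)) = r :=
      orderOf_pow_orderOf_div (orderOf_pos _).ne' hrd
    have hvW : v ∈ W := hv.elim (fun h => hx.trans h) (fun h => hy.trans h)
    have hne : x ≠ v := by
      rintro rfl
      rw [he, hWsq x hx, orderOf_one] at ho
      exact hr.one_lt.ne ho
    have hd := dvd_of_fpf hr ho fun c => by rw [he]; exact hfree x hx v hvW hne c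
    change r ∣ f at hd
    rw [hfp] at hd
    exact (Nat.prime_dvd_prime_iff_eq hr hp).1 (hr.dvd_of_dvd_pow hd)
  -- `w` is isolated in a Sylow 2-subgroup
  have hwo : orderOf w = 2 := orderOf_eq_prime (by rw [pow_two, hwsq]) (hW1 w (IsConj.refl w))
  obtain ⟨P₂, hP₂⟩ := IsPGroup.exists_le_sylow (IsPGroup.of_card (p := 2) (n := 1)
    (by rw [Nat.card_zpowers, hwo, pow_one] : Nat.card (Subgroup.zpowers w) = 2 ^ 1))
  have hiso : ∀ g : B, g * w * g⁻¹ ∈ P₂ → g * w * g⁻¹ = w := by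
    intro g hg
    have hv : g * w * g⁻¹ ∈ W := hWconj g w (IsConj.refl w)
    obtain ⟨j, hj⟩ := hord _ hv w (IsConj.refl w)
    obtain ⟨i, hi⟩ := IsPGroup.iff_orderOf.1 P₂.2
      ⟨_, mul_mem hg (hP₂ (Subgroup.mem_zpowers w))⟩
    rw [Subgroup.orderOf_mk, hj] at hi
    have h0 : j = 0 := by
      by_contra hj0
      exact hp2 ((Nat.prime_dvd_prime_iff_eq hp Nat.prime_two).1
        (hp.dvd_of_dvd_pow (hi ▸ dvd_pow_self p hj0)))
    rw [h0, pow_zero, orderOf_eq_one_iff] at hj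
    rw [← inv_eq_of_mul_eq_one_left hj, inv_eq_of_mul_eq_one_right hwsq]
  obtain ⟨N, hN, hNodd, hNmem⟩ := CfsgLib.ZStar.exists_oddNormal_of_sylow P₂ hwo
    (hP₂ (Subgroup.mem_zpowers w)) hiso
  have hwN : ∀ v ∈ W, w * v ∈ N := fun v hv => by
    obtain ⟨g, rfl⟩ := isConj_iff.1 hv
    have := hNmem g
    rw [inv_eq_of_mul_eq_one_right hwsq] at this
    simpa [mul_assoc] using this
  -- `N` is transitive
  have hto : ∀ c : α, ∃ n : ↥N, n • pt w = c := by
    intro c
    have ho : w • pt w = pt w := hpt w (IsConj.refl w)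
    by_cases hc : c = pt w
    · exact ⟨1, by rw [one_smul, hc]⟩
    have h1 : {v ∈ W | v • pt w = c}.ncard = 1 := by
      rw [← ncard_pair_eq S.two hWconj (fun v c d => v • c = d)
        (fun g v c d => by rw [mul_smul, mul_smul, inv_smul_smul, smul_left_cancel_iff]) S.hab (Ne.symm hc),
        hmove, Set.ncard_singleton]
    obtain ⟨v, hv⟩ := Set.ncard_eq_one.1 h1
    obtain ⟨hvW, hvc⟩ : v ∈ W ∧ v • pt w = c := hv.symm.subset rfl
    refine ⟨⟨(w * v)⁻¹, inv_mem (hwN v hvW)⟩, ?_⟩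
    show (w * v)⁻¹ • pt w = c
    rw [mul_inv_rev, inv_eq_of_mul_eq_one_right hwsq, inv_eq_of_mul_eq_one_right (hWsq v hvW), mul_smul, ho,
      hvc]
  haveI : IsPretransitive ↥N α := ⟨fun c d => by
    obtain ⟨n, rfl⟩ := hto c
    obtain ⟨m, rfl⟩ := hto d
    exact ⟨m * n⁻¹, by rw [mul_smul, inv_smul_smul]⟩⟩
  have hfN : f ∣ Nat.card ↥N := by
    rw [hfdef, ← index_stabilizer_of_transitive ↥N a]
    exact Subgroup.index_dvd_card _
  -- a `w`-invariant Sylow subgroup of `N`
  have hA : Nat.card ↥(Subgroup.zpowers w) = 2 := by rw [Nat.card_zpowers, hwo]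
  obtain ⟨P₀, hP₀⟩ := Coprime.exists_invariant_sylow (A := Subgroup.zpowers w) (G := N)
    (Subgroup.le_normalizer_of_normal) (by rw [hA]; exact (Nat.coprime_two_left).2 hNodd)
    (Or.inl (Group.isSolvable_of_comm fun x y => mul_comm' x y)) p
  set P := (P₀ : Subgroup ↥N).map N.subtype with hPdef
  have hcP : Nat.card ↥P = Nat.card ↥(P₀ : Subgroup ↥N) :=
    Subgroup.card_map_of_injective N.subtype_injective
  obtain ⟨m, hm⟩ := IsPGroup.iff_card.1 P₀.2
  have hcop : ∀ i, (p ^ i).Coprime (2 * (f - 1)) := fun i => Nat.Coprime.pow_left i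
    (Nat.Coprime.mul_right ((Nat.coprime_primes hp Nat.prime_two).2 hp2)
      ((hp.coprime_iff_not_dvd).2 fun hd => by
        have h1 : p ∣ f := hfp ▸ dvd_pow_self p (by omega)
        have := Nat.dvd_sub h1 hd
        rw [show f - (f - 1) = 1 by omega] at this
        exact hp.one_lt.ne' (Nat.dvd_one.1 this)))
  have hPf : Nat.card ↥P = f := by
    refine Nat.dvd_antisymm ?_ ?_
    · have h := P.card_subgroup_dvd_card
      rw [S.card_group, ← hfdef, show 2 * (f * (f - 1)) = f * (2 * (f - 1)) by ring, hcP, hm] at h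
      rw [hcP, hm]
      exact (hcop m).dvd_of_dvd_mul_right h
    · rw [hcP, hfp]
      exact Sylow.pow_dvd_card_of_pow_dvd_card P₀ (hfp ▸ hfN)
  have hPfree : ∀ x ∈ P, ∀ c : α, x • c = c → x = 1 := fun x hx c hc => by
    have h1 : orderOf x ∣ p ^ (2 * k) := by
      rw [← hfp, ← hPf, ← Subgroup.orderOf_mk x hx]
      exact orderOf_dvd_natCard _
    have h2 : orderOf x ∣ 2 * (f - 1) := by
      have hs : Nat.card ↥(stabilizer B c) = 2 * (f - 1) := by
        have h := (stabilizer B c).card_mul_index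
        rw [index_stabilizer_of_transitive, ← hfdef, S.card_group, ← hfdef] at h
        exact Nat.eq_of_mul_eq_mul_right (by omega : 0 < f) (h.trans (by ring))
      rw [← hs, ← Subgroup.orderOf_mk x (show x ∈ stabilizer B c from hc)]
      exact orderOf_dvd_natCard _
    exact orderOf_eq_one_iff.1 (Nat.eq_one_of_dvd_coprimes (hcop (2 * k)) h1 h2)
  have hPw : ∀ x ∈ P, w * x * w⁻¹ ∈ P := fun x hx =>
    (Subgroup.mem_normalizer_iff.1 (hP₀ (Subgroup.mem_zpowers w)) x).1 hx
  -- conjugating `w` by `P`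
  let ψ : ↥P → B := fun y => (y : B)⁻¹ * w * (y : B)
  have hψW : ∀ y, ψ y ∈ W := fun y => isConj_iff.2 ⟨(y : B)⁻¹, by simp [ψ]⟩
  have hψ : Function.Injective ψ := by
    rintro ⟨x, hx⟩ ⟨y, hy⟩ he
    have he' : x⁻¹ * w * x = y⁻¹ * w * y := he
    have h1 : (y * x⁻¹) * w = w * (y * x⁻¹) := by
      calc (y * x⁻¹) * w = y * (x⁻¹ * w * x) * x⁻¹ := by group
        _ = y * (y⁻¹ * w * y) * x⁻¹ := by rw [he']
        _ = w * (y * x⁻¹) := by group
    have ho : w • pt w = pt w := hpt w (IsConj.refl w)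
    have h2 : (y * x⁻¹) • pt w = pt w := hle1 w (IsConj.refl w) _ _
      (by rw [← mul_smul, ← h1, mul_smul, ho]) ho
    exact Subtype.ext (mul_inv_eq_one.1 (hPfree _ (mul_mem hy (inv_mem hx)) _ h2)).symm
  have hψrange : Set.range ψ = W := Set.eq_of_subset_of_ncard_le (by rintro _ ⟨y, rfl⟩; exact hψW y)
    (by rw [hcardW, Set.ncard_range_of_injective hψ, hPf]) (Set.toFinite _)
  have hPeq : ∀ q : B, q ∈ P ↔ w * q ∈ W := by
    have key : ∀ v ∈ W, w * v ∈ P := fun v hv => by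
      obtain ⟨⟨y, hy⟩, rfl⟩ := hψrange.symm.subset hv
      have : w * (y⁻¹ * w * y) = (w * y⁻¹ * w⁻¹) * y := by
        rw [inv_eq_of_mul_eq_one_right hwsq]; group
      show w * (y⁻¹ * w * y) ∈ P
      rw [this]
      exact mul_mem (hPw _ (inv_mem hy)) hy
    have himg : (fun v => w * v) '' W = (P : Set B) :=
      Set.eq_of_subset_of_ncard_le (by rintro _ ⟨v, hv, rfl⟩; exact key v hv)
        (by rw [Set.ncard_image_of_injective _ (mul_right_injective w), hcardW, ← Nat.card_coe_set_eq]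
            exact hPf.le) (Set.toFinite _)
    intro q
    constructor
    · intro hq
      obtain ⟨v, hv, rfl⟩ := himg.symm.subset hq
      rwa [← mul_assoc, hwsq, one_mul]
    · intro hq
      have := key _ hq
      rwa [← mul_assoc, hwsq, one_mul] at this
  have hinv : ∀ q ∈ P, w * q * w = q⁻¹ := fun q hq => by
    have h := hWsq _ ((hPeq q).1 hq)
    exact eq_inv_of_mul_eq_one_left (by simpa [mul_assoc] using h)
  have hcomm : ∀ x ∈ P, ∀ y ∈ P, x * y = y * x := fun x hx y hy => by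
    have h1 := hinv _ (mul_mem hx hy)
    have h2 : w * (x * y) * w = (w * x * w) * (w * y * w) := by
      calc w * (x * y) * w = w * x * (w * w) * y * w := by rw [hwsq]; group
        _ = (w * x * w) * (w * y * w) := by group
    rw [h2, hinv x hx, hinv y hy] at h1
    have := congrArg (·⁻¹) h1
    simpa using this.symm
  have hnorm : P.Normal := by
    refine ⟨fun q hq g => ?_⟩
    -- every member of `W` gives the same subgroup
    obtain ⟨⟨y, hy⟩, hyv⟩ := hψrange.symm.subset (hWconj g w (IsConj.refl w))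
    have hyv' : y⁻¹ * w * y = g * w * g⁻¹ := hyv
    have h1 : g * (w * q) * g⁻¹ ∈ W := hWconj g _ ((hPeq q).1 hq)
    have h2 : y * (g * (w * q) * g⁻¹) * y⁻¹ ∈ W := hWconj y _ h1
    have h3 : g * q * g⁻¹ = y⁻¹ * (w * (y * (g * (w * q) * g⁻¹) * y⁻¹)) * y := by
      calc g * q * g⁻¹ = (g * w * g⁻¹) * (g * (w * q) * g⁻¹) := by
            rw [show g * w * g⁻¹ * (g * (w * q) * g⁻¹) = g * (w * w) * q * g⁻¹ by group, hwsq, mul_one]
        _ = _ := by rw [← hyv']; group
    rw [h3]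
    exact mul_mem (mul_mem (inv_mem hy) ((hPeq _).2 (by rwa [← mul_assoc, hwsq, one_mul]))) hy
  -- the exponent
  have hexp : ∀ x ∈ P, x ^ p = 1 := by
    obtain ⟨x₀, hx₀⟩ := exists_prime_orderOf_dvd_card' (G := ↥P) p
      (hPf ▸ hfp ▸ dvd_pow_self p (by omega))
    have hx₀1 : (x₀ : B) ≠ 1 := fun e => hp.one_lt.ne' (by rw [← hx₀, ← Subgroup.orderOf_coe, e, orderOf_one])
    intro x hx
    by_cases hx1 : x = 1
    · rw [hx1, one_pow]
    obtain ⟨g, hg1, hg2⟩ := is_two_pretransitive_iff.1 S.two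
      (show a ≠ (x₀ : B) • a from fun e => hx₀1 (hPfree _ x₀.2 a e.symm))
      (show a ≠ x • a from fun e => hx1 (hPfree x hx a e.symm))
    have heq : g * x₀ * g⁻¹ = x := by
      refine inv_mul_eq_one.1 (hPfree _ (mul_mem (inv_mem (hnorm.conj_mem _ x₀.2 g)) hx) a ?_)
      rw [mul_smul, inv_smul_eq_iff, mul_smul, mul_smul, inv_smul_eq_iff.2 hg1.symm, hg2]
    rw [← heq, conj_pow, ← hx₀, ← Subgroup.orderOf_coe, pow_orderOf_eq_one, mul_one, mul_inv_cancel]
  exact ⟨p, k, P, hp, hp2, hk, hgp, hnorm, hPf, hcomm, hexp, fun c x hx => hPfree x hx c⟩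

end SmallStab

end CfsgLib.TwoTransAFive
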