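import Cfsg.Agent.TwoTransAFive.Setting
import Cfsg.Agent.TwoTransAFive.SmallStabBoth
import Cfsg.Agent.TwoTransAFive.SmallStabEven
import Cfsg.Agent.TwoTransAFive.SmallStabOdd

/-!
# The centraliser of an involution on its fixed points, when the four-group fixes fewer
-/

set_option autoImplicit false

namespace CfsgLib.TwoTransAFive

open MulAction

variable {G : Type*} [Group G] {Ω : Type*} [MulAction G Ω] [Finite G] [Finite Ω] {a b : Ω}

/-- A regular abelian normal subgroup of odd prime power order of the centraliser of `ei`. -/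
structure RegOdd (e : ↥(stabilizer G a ⊓ stabilizer G b) ≃* AFive) (p : ℕ) (P : Subgroup G) : Prop where
  prime : p.Prime
  ne_two : p ≠ 2
  le : P ≤ Subgroup.centralizer ({ei e} : Set G)
  conj : ∀ c ∈ Subgroup.centralizer ({ei e} : Set G), ∀ x ∈ P, c * x * c⁻¹ ∈ P
  card : Nat.card ↥P = ef e
  pgroup : IsPGroup p ↥P
  odd : Odd (Nat.card ↥P)
  comm : ∀ x ∈ P, ∀ y ∈ P, x * y = y * x
  free : ∀ c ∈ fixedBy Ω (ei e), ∀ x ∈ P, x • c = c → x = 1
  trans : ∀ c ∈ fixedBy Ω (ei e), ∀ d ∈ fixedBy Ω (ei e), ∃ x ∈ P, x • c = d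

theorem Hyp.small_cases (S : Hyp (G := G) (a := a) (b := b))
    (e : ↥(stabilizer G a ⊓ stabilizer G b) ≃* AFive) (hlt : eg e < ef e) :
    ∃ u : G, u * ei e = ei e * u ∧ u • a = b ∧ u • b = a ∧ u ∈ eI e ∧ u * ei e ∈ eI e ∧
      ((ef e = eg e ^ 2 ∧ (Odd (eg e) → ∃ (p : ℕ) (P : Subgroup G), RegOdd e p P)) ∨
        (ef e = eg e * (2 * eg e - 1) ∧ u * ej e ∈ eI e ∧ u * (ei e * ej e) ∈ eI e ∧
          (Odd (eg e) → False) ∧ (Even (eg e) → eg e ≤ 4))) := by
  classical
  set C := Subgroup.centralizer ({ei e} : Set G) with hCdef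
  set F := fixedBy Ω (ei e) with hFdef
  set φ := actOn C F (S.pair_C e).maps with hφ
  have hjC : ej e ∈ C := Subgroup.mem_centralizer_singleton_iff.2 (ei_ej e).eq.symm
  have hiC : ei e ∈ C := Subgroup.mem_centralizer_singleton_iff.2 rfl
  have hjne : ¬ ∀ x ∈ F, ej e • x = x := fun h => by
    refine hlt.ne ?_
    unfold eg ef
    congr 1
    exact Set.inter_eq_left.2 h
  have hCP : C ⊓ stabilizer G a ⊓ stabilizer G b = eV e := S.C_pair_stab e
  have hker : ∀ k : ↥C, φ.rangeRestrict k = 1 ↔ ((k : G) = 1 ∨ (k : G) = ei e) := by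
    intro k
    rw [← MonoidHom.mem_ker, MonoidHom.ker_rangeRestrict, hφ, mem_ker_actOn]
    constructor
    · intro h
      have hk : (k : G) ∈ C ⊓ stabilizer G a ⊓ stabilizer G b :=
        ⟨⟨k.2, h a (ei_fix e).1⟩, h b (ei_fix e).2⟩
      replace hk := hCP.le hk
      rcases mem_four.1 hk with h' | h' | h' | h'
      · exact Or.inl h'
      · exact Or.inr h'
      · exact absurd (fun x hx => h' ▸ h x hx) hjne
      · refine absurd (fun x hx => ?_) hjne
        have h1 := h x hx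
        rw [h', mul_smul] at h1
        exact (smul_left_cancel (ei e) (h1.trans (hx : ei e • x = x).symm))
    · rintro (h | h) x hx <;> rw [h]
      exacts [one_smul _ _, hx]
  set B := φ.range with hB
  set z := φ.rangeRestrict ⟨ej e, hjC⟩ with hz
  set a' : ↥F := ⟨a, (ei_fix e).1⟩ with ha'
  set b' : ↥F := ⟨b, (ei_fix e).2⟩ with hb'
  have hS : SmallStab z a' b' := by
    refine ⟨fun c hc => Subtype.ext (Equiv.ext fun x => hc x), (S.pair_C e).two,
      fun h => S.hab (congrArg Subtype.val h), Subtype.ext (ej_fix e).1, Subtype.ext (ej_fix e).2,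
      fun h => ((hker _).1 h).elim (ej_ne_one e) (fun h' => ei_ne_ej e h'.symm), ?_⟩
    rintro ⟨_, k, rfl⟩ h1 h2
    have h1' : (k : G) • a = a := congrArg Subtype.val h1
    have h2' : (k : G) • b = b := congrArg Subtype.val h2
    have hk : (k : G) ∈ C ⊓ stabilizer G a ⊓ stabilizer G b := ⟨⟨k.2, h1'⟩, h2'⟩
    replace hk := hCP.le hk
    show φ.rangeRestrict k = 1 ∨ φ.rangeRestrict k = z
    rcases mem_four.1 hk with h' | h' | h' | h'
    · exact Or.inl ((hker k).2 (Or.inl h'))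
    · exact Or.inl ((hker k).2 (Or.inr h'))
    · exact Or.inr (by rw [hz]; exact congrArg _ (Subtype.ext h'))
    · refine Or.inr ?_
      rw [show k = ⟨ei e, hiC⟩ * ⟨ej e, hjC⟩ from Subtype.ext h', map_mul,
        (hker ⟨ei e, hiC⟩).2 (Or.inr rfl), one_mul]
  have hcard : Nat.card ↥F = ef e := Nat.card_coe_set_eq F
  have hg : (fixedBy ↥F z).ncard = eg e := by
    rw [eg, ← Set.ncard_image_of_injective (fixedBy ↥F z) Subtype.val_injective]
    congr 1
    ext x
    constructor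
    · rintro ⟨y, hy, rfl⟩
      exact ⟨y.2, congrArg Subtype.val (mem_fixedBy.1 hy)⟩
    · rintro ⟨h1, h2⟩
      exact ⟨⟨x, h1⟩, Subtype.ext h2, rfl⟩
  have hlift : ∀ (v : G) (hv : v ∈ C), IsConj z (φ.rangeRestrict ⟨v, hv⟩) →
      v ∈ eI e ∧ v * ei e ∈ eI e := by
    intro v hv hconj
    obtain ⟨⟨_, c, rfl⟩, hc⟩ := isConj_iff.1 hconj
    have hce : φ.rangeRestrict ((c * ⟨ej e, hjC⟩ * c⁻¹)⁻¹ * ⟨v, hv⟩) = 1 := by
      rw [map_mul, map_inv, inv_mul_eq_one, map_mul, map_mul, map_inv]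
      exact hc
    have hci := Subgroup.mem_centralizer_singleton_iff.1 c.2
    have hek : (c : G) * ej e * (c : G)⁻¹ * ei e = (c : G) * (ei e * ej e) * (c : G)⁻¹ := by
      calc (c : G) * ej e * (c : G)⁻¹ * ei e
          = (c : G) * ej e * (c : G)⁻¹ * ((c : G) * ei e * (c : G)⁻¹) := by
            rw [hci, mul_inv_cancel_right]
        _ = (c : G) * (ej e * ei e) * (c : G)⁻¹ := by group
        _ = _ := by rw [(ei_ej e).eq]
    have h1 := conj_mem_eI e (c : G) _ (ej_mem_eI e)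
    have h2 := conj_mem_eI e (c : G) _ (ek_mem_eI e)
    rw [← hek] at h2
    rcases (hker _).1 hce with h | h
    · have hv' : v = (c : G) * ej e * (c : G)⁻¹ := (inv_mul_eq_one.1 h).symm
      rw [hv']; exact ⟨h1, h2⟩
    · have hv' : v = (c : G) * ej e * (c : G)⁻¹ * ei e := inv_mul_eq_iff_eq_mul.1 h
      rw [hv']
      refine ⟨h2, ?_⟩
      rwa [mul_assoc, ei_sq, mul_one]
  obtain ⟨u', hu1, hu2, hu, hcase⟩ := hS.swap_cases
  obtain ⟨⟨u, huC⟩, rfl⟩ := φ.rangeRestrict_surjective u'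
  have hua : u • a = b := congrArg Subtype.val hu1
  have hub : u • b = a := congrArg Subtype.val hu2
  obtain ⟨huI, huiI⟩ := hlift u huC hu
  refine ⟨u, Subgroup.mem_centralizer_singleton_iff.1 huC, hua, hub, huI, huiI, ?_⟩
  rw [hcard, hg] at hcase
  have hprod : φ.rangeRestrict ⟨u, huC⟩ * z = φ.rangeRestrict ⟨u * ej e, mul_mem huC hjC⟩ := by
    rw [hz, ← map_mul]; rfl
  rcases hcase with ⟨hne, hf⟩ | ⟨hboth, hf⟩
  · refine Or.inl ⟨hf, fun hodd => ?_⟩
    obtain ⟨p, k, P, hp, hp2, hk, hgp, hPn, hPc, hPcomm, -, hPfree⟩ :=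
      hS.exists_regular_normal hu1 hu2 hu hne (by rw [hcard, hg]; exact hf) (hg.symm ▸ hodd)
    haveI := Fact.mk hp
    set Pt := P.comap φ.rangeRestrict with hPt
    rw [hcard] at hPc
    have hfp : ef e = p ^ (2 * k) := by rw [hf, ← hg, hgp, ← pow_mul, mul_comm]
    have hkercard : Nat.card ↥φ.rangeRestrict.ker = 2 := by
      rw [Nat.card_eq_two_iff]
      refine ⟨⟨1, one_mem _⟩, ⟨⟨ei e, hiC⟩, (hker _).2 (Or.inr rfl)⟩, fun h => ei_ne_one e
        (congrArg (fun x : ↥φ.rangeRestrict.ker => ((x : ↥C) : G)) h).symm, ?_⟩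
      ext ⟨x, hx⟩
      simp only [Set.mem_insert_iff, Set.mem_singleton_iff, Set.mem_univ, iff_true]
      exact ((hker x).1 hx).imp (fun h => Subtype.ext (Subtype.ext h)) fun h => Subtype.ext (Subtype.ext h)
    have hPtcard : Nat.card ↥Pt = 2 * ef e := by
      have h1 := Pt.card_mul_index
      rw [hPt, Subgroup.index_comap_of_surjective _ φ.rangeRestrict_surjective,
        ← φ.rangeRestrict.ker.card_mul_index, Subgroup.index_ker, hkercard,
        MonoidHom.range_eq_top.2 φ.rangeRestrict_surjective, Subgroup.card_top,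
        ← P.card_mul_index, hPc, ← mul_assoc] at h1
      exact Nat.eq_of_mul_eq_mul_right (Nat.pos_of_ne_zero Subgroup.index_ne_zero_of_finite) h1
    obtain ⟨Q⟩ : Nonempty (Sylow p ↥Pt) := inferInstance
    have hQ : Nat.card ↥(Q : Subgroup ↥Pt) = ef e := by
      rw [Q.card_eq_multiplicity, hPtcard, hfp]
      congr 1
      rw [Nat.factorization_mul (by norm_num) (pow_ne_zero _ hp.ne_zero), hp.factorization_pow,
        Finsupp.add_apply, Nat.factorization_eq_zero_of_not_dvd (fun h => hp2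
          ((Nat.prime_dvd_prime_iff_eq hp Nat.prime_two).1 h)), Finsupp.single_eq_same, zero_add]
    have hfpos : 0 < ef e := by rw [hfp]; exact pow_pos hp.pos _
    have hidx : (Q : Subgroup ↥Pt).index = 2 := by
      have h := (Q : Subgroup ↥Pt).card_mul_index
      rw [hQ, hPtcard, mul_comm] at h
      exact Nat.eq_of_mul_eq_mul_right hfpos h
    set T := ((Q : Subgroup ↥Pt).map Pt.subtype).map C.subtype with hTdef
    have hTcard : Nat.card ↥T = ef e := by
      rw [hTdef, Subgroup.card_map_of_injective C.subtype_injective,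
        Subgroup.card_map_of_injective Pt.subtype_injective, hQ]
    have hfodd : Odd (ef e) := hf ▸ hodd.pow
    have hTodd : ∀ x ∈ T, Odd (orderOf x) := fun x hx => by
      refine Odd.of_dvd_nat (hTcard.symm ▸ hfodd : Odd (Nat.card ↥T)) ?_
      rw [← Subgroup.orderOf_mk x hx]; exact orderOf_dvd_natCard _
    have hTmem : ∀ (x : ↥C), x ∈ Pt → Odd (orderOf (x : G)) → (x : G) ∈ T := by
      intro x hx ⟨j, hj⟩
      refine ⟨x, ⟨⟨x, hx⟩, ?_, rfl⟩, rfl⟩
      have h2 : (⟨x, hx⟩ : ↥Pt) = ((⟨x, hx⟩ : ↥Pt) ^ 2) ^ (j + 1) := Subtype.ext (Subtype.ext (by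
        show (x : G) = ((x : G) ^ 2) ^ (j + 1)
        rw [← pow_mul, show 2 * (j + 1) = orderOf (x : G) + 1 by omega, pow_succ, pow_orderOf_eq_one,
          one_mul]))
      rw [h2]
      exact pow_mem (Subgroup.sq_mem_of_index_two hidx _) _
    have hTP : ∀ x ∈ T, ∃ hx : x ∈ C, φ.rangeRestrict ⟨x, hx⟩ ∈ P := by
      rintro _ ⟨y, ⟨w, -, rfl⟩, rfl⟩
      exact ⟨w.1.2, w.2⟩
    have hTinj : ∀ x ∈ T, ∀ hx : x ∈ C, φ.rangeRestrict ⟨x, hx⟩ = 1 → x = 1 := fun x hx hxC h =>
      ((hker _).1 h).resolve_right fun h' => by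
        have := hTodd x hx
        rw [show x = ei e from h', orderOf_eq_prime (by rw [pow_two, ei_sq]) (ei_ne_one e)] at this
        exact absurd this (by decide)
    refine ⟨p, T, hp, hp2, Subgroup.map_subtype_le _, fun c hc x hx => ?_, hTcard,
      IsPGroup.of_card (hTcard.trans hfp), hTcard.symm ▸ hfodd, fun x hx y hy => ?_,
      fun c hc x hx hxc => ?_, fun c hc d hd => ?_⟩
    · obtain ⟨hxC, hxP⟩ := hTP x hx
      refine hTmem ⟨c * x * c⁻¹, mul_mem (mul_mem hc hxC) (inv_mem hc)⟩ ?_ ?_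
      · have := hPn.conj_mem _ hxP (φ.rangeRestrict ⟨c, hc⟩)
        rw [← map_inv, ← map_mul, ← map_mul] at this
        exact this
      · have := hTodd x hx
        rwa [← orderOf_injective (MulAut.conj c).toMonoidHom (MulAut.conj c).injective x] at this
    · obtain ⟨hxC, hxP⟩ := hTP x hx
      obtain ⟨hyC, hyP⟩ := hTP y hy
      have hmem : x * y * x⁻¹ * y⁻¹ ∈ T :=
        mul_mem (mul_mem (mul_mem hx hy) (inv_mem hx)) (inv_mem hy)
      have h := hTinj _ hmem (mul_mem (mul_mem (mul_mem hxC hyC) (inv_mem hxC)) (inv_mem hyC)) (by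
        show φ.rangeRestrict (⟨x, hxC⟩ * ⟨y, hyC⟩ * ⟨x, hxC⟩⁻¹ * ⟨y, hyC⟩⁻¹) = 1
        rw [map_mul, map_mul, map_mul, map_inv, map_inv, hPcomm _ hxP _ hyP, mul_inv_cancel_right,
          mul_inv_cancel])
      rwa [mul_inv_eq_one, mul_inv_eq_iff_eq_mul] at h
    · obtain ⟨hxC, hxP⟩ := hTP x hx
      exact hTinj x hx hxC (hPfree ⟨c, hc⟩ _ hxP (Subtype.ext hxc))
    · have hinj : Function.Injective fun x : ↥T =>
          (⟨(x : G) • c, (S.pair_C e).maps _ (hTP _ x.2).1 c hc⟩ : ↥F) := by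
        intro x y hxy
        have h : (x : G) • c = (y : G) • c := congrArg Subtype.val hxy
        obtain ⟨hmC, hmP⟩ := hTP _ (mul_mem (inv_mem y.2) x.2)
        refine Subtype.ext ((inv_mul_eq_one.1 (hTinj _ (mul_mem (inv_mem y.2) x.2) hmC
          (hPfree ⟨c, hc⟩ _ hmP (Subtype.ext ?_)))).symm)
        show ((y : G)⁻¹ * (x : G)) • c = c
        rw [mul_smul, h, inv_smul_smul]
      haveI := Fintype.ofFinite ↥T
      haveI := Fintype.ofFinite ↥F
      obtain ⟨x, hx⟩ := ((Fintype.bijective_iff_injective_and_card _).2 ⟨hinj, by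
        rw [← Nat.card_eq_fintype_card, ← Nat.card_eq_fintype_card, hTcard, hcard]⟩).2 ⟨d, hd⟩
      exact ⟨x, x.2, congrArg Subtype.val hx⟩
  · have hf' : Nat.card ↥F = (fixedBy ↥F z).ncard * (2 * (fixedBy ↥F z).ncard - 1) := by
      rw [hcard, hg]; exact hf
    have hboth' := hboth
    rw [hprod] at hboth'
    obtain ⟨h1, h2⟩ := hlift _ _ hboth'
    rw [mul_assoc, ← (ei_ej e).eq] at h2
    exact Or.inr ⟨hf, h1, h2, fun hodd => hS.false_of_both_odd hu1 hu2 hu hboth hf' (hg.symm ▸ hodd),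
      fun hev => hg ▸ hS.fix_le_four_of_both_even hu1 hu2 hu hboth hf' (hg.symm ▸ hev)⟩

end CfsgLib.TwoTransAFive
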