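import Cfsg.Agent.TwoTransAFive.Count
import Cfsg.Agent.TwoTransAFive.Sharp

/-!
# Doubly transitive groups with a two-point stabiliser of order two
-/

set_option autoImplicit false

namespace CfsgLib.TwoTransAFive

open MulAction CfsgLib.Perm.SharplyTwo

/-- A faithful 2-transitive group with two-point stabiliser `{1, z}`. -/
structure SmallStab {B : Type*} [Group B] {α : Type*} [MulAction B α] (z : B) (a b : α) : Prop where
  faithful : ∀ c : B, (∀ x : α, c • x = x) → c = 1
  two : IsMultiplyPretransitive B α 2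
  hab : a ≠ b
  za : z • a = a
  zb : z • b = b
  ne_one : z ≠ 1
  stab : ∀ c : B, c • a = a → c • b = b → c = 1 ∨ c = z

variable {B : Type*} [Group B] {α : Type*} [MulAction B α] {z : B} {a b : α}

namespace SmallStab

variable (S : SmallStab z a b)
include S

theorem sq : z * z = 1 := by
  rcases S.stab z⁻¹ (inv_smul_eq_iff.2 S.za.symm) (inv_smul_eq_iff.2 S.zb.symm) with h | h
  · exact absurd (inv_eq_one.1 h) S.ne_one
  · exact mul_eq_one_iff_inv_eq.2 h

theorem inv_eq : z⁻¹ = z := inv_eq_of_mul_eq_one_right S.sq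

theorem exists_conj {c d : α} (hcd : c ≠ d) : ∃ k : B, k • a = c ∧ k • b = d :=
  is_two_pretransitive_iff.1 S.two S.hab hcd

theorem nontrivial : Nontrivial α := ⟨⟨a, b, S.hab⟩⟩

/-- An element fixing two points is `1` or a conjugate of `z`. -/
theorem isConj_of_fix {c d : α} (hcd : c ≠ d) {x : B} (hx : x ≠ 1) (hxc : x • c = c) (hxd : x • d = d) :
    IsConj z x := by
  obtain ⟨k, rfl, rfl⟩ := S.exists_conj hcd
  rcases S.stab (k⁻¹ * x * k) (by rw [mul_smul, mul_smul, hxc, inv_smul_smul])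
      (by rw [mul_smul, mul_smul, hxd, inv_smul_smul]) with h | h
  · exact absurd (by
      calc x = k * (k⁻¹ * x * k) * k⁻¹ := by group
        _ = 1 := by rw [h]; group) hx
  · exact isConj_iff.2 ⟨k, by rw [← h]; group⟩

theorem sq_of_isConj {x : B} (hx : IsConj z x) : x * x = 1 := by
  obtain ⟨k, rfl⟩ := isConj_iff.1 hx
  calc k * z * k⁻¹ * (k * z * k⁻¹) = k * (z * z) * k⁻¹ := by group
    _ = 1 := by rw [S.sq]; group

theorem ne_one_of_isConj {x : B} (hx : IsConj z x) : x ≠ 1 := fun h =>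
  S.ne_one (isConj_one_left.1 (h ▸ hx))

theorem ncard_fixedBy_of_isConj {x : B} (hx : IsConj z x) :
    (fixedBy α x).ncard = (fixedBy α z).ncard := by
  obtain ⟨k, rfl⟩ := isConj_iff.1 hx
  rw [fixedBy_conj, Set.ncard_image_of_injective _ (MulAction.injective k)]

theorem fix_pair : {x ∈ {x : B | IsConj z x} | x • a = a ∧ x • b = b} = {z} := by
  ext x
  refine ⟨fun ⟨hx, hxa, hxb⟩ => (S.stab x hxa hxb).resolve_left (S.ne_one_of_isConj hx), ?_⟩
  rintro rfl
  exact ⟨IsConj.refl _, S.za, S.zb⟩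

theorem exists_swap : ∃ u : B, u • a = b ∧ u • b = a := is_two_pretransitive_iff.1 S.two S.hab S.hab.symm

theorem swap_commute {u : B} (h1 : u • a = b) (h2 : u • b = a) : Commute u z := by
  rcases S.stab (u * z * u⁻¹)
      (by rw [mul_smul, mul_smul, (inv_smul_eq_iff.2 h2.symm), S.zb, h2])
      (by rw [mul_smul, mul_smul, (inv_smul_eq_iff.2 h1.symm), S.za, h1]) with h | h
  · exact absurd (conj_eq_one_iff.1 h) S.ne_one
  · exact mul_inv_eq_iff_eq_mul.1 h

theorem swap_eq {u c : B} (h1 : u • a = b) (h2 : u • b = a) (hc1 : c • a = b) (hc2 : c • b = a) :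
    c = u ∨ c = u * z := by
  rcases S.stab (u⁻¹ * c) (by rw [mul_smul, hc1, inv_smul_eq_iff, h1])
      (by rw [mul_smul, hc2, inv_smul_eq_iff, h2]) with h | h
  · exact Or.inl (inv_mul_eq_one.1 h).symm
  · exact Or.inr (by rw [← h, mul_inv_cancel_left])

theorem swap_mul {u : B} (h1 : u • a = b) (h2 : u • b = a) :
    (u * z) • a = b ∧ (u * z) • b = a :=
  ⟨by rw [mul_smul, S.za, h1], by rw [mul_smul, S.zb, h2]⟩

/-- The members of the class of `z` moving `a` to `b` swap them. -/
theorem moved_subset {u : B} (h1 : u • a = b) (h2 : u • b = a) :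
    {x ∈ {x : B | IsConj z x} | x • a = b} ⊆ {u, u * z} := by
  rintro x ⟨hx, hxab⟩
  have hxba : x • b = a := by rw [← hxab, ← mul_smul, S.sq_of_isConj hx, one_smul]
  simpa using S.swap_eq h1 h2 hxab hxba

variable [Finite B] [Finite α]

theorem two_le_fix : 2 ≤ (fixedBy α z).ncard := by
  rw [← Set.ncard_pair S.hab]
  refine Set.ncard_le_ncard ?_ (Set.toFinite _)
  rintro x (rfl | rfl)
  exacts [S.za, S.zb]

theorem fix_lt : (fixedBy α z).ncard < Nat.card α := by
  refine lt_of_le_of_ne (Set.ncard_le_card _) fun he => S.ne_one (S.faithful z fun x => ?_)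
  have : fixedBy α z = Set.univ := Set.eq_of_subset_of_ncard_le (Set.subset_univ _)
    (by rw [Set.ncard_univ, he]) (Set.toFinite _)
  exact Set.eq_univ_iff_forall.1 this x

/-- The counting identity for the class of `z`. -/
theorem count_class :
    {x : B | IsConj z x}.ncard * ((fixedBy α z).ncard * ((fixedBy α z).ncard - 1)) =
        Nat.card α * (Nat.card α - 1) ∧
      Nat.card α - (fixedBy α z).ncard = {x ∈ {x : B | IsConj z x} | x • a = b}.ncard *
        ((fixedBy α z).ncard * ((fixedBy α z).ncard - 1)) := by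
  have hX : ∀ g : B, ∀ x ∈ {x : B | IsConj z x}, g * x * g⁻¹ ∈ {x : B | IsConj z x} :=
    fun g x hx => IsConj.trans hx (isConj_iff.2 ⟨g, rfl⟩)
  have hf : ∀ x ∈ {x : B | IsConj z x}, (fixedBy α x).ncard = (fixedBy α z).ncard :=
    fun x hx => S.ncard_fixedBy_of_isConj hx
  obtain ⟨h1, -⟩ := count S.two hX hf S.hab
  have h3 := count_rel S.two hX hf S.hab
  rw [S.fix_pair, Set.ncard_singleton, one_mul] at h1 h3
  exact ⟨h1, h3⟩

/-- Some swapper is a conjugate of `z`; either exactly one is, or both are. -/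
theorem swap_cases : ∃ u : B, u • a = b ∧ u • b = a ∧ IsConj z u ∧
    ((¬ IsConj z (u * z) ∧ Nat.card α = (fixedBy α z).ncard ^ 2) ∨
      (IsConj z (u * z) ∧ Nat.card α = (fixedBy α z).ncard * (2 * (fixedBy α z).ncard - 1))) := by
  obtain ⟨-, h3⟩ := S.count_class
  have hg := S.two_le_fix
  have hlt := S.fix_lt
  set g := (fixedBy α z).ncard with hgdef
  set M := {x ∈ {x : B | IsConj z x} | x • a = b} with hM
  obtain ⟨v, hv1, hv2⟩ := S.exists_swap
  have hne : M.Nonempty := by
    rw [Set.nonempty_iff_ne_empty]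
    intro he
    rw [he, Set.ncard_empty, zero_mul] at h3
    omega
  obtain ⟨u, hu, hu1⟩ := hne
  have hu2 : u • b = a := by rw [← hu1, ← mul_smul, S.sq_of_isConj hu, one_smul]
  refine ⟨u, hu1, hu2, hu, ?_⟩
  have hne' : u ≠ u * z := fun e => S.ne_one (left_eq_mul.1 e)
  obtain ⟨g', hg'⟩ : ∃ g', g = g' + 2 := ⟨g - 2, by omega⟩
  by_cases huz : IsConj z (u * z)
  · refine Or.inr ⟨huz, ?_⟩
    have hMe : M = {u, u * z} := Set.Subset.antisymm (S.moved_subset hu1 hu2) (by
      rintro x (rfl | rfl)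
      exacts [⟨hu, hu1⟩, ⟨huz, (S.swap_mul hu1 hu2).1⟩])
    rw [hMe, Set.ncard_pair hne', hg', show g' + 2 - 1 = g' + 1 by omega] at h3
    rw [hg', show 2 * (g' + 2) - 1 = 2 * g' + 3 by omega]
    zify [show g' + 2 ≤ Nat.card α by omega] at h3 ⊢
    linear_combination h3
  · refine Or.inl ⟨huz, ?_⟩
    have hMe : M = {u} := Set.eq_singleton_iff_unique_mem.2 ⟨⟨hu, hu1⟩, fun x hx =>
      (S.moved_subset hu1 hu2 hx).resolve_right fun e => huz (e ▸ hx.1)⟩
    rw [hMe, Set.ncard_singleton, hg', show g' + 2 - 1 = g' + 1 by omega] at h3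
    rw [hg']
    zify [show g' + 2 ≤ Nat.card α by omega] at h3 ⊢
    linear_combination h3

omit [Finite B] [Finite α] in
/-- The action of the centraliser of `z` on its fixed points. -/
theorem smul_mem_fix : ∀ k ∈ Subgroup.centralizer ({z} : Set B), ∀ x ∈ fixedBy α z, k • x ∈ fixedBy α z :=
  fun _ hk _ hx => smul_mem_fixedBy_of_commute (Subgroup.mem_centralizer_singleton_iff.1 hk) hx

/-- The centraliser of `z` on its fixed points. -/
noncomputable def fixHom : ↥(Subgroup.centralizer ({z} : Set B)) →* Equiv.Perm ↥(fixedBy α z) :=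
  actOn _ _ S.smul_mem_fix

omit [Finite B] [Finite α] in
theorem fix_two : IsMultiplyPretransitive ↥S.fixHom.range ↥(fixedBy α z) 2 := by
  rw [is_two_pretransitive_iff]
  rintro ⟨p, hp⟩ ⟨q, hq⟩ ⟨c, hc⟩ ⟨d, hd⟩ hpq hcd
  have hpq' : p ≠ q := fun e => hpq (Subtype.ext e)
  have hcd' : c ≠ d := fun e => hcd (Subtype.ext e)
  obtain ⟨k, hk1, hk2⟩ := is_two_pretransitive_iff.1 S.two hpq' hcd'
  have hk : Commute k z := by
    have hkz : (k⁻¹ * z * k) • p = p ∧ (k⁻¹ * z * k) • q = q :=
      ⟨by rw [mul_smul, mul_smul, hk1, hc, ← hk1, inv_smul_smul],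
        by rw [mul_smul, mul_smul, hk2, hd, ← hk2, inv_smul_smul]⟩
    obtain ⟨l, hl1, hl2⟩ := S.exists_conj hpq'
    have key : ∀ x : B, x ≠ 1 → x • p = p → x • q = q → x = l * z * l⁻¹ := fun x hx h1 h2 => by
      rcases S.stab (l⁻¹ * x * l) (by rw [mul_smul, mul_smul, hl1, h1, inv_smul_eq_iff, hl1])
          (by rw [mul_smul, mul_smul, hl2, h2, inv_smul_eq_iff, hl2]) with h | h
      · exact absurd (by
          calc x = l * (l⁻¹ * x * l) * l⁻¹ := by group
            _ = 1 := by rw [h]; group) hx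
      · rw [← h]; group
    have h1 := key _ (fun e => S.ne_one (by
        calc z = k * (k⁻¹ * z * k) * k⁻¹ := by group
          _ = 1 := by rw [e]; group)) hkz.1 hkz.2
    rw [← key z S.ne_one hp hq] at h1
    show k * z = z * k
    calc k * z = k * (k⁻¹ * z * k) := by rw [h1]
      _ = z * k := by group
  refine ⟨⟨S.fixHom ⟨k, Subgroup.mem_centralizer_singleton_iff.2 hk⟩, _, rfl⟩, ?_, ?_⟩
  · exact Subtype.ext hk1
  · exact Subtype.ext hk2

omit [Finite B] [Finite α] in
theorem mem_ker_fixHom {k : ↥(Subgroup.centralizer ({z} : Set B))} :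
    k ∈ S.fixHom.ker ↔ ((k : B) = 1 ∨ (k : B) = z) := by
  rw [fixHom, mem_ker_actOn]
  refine ⟨fun h => S.stab _ (h a S.za) (h b S.zb), ?_⟩
  rintro (h | h) x hx <;> rw [h]
  exacts [one_smul _ _, hx]

omit [Finite B] [Finite α] in
theorem fix_sharp : ∀ (k : ↥S.fixHom.range) (c d : ↥(fixedBy α z)), c ≠ d → k • c = c → k • d = d → k = 1 := by
  rintro ⟨_, k, rfl⟩ ⟨c, hc⟩ ⟨d, hd⟩ hcd h1 h2
  have hcd' : c ≠ d := fun e => hcd (Subtype.ext e)
  have h1' : (k : B) • c = c := congrArg Subtype.val h1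
  have h2' : (k : B) • d = d := congrArg Subtype.val h2
  obtain ⟨l, hl1, hl2⟩ := S.exists_conj hcd'
  have key : ∀ x : B, x • c = c → x • d = d → x = 1 ∨ x = l * z * l⁻¹ := fun x e1 e2 => by
    rcases S.stab (l⁻¹ * x * l) (by rw [mul_smul, mul_smul, hl1, e1, inv_smul_eq_iff, hl1])
        (by rw [mul_smul, mul_smul, hl2, e2, inv_smul_eq_iff, hl2]) with h | h
    · exact Or.inl (by
        calc x = l * (l⁻¹ * x * l) * l⁻¹ := by group
          _ = 1 := by rw [h]; group)
    · exact Or.inr (by rw [← h]; group)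
  refine Subtype.ext (MonoidHom.mem_ker.1 (S.mem_ker_fixHom.2 ?_))
  rcases key k h1' h2' with h | h
  · exact Or.inl h
  · exact Or.inr (h.trans ((key z hc hd).resolve_left S.ne_one).symm)

omit [Finite B] [Finite α] in
theorem fix_nontrivial : Nontrivial ↥(fixedBy α z) :=
  ⟨⟨⟨a, S.za⟩, ⟨b, S.zb⟩, fun h => S.hab (congrArg Subtype.val h)⟩⟩

theorem card_centralizer :
    Nat.card ↥(Subgroup.centralizer ({z} : Set B)) =
      2 * ((fixedBy α z).ncard * ((fixedBy α z).ncard - 1)) := by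
  haveI := S.fix_nontrivial
  have hk : Nat.card ↥S.fixHom.ker = 2 := by
    rw [Nat.card_eq_two_iff]
    refine ⟨⟨1, one_mem _⟩, ⟨⟨z, Subgroup.mem_centralizer_singleton_iff.2 rfl⟩,
      S.mem_ker_fixHom.2 (Or.inr rfl)⟩, fun e => S.ne_one ?_, ?_⟩
    · exact (congrArg (fun x : ↥S.fixHom.ker => ((x : ↥(Subgroup.centralizer ({z} : Set B))) : B)) e).symm
    · ext ⟨x, hx⟩
      simp only [Set.mem_insert_iff, Set.mem_singleton_iff, Set.mem_univ, iff_true]
      rcases S.mem_ker_fixHom.1 hx with h | h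
      · exact Or.inl (Subtype.ext (Subtype.ext h))
      · exact Or.inr (Subtype.ext (Subtype.ext h))
  have hr := card_group S.fix_two S.fix_sharp ⟨a, S.za⟩
  rw [Nat.card_coe_set_eq] at hr
  rw [← Subgroup.card_mul_index S.fixHom.ker, Subgroup.index_ker, hk, hr]

theorem exists_prime_pow : ∃ p k : ℕ, p.Prime ∧ 1 ≤ k ∧ (fixedBy α z).ncard = p ^ k := by
  haveI := S.fix_nontrivial
  obtain ⟨p, k, hp, hk, hc, -⟩ := Perm.SharplyTwo.exists_prime_pow S.fix_two S.fix_sharp
  exact ⟨p, k, hp, hk, by rw [← Nat.card_coe_set_eq]; exact hc⟩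

theorem card_group : Nat.card B = 2 * (Nat.card α * (Nat.card α - 1)) := by
  have h := (Subgroup.centralizer ({z} : Set B)).card_mul_index
  obtain ⟨h1, -⟩ := S.count_class
  have hidx : (Subgroup.centralizer ({z} : Set B)).index = {x : B | IsConj z x}.ncard := by
    have e : Subgroup.centralizer ({z} : Set B) =
        (stabilizer (ConjAct B) z).comap ConjAct.toConjAct.toMonoidHom :=
      Subgroup.centralizer_eq_comap_stabilizer z
    have e2 : {x : B | IsConj z x} = orbit (ConjAct B) z := by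
      ext x
      rw [ConjAct.mem_orbit_conjAct]
      exact ⟨IsConj.symm, IsConj.symm⟩
    rw [e, e2, ← index_stabilizer]
    exact Subgroup.index_comap_of_surjective (G' := B) (stabilizer (ConjAct B) z)
      (f := ConjAct.toConjAct.toMonoidHom) ConjAct.toConjAct.surjective
  rw [← h, hidx, S.card_centralizer, ← h1]
  ring

end SmallStab

end CfsgLib.TwoTransAFive
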