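import Cfsg.Agent.TwoTransAFive.SmallStab

/-!
# The translations in the centraliser of `z`
-/

set_option autoImplicit false

namespace CfsgLib.TwoTransAFive

open MulAction CfsgLib.Perm.SharplyTwo

variable {B : Type*} [Group B] {α : Type*} [MulAction B α] [Finite B] [Finite α] {z : B} {a b : α}

namespace SmallStab

variable (S : SmallStab z a b)

/-- The translation subgroup of the fixed set of `z`. -/
noncomputable def fixKernel : Subgroup ↥S.fixHom.range :=
  haveI := S.fix_nontrivial
  kernel S.fix_two S.fix_sharp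

/-- Its preimage in the centraliser of `z`. -/
noncomputable def trans : Subgroup B :=
  (S.fixKernel.comap S.fixHom.rangeRestrict).map (Subgroup.centralizer ({z} : Set B)).subtype

theorem trans_le : S.trans ≤ Subgroup.centralizer ({z} : Set B) := Subgroup.map_subtype_le _

theorem mem_trans {x : B} (hx : x ∈ Subgroup.centralizer ({z} : Set B)) :
    x ∈ S.trans ↔ S.fixHom.rangeRestrict ⟨x, hx⟩ ∈ S.fixKernel :=
  ⟨by rintro ⟨⟨y, hy⟩, h, rfl⟩; exact h, fun h => ⟨⟨x, hx⟩, h, rfl⟩⟩

theorem z_mem_trans : z ∈ S.trans := by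
  have hz : z ∈ Subgroup.centralizer ({z} : Set B) := Subgroup.mem_centralizer_singleton_iff.2 rfl
  rw [S.mem_trans hz, show S.fixHom.rangeRestrict ⟨z, hz⟩ = 1 from
    Subtype.ext (MonoidHom.mem_ker.1 (S.mem_ker_fixHom.2 (Or.inr rfl)))]
  exact one_mem _

theorem rangeRestrict_eq_one_iff {x : B} (hx : x ∈ Subgroup.centralizer ({z} : Set B)) :
    S.fixHom.rangeRestrict ⟨x, hx⟩ = 1 ↔ x = 1 ∨ x = z := by
  rw [← S.mem_ker_fixHom (k := ⟨x, hx⟩), MonoidHom.mem_ker]
  exact ⟨fun h => congrArg Subtype.val h, fun h => Subtype.ext h⟩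

theorem card_fixKernel : Nat.card ↥S.fixKernel = (fixedBy α z).ncard := by
  haveI := S.fix_nontrivial
  rw [fixKernel, card_kernel, Nat.card_coe_set_eq]

theorem card_trans : Nat.card ↥S.trans = 2 * (fixedBy α z).ncard := by
  haveI := S.fix_nontrivial
  set g := (fixedBy α z).ncard with hg
  rw [trans, Subgroup.card_map_of_injective (Subgroup.subtype_injective _)]
  have h1 := (S.fixKernel.comap S.fixHom.rangeRestrict).card_mul_index
  rw [Subgroup.index_comap_of_surjective _ S.fixHom.rangeRestrict_surjective, S.card_centralizer] at h1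
  have h2 := S.fixKernel.card_mul_index
  rw [S.card_fixKernel, Perm.SharplyTwo.card_group S.fix_two S.fix_sharp ⟨a, S.za⟩, Nat.card_coe_set_eq,
    ← hg] at h2
  rw [← h2] at h1
  exact Nat.eq_of_mul_eq_mul_right (Nat.pos_of_ne_zero Subgroup.index_ne_zero_of_finite) (by linarith)

theorem conj_mem_trans {c x : B} (hc : c ∈ Subgroup.centralizer ({z} : Set B)) (hx : x ∈ S.trans) :
    c * x * c⁻¹ ∈ S.trans := by
  haveI := S.fix_nontrivial
  have hxC := S.trans_le hx
  have hN : S.fixKernel.Normal := kernel_normal S.fix_two S.fix_sharp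
  rw [S.mem_trans (mul_mem (mul_mem hc hxC) (inv_mem hc))]
  have := hN.conj_mem _ ((S.mem_trans hxC).1 hx) (S.fixHom.rangeRestrict ⟨c, hc⟩)
  rwa [← map_mul, ← map_inv, ← map_mul] at this

/-- An element of the centraliser commuting with a moving translation is a translation. -/
theorem mem_trans_of_commute {c t : B} (hc : c ∈ Subgroup.centralizer ({z} : Set B)) (ht : t ∈ S.trans)
    (ht1 : t ≠ 1) (htz : t ≠ z) (h : Commute c t) : c ∈ S.trans := by
  haveI := S.fix_nontrivial
  have htC := S.trans_le ht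
  have hne : S.fixHom.rangeRestrict ⟨t, htC⟩ ≠ 1 := fun e =>
    ((S.rangeRestrict_eq_one_iff htC).1 e).elim ht1 htz
  have hfree := ((S.mem_trans htC).1 ht).resolve_left hne
  rw [S.mem_trans hc]
  refine centralizer_subset S.fix_two S.fix_sharp hfree ?_
  rw [← map_mul, ← map_mul]
  exact congrArg _ (Subtype.ext h.eq)

/-- The product of two involutions of the centraliser moving the fixed set is a translation. -/
theorem mul_mem_trans {x y : B} (hx : x ∈ Subgroup.centralizer ({z} : Set B))
    (hy : y ∈ Subgroup.centralizer ({z} : Set B)) (hx2 : x * x = 1) (hy2 : y * y = 1) (hx1 : x ≠ 1)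
    (hxz : x ≠ z) (hy1 : y ≠ 1) (hyz : y ≠ z) : x * y ∈ S.trans := by
  haveI := S.fix_nontrivial
  rw [S.mem_trans (mul_mem hx hy)]
  have hsq : ∀ {w : B} (hw : w ∈ Subgroup.centralizer ({z} : Set B)), w * w = 1 →
      S.fixHom.rangeRestrict ⟨w, hw⟩ * S.fixHom.rangeRestrict ⟨w, hw⟩ = 1 := fun hw h => by
    rw [← map_mul, ← map_one S.fixHom.rangeRestrict]
    exact congrArg _ (Subtype.ext h)
  have := mul_mem_kernel S.fix_two S.fix_sharp (hsq hx hx2)
    (fun e => ((S.rangeRestrict_eq_one_iff hx).1 e).elim hx1 hxz) (hsq hy hy2)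
    (fun e => ((S.rangeRestrict_eq_one_iff hy).1 e).elim hy1 hyz)
  rwa [← map_mul] at this

end SmallStab

end CfsgLib.TwoTransAFive
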