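import Cfsg.Agent.TwoTransAFive.Setting

/-!
# The stabiliser of the unordered pair: symmetric group or direct product with a central swapper
-/

set_option autoImplicit false

namespace CfsgLib.TwoTransAFive

open MulAction

variable {G : Type*} [Group G] {Ω : Type*} [MulAction G Ω]

/-- The stabiliser of the unordered pair. -/
def pairGrp (a b : Ω) : Subgroup G where
  carrier := {x | (x • a = a ∧ x • b = b) ∨ (x • a = b ∧ x • b = a)}
  one_mem' := Or.inl ⟨one_smul G a, one_smul G b⟩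
  mul_mem' := by
    rintro x y (⟨h1, h2⟩ | ⟨h1, h2⟩) (⟨h3, h4⟩ | ⟨h3, h4⟩)
    · exact Or.inl ⟨by rw [mul_smul, h3, h1], by rw [mul_smul, h4, h2]⟩
    · exact Or.inr ⟨by rw [mul_smul, h3, h2], by rw [mul_smul, h4, h1]⟩
    · exact Or.inr ⟨by rw [mul_smul, h3, h1], by rw [mul_smul, h4, h2]⟩
    · exact Or.inl ⟨by rw [mul_smul, h3, h2], by rw [mul_smul, h4, h1]⟩
  inv_mem' := by
    rintro x (⟨h1, h2⟩ | ⟨h1, h2⟩)
    · exact Or.inl ⟨inv_smul_eq_iff.2 h1.symm, inv_smul_eq_iff.2 h2.symm⟩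
    · exact Or.inr ⟨inv_smul_eq_iff.2 h2.symm, inv_smul_eq_iff.2 h1.symm⟩

theorem conj_mem_pairStab {a b : Ω} {x h : G} (hx : x ∈ pairGrp (G := G) a b)
    (hh : h ∈ stabilizer G a ⊓ stabilizer G b) : x * h * x⁻¹ ∈ stabilizer G a ⊓ stabilizer G b := by
  obtain ⟨ha, hb⟩ := Subgroup.mem_inf.1 hh
  rw [mem_stabilizer_iff] at ha hb
  rcases hx with ⟨h1, h2⟩ | ⟨h1, h2⟩ <;> refine Subgroup.mem_inf.2 ⟨?_, ?_⟩ <;>
    rw [mem_stabilizer_iff, mul_smul, mul_smul]
  · rw [inv_smul_eq_iff.2 h1.symm, ha, h1]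
  · rw [inv_smul_eq_iff.2 h2.symm, hb, h2]
  · rw [inv_smul_eq_iff.2 h2.symm, hb, h2]
  · rw [inv_smul_eq_iff.2 h1.symm, ha, h1]

section

variable {a b : Ω} (e : ↥(stabilizer G a ⊓ stabilizer G b) ≃* AFive)

/-- Conjugation on the two-point stabiliser, read in `AFive`. -/
def pairConj : ↥(pairGrp (G := G) a b) →* MulAut AFive where
  toFun x :=
    { toFun := fun v => e ⟨x * e.symm v * (x : G)⁻¹, conj_mem_pairStab x.2 (e.symm v).2⟩
      invFun := fun v => e ⟨(x : G)⁻¹ * e.symm v * ((x : G)⁻¹)⁻¹,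
        conj_mem_pairStab (inv_mem x.2) (e.symm v).2⟩
      left_inv := fun v => by
        rw [← e.eq_symm_apply]
        refine Subtype.ext ?_
        simp [mul_assoc]
      right_inv := fun v => by
        rw [← e.eq_symm_apply]
        refine Subtype.ext ?_
        simp [mul_assoc]
      map_mul' := fun v w => by
        rw [← map_mul e]
        refine congrArg e (Subtype.ext ?_)
        simp [mul_assoc] }
  map_one' := by
    ext1 v
    show e _ = v
    rw [← e.eq_symm_apply]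
    refine Subtype.ext ?_
    simp
  map_mul' x y := by
    ext1 v
    show e _ = e _
    refine congrArg e (Subtype.ext ?_)
    simp [mul_assoc]

/-- The permutation of five points induced by a member of the pair stabiliser. -/
noncomputable def pairPerm : ↥(pairGrp (G := G) a b) →* SFive :=
  autEquiv.symm.toMonoidHom.comp (pairConj e)

theorem pairPerm_stab {h : G} (hh : h ∈ stabilizer G a ⊓ stabilizer G b) :
    pairPerm e ⟨h, Or.inl (Subgroup.mem_inf.1 hh)⟩ = (e ⟨h, hh⟩ : SFive) := by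
  show autEquiv.symm (pairConj e _) = _
  rw [← autEquiv_symm_conj]
  congr 1
  ext1 v
  show e _ = e ⟨h, hh⟩ * v * (e ⟨h, hh⟩)⁻¹
  conv_rhs => rw [← e.apply_symm_apply v, ← map_inv, ← map_mul, ← map_mul]
  rfl

theorem pairPerm_conj (x : ↥(pairGrp (G := G) a b)) (v : AFive) :
    (x : G) * e.symm v * (x : G)⁻¹ = e.symm (autEquiv (pairPerm e x) v) := by
  have h : autEquiv (pairPerm e x) = pairConj e x := autEquiv.apply_symm_apply _
  rw [h]
  show _ = ((e.symm (e _) : ↥(stabilizer G a ⊓ stabilizer G b)) : G)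
  rw [e.symm_apply_apply]

theorem pairPerm_sign_stab {x : ↥(pairGrp (G := G) a b)} (ha : (x : G) • a = a) (hb : (x : G) • b = b) :
    Equiv.Perm.sign (pairPerm e x) = 1 := by
  obtain ⟨x, hx⟩ := x
  rw [pairPerm_stab e (Subgroup.mem_inf.2 ⟨ha, hb⟩)]
  exact Equiv.Perm.mem_alternatingGroup.1 (e _).2

/-- The case of the symmetric group. -/
structure CaseSym : Prop where
  inj : Function.Injective (pairPerm e)
  surj : Function.Surjective (pairPerm e)
  sign_swap : ∀ x : ↥(pairGrp (G := G) a b), (x : G) • a = b → Equiv.Perm.sign (pairPerm e x) = -1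

/-- The case of a central swapper. -/
structure CaseCentral (t : G) : Prop where
  ta : t • a = b
  tb : t • b = a
  sq : t * t = 1
  comm : ∀ h : G, h • a = a → h • b = b → t * h = h * t

variable {e}

theorem case_split (h2 : IsMultiplyPretransitive G Ω 2) (hab : a ≠ b)
    (e : ↥(stabilizer G a ⊓ stabilizer G b) ≃* AFive) :
    CaseSym e ∨ ∃ t : G, CaseCentral (a := a) (b := b) t := by
  obtain ⟨u, hu1, hu2⟩ := is_two_pretransitive_iff.1 h2 hab hab.symm
  set U : ↥(pairGrp (G := G) a b) := ⟨u, Or.inr ⟨hu1, hu2⟩⟩ with hU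
  have hsplit : ∀ x : ↥(pairGrp (G := G) a b), ((x : G) • a = a ∧ (x : G) • b = b) ∨
      (((U⁻¹ * x : ↥(pairGrp (G := G) a b)) : G) • a = a ∧
        ((U⁻¹ * x : ↥(pairGrp (G := G) a b)) : G) • b = b) := by
    rintro ⟨x, h | ⟨h1, h2⟩⟩
    · exact Or.inl h
    · refine Or.inr ⟨?_, ?_⟩
      · show (u⁻¹ * x) • a = a
        rw [mul_smul, h1, inv_smul_eq_iff, hu1]
      · show (u⁻¹ * x) • b = b
        rw [mul_smul, h2, inv_smul_eq_iff, hu2]
  rcases Int.units_eq_one_or (Equiv.Perm.sign (pairPerm e U)) with h1 | h1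
  · refine Or.inr ⟨u * (e.symm ⟨pairPerm e U, Equiv.Perm.mem_alternatingGroup.2 h1⟩ : G)⁻¹, ?_⟩
    set h0 := e.symm ⟨pairPerm e U, Equiv.Perm.mem_alternatingGroup.2 h1⟩ with hh0
    set T : ↥(pairGrp (G := G) a b) := U * (⟨(h0 : G), Or.inl (Subgroup.mem_inf.1 h0.2)⟩)⁻¹ with hT
    have hT1 : pairPerm e T = 1 := by
      rw [hT, map_mul, map_inv, pairPerm_stab e h0.2,
        show e ⟨(h0 : G), h0.2⟩ = ⟨pairPerm e U, Equiv.Perm.mem_alternatingGroup.2 h1⟩ by
          rw [Subtype.coe_eta, hh0, e.apply_symm_apply]]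
      exact mul_inv_cancel _
    obtain ⟨h0a, h0b⟩ := Subgroup.mem_inf.1 h0.2
    rw [mem_stabilizer_iff] at h0a h0b
    have hta : (T : G) • a = b := by
      show (u * (h0 : G)⁻¹) • a = b
      rw [mul_smul, inv_smul_eq_iff.2 h0a.symm, hu1]
    have htb : (T : G) • b = a := by
      show (u * (h0 : G)⁻¹) • b = a
      rw [mul_smul, inv_smul_eq_iff.2 h0b.symm, hu2]
    have hcomm : ∀ h : G, h • a = a → h • b = b → (T : G) * h = h * T := fun h ha hb => by
      have := pairPerm_conj e T (e ⟨h, Subgroup.mem_inf.2 ⟨ha, hb⟩⟩)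
      rw [hT1, map_one, MulAut.one_apply, e.symm_apply_apply] at this
      exact mul_inv_eq_iff_eq_mul.1 this
    refine ⟨hta, htb, ?_, hcomm⟩
    have hT2 : ((T * T : ↥(pairGrp (G := G) a b)) : G) ∈ stabilizer G a ⊓ stabilizer G b :=
      Subgroup.mem_inf.2 ⟨by
        rw [mem_stabilizer_iff, Subgroup.coe_mul, mul_smul, hta, htb], by
        rw [mem_stabilizer_iff, Subgroup.coe_mul, mul_smul, htb, hta]⟩
    have h3 := pairPerm_stab e hT2
    rw [show (⟨((T * T : ↥(pairGrp (G := G) a b)) : G), Or.inl (Subgroup.mem_inf.1 hT2)⟩ :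
      ↥(pairGrp (G := G) a b)) = T * T from rfl, map_mul, hT1, one_mul] at h3
    exact congrArg Subtype.val ((map_eq_one_iff e e.injective).1 (Subtype.ext h3.symm))
  · refine Or.inl ⟨(injective_iff_map_eq_one _).2 fun x hx => ?_, fun σ => ?_, fun x hx => ?_⟩
    · rcases hsplit x with ⟨ha, hb⟩ | ⟨ha, hb⟩
      · have h3 := pairPerm_stab e (Subgroup.mem_inf.2 ⟨ha, hb⟩)
        rw [hx] at h3
        have h4 := (map_eq_one_iff e e.injective).1 (Subtype.ext h3.symm :
          e ⟨(x : G), Subgroup.mem_inf.2 ⟨ha, hb⟩⟩ = 1)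
        exact Subtype.ext (congrArg Subtype.val h4 :)
      · have h3 := pairPerm_sign_stab e ha hb
        rw [map_mul, map_inv, map_mul, map_inv, hx, h1, map_one, mul_one] at h3
        exact absurd h3 (by decide)
    · have heven : ∀ τ : SFive, Equiv.Perm.sign τ = 1 → ∃ x, pairPerm e x = τ := fun τ hτ => by
        refine ⟨_, (pairPerm_stab e (e.symm ⟨τ, Equiv.Perm.mem_alternatingGroup.2 hτ⟩).2).trans ?_⟩
        rw [Subtype.coe_eta, e.apply_symm_apply]
      rcases Int.units_eq_one_or (Equiv.Perm.sign σ) with h | h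
      · exact heven σ h
      · obtain ⟨x, hx⟩ := heven ((pairPerm e U)⁻¹ * σ) (by rw [map_mul, map_inv, h1, h]; decide)
        exact ⟨U * x, by rw [map_mul, hx, mul_inv_cancel_left]⟩
    · rcases hsplit x with ⟨ha, -⟩ | ⟨ha, hb⟩
      · exact absurd (ha.symm.trans hx) hab
      · have h3 := pairPerm_sign_stab e ha hb
        rw [map_mul, map_inv, map_mul, map_inv, h1] at h3
        exact (inv_mul_eq_one.1 h3).symm

end

end CfsgLib.TwoTransAFive
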